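import Groth.Agent.KoszOrthLib.DQCohCoprod
import Groth.Agent.KFlatLib.LpullAdj
import Groth.Agent.KiehlLib.ExtFin
import Groth.Agent.PerfDualLib.Derived
import Groth.Agent.BidualSchLib.Exists
import Groth.Agent.PerfBaseLib.FlatProper

/-!
# Detecting isomorphisms of `DQCoh` through `Rf_* RHom(E, -)`
-/

set_option autoImplicit false
set_option linter.style.haveILetI false
set_option backward.isDefEq.respectTransparency false
set_option backward.isDefEq.respectTransparency.types false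
set_option maxHeartbeats 1000000

universe u

open CategoryTheory CategoryTheory.Limits AlgebraicGeometry CategoryTheory.Pretriangulated
open Groth.Agent.PerfDualLib (unitCx)

attribute [local instance] HasDerivedCategory.standard

namespace Groth.Agent.Dual3Lib

variable {X S : Scheme.{u}}

/-- `O ⊗^L E ≅ E`. -/
theorem nonempty_lTensorCx_unit (E : CochainComplex X.Modules ℤ) [DCoh.HasLTensorCx E] :
    Nonempty ((DCoh.LTensorCx E).obj (DerivedCategory.Q.obj (unitCx X)) ≅ DerivedCategory.Q.obj E) := by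
  obtain ⟨e⟩ := KFlatLib.exists_lTensorCxObjIso E (unitCx X) (PerfBaseLib.isKFlat_unitCx X)
  exact ⟨e ≪≫ DerivedCategory.Q.mapIso (KFlatLib.tCxFlip E (unitCx X) ≪≫ PerfDualLib.unitNat.app E)⟩

theorem bijective_map_of_iso {C : Type*} [Category C] {A A' B B' : C} (e : A' ≅ A) (ψ : B ⟶ B') :
    Function.Bijective (fun y : A ⟶ B => y ≫ ψ) ↔ Function.Bijective (fun y : A' ⟶ B => y ≫ ψ) := by
  have h : (fun y : A' ⟶ B => y ≫ ψ) =
      (Iso.homFromEquiv e).symm ∘ (fun y : A ⟶ B => y ≫ ψ) ∘ (Iso.homFromEquiv e) := by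
    funext y
    simp [Iso.homFromEquiv]
  rw [h, Equiv.comp_bijective, Equiv.bijective_comp]

theorem bijective_adj {C D : Type*} [Category C] [Category D] {L : C ⥤ D} {R : D ⥤ C} (adj : L ⊣ R)
    (A : C) {B B' : D} (ψ : B ⟶ B') :
    Function.Bijective (fun y : L.obj A ⟶ B => y ≫ ψ) ↔
      Function.Bijective (fun z : A ⟶ R.obj B => z ≫ R.map ψ) := by
  have h : (fun z : A ⟶ R.obj B => z ≫ R.map ψ) =
      (adj.homEquiv A B') ∘ (fun y : L.obj A ⟶ B => y ≫ ψ) ∘ (adj.homEquiv A B).symm := by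
    funext z
    simp [Adjunction.homEquiv_naturality_right]
  rw [h, Equiv.comp_bijective, Equiv.bijective_comp]

/-- Maps out of a perfect object see what `Rf_* RHom` sees. -/
theorem bijective_of_isIso_rpush_rSheafHom (f : X ⟶ S) [DCoh.HasRpush f] {F G : DCoh.D X} (φ : F ⟶ G)
    (E : CochainComplex X.Modules ℤ) [DCoh.HasLTensorCx E] [DCoh.HasRSheafHom E]
    (h : IsIso ((DCoh.Rpush f).map ((DCoh.RSheafHom E).map φ))) :
    Function.Bijective fun y : DerivedCategory.Q.obj E ⟶ F => y ≫ φ := by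
  obtain ⟨eE⟩ := nonempty_lTensorCx_unit E
  haveI := KFlatLib.hasLpull f
  refine (bijective_map_of_iso eE φ).2 ?_
  rw [bijective_adj (DCoh.RSheafHomAdj E)]
  refine (bijective_map_of_iso (KiehlLib.lpullUnitIso f) _).2 ?_
  rw [bijective_adj (KFlatLib.lpullRpushAdj f)]
  exact ((asIso ((DCoh.Rpush f).map ((DCoh.RSheafHom E).map φ))).homToEquiv).bijective

theorem isIso_of_rpush_rSheafHom [CompactSpace X] [QuasiSeparatedSpace X] (f : X ⟶ S) [DCoh.HasRpush f]
    {F G : DCoh.D X} (hF : DCoh.IsQCohD F) (hG : DCoh.IsQCohD G) (φ : F ⟶ G)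
    (h : ∀ (E : CochainComplex X.Modules ℤ) [DCoh.HasLTensorCx E] [DCoh.HasRSheafHom E],
      DCoh.IsPerfect (DCoh.toD X E) → IsIso ((DCoh.Rpush f).map ((DCoh.RSheafHom E).map φ))) :
    IsIso φ := by
  let ι := (DCoh.IsQCohD (X := X)).ι
  let φ' : (⟨F, hF⟩ : DCoh.DQCoh X) ⟶ ⟨G, hG⟩ := ObjectProperty.homMk φ
  haveI : IsIso φ' := KoszOrthLib.BrownLS.isIso_of_bijective_comp
    (E := fun _ : PUnit.{u + 1} => KoszOrthLib.genQ X) KoszOrthLib.isZero_of_forall_hom_genQ _ fun p => by
      let P := KoszOrthLib.BrownLS.sh (fun _ : PUnit.{u + 1} => KoszOrthLib.genQ X) p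
      have hP : DCoh.IsPerfect P.obj := PerfLib.isPerfect_of_iso
        ((ι.commShiftIso p.2).app (KoszOrthLib.genQ X)).symm
        (PerfLib.isPerfect_shift KoszOrthLib.isPerfect_genQ p.2)
      let E := DerivedCategory.Q.objPreimage P.obj
      let e := DerivedCategory.Q.objObjPreimageIso P.obj
      haveI := KFlatLib.hasLTensorCx E
      haveI := BidualSchLib.hasRSheafHom E
      have h1 := (bijective_map_of_iso e φ).2 (bijective_of_isIso_rpush_rSheafHom f φ E
        (h E (PerfLib.isPerfect_of_iso e.symm hP)))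
      refine ⟨fun y y' hy => ObjectProperty.hom_ext _ (h1.1 (congrArg (fun t => t.hom) hy)), fun z => ?_⟩
      obtain ⟨y, hy⟩ := h1.2 z.hom
      exact ⟨ObjectProperty.homMk y, ObjectProperty.hom_ext _ hy⟩
  exact inferInstanceAs (IsIso (ι.map φ'))

end Groth.Agent.Dual3Lib
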