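import Groth.Agent.InjModLib.Envelope
import Groth.Agent.InjModLib.Crit
import Groth.Agent.InjModLib.Stalk
import Groth.Agent.KFlatLib.QCohTerms
import Groth.Agent.ProjLib.Auslander
import Groth.Agent.CommAlgDim.LocPD
import Groth.Agent.DerLib.Devissage
import Groth.Agent.KoszOrthLib.Adj
import Groth.Prelude.Def_DCoh2
import Groth.Prelude.Def_Models
import Mathlib.CategoryTheory.Abelian.Injective.Dimension
import Mathlib.RingTheory.LocalProperties.ProjectiveDimension
import Mathlib.AlgebraicGeometry.AffineScheme

/-!
# Ext vanishing above the dimension on regular Noetherian schemes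
-/

set_option autoImplicit false
set_option linter.style.haveILetI false
set_option backward.isDefEq.respectTransparency false
set_option backward.isDefEq.respectTransparency.types false
set_option maxHeartbeats 1000000

universe w v u

open CategoryTheory CategoryTheory.Limits AlgebraicGeometry CategoryTheory.Pretriangulated

attribute [local instance] HasDerivedCategory.standard

noncomputable section

namespace Groth.Agent.Dual3Lib

section General

variable {C : Type u} [Category.{v} C] [Abelian C] [HasDerivedCategory.{w} C]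

open DerivedCategory DerivedCategory.TStructure

/-- Dévissage of bounded objects by their cohomology objects. -/
theorem prop_of_bounded (P : DerivedCategory C → Prop)
    (hiso : ∀ {A B : DerivedCategory C}, (A ≅ B) → P A → P B)
    (hext : ∀ T ∈ distTriang (DerivedCategory C), P T.obj₁ → P T.obj₃ → P T.obj₂)
    (hzero : ∀ {A : DerivedCategory C}, IsZero A → P A)
    (a : ℤ) (k : ℕ) (X : DerivedCategory C) [X.IsGE a] [X.IsLE (a + k)]
    (h : ∀ q : ℤ, a ≤ q → q ≤ a + k → P ((singleFunctor C q).obj ((homologyFunctor C q).obj X))) : P X := by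
  induction k generalizing X with
  | zero =>
    haveI : X.IsLE a := t.isLE_of_le X (a + ((0 : ℕ) : ℤ)) a (by omega)
    obtain ⟨e⟩ := DerLib.Devissage.nonempty_iso_single X a
    exact hiso e.symm (h a le_rfl (by omega))
  | succ k ih =>
    let b : ℤ := a + k
    haveI : X.IsLE (b + 1) := t.isLE_of_le X (a + ((k + 1 : ℕ) : ℤ)) (b + 1) (by simp [b]; omega)
    refine hext _ (t.triangleLEGT_distinguished b X) ?_ ?_
    · change P ((t.truncLE b).obj X)
      haveI : ((t.truncLE b).obj X).IsGE a := by
        rw [isGE_iff]
        intro i hi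
        haveI := DerLib.Devissage.isIso_homology_truncLEι X b i (by omega)
        exact (isZero_of_isGE X a i hi).of_iso (asIso ((homologyFunctor C i).map ((t.truncLEι b).app X)))
      haveI : ((t.truncLE b).obj X).IsLE (a + k) := t.isLE_of_le _ b (a + k) le_rfl
      refine ih _ fun q h₁ h₂ => ?_
      haveI := DerLib.Devissage.isIso_homology_truncLEι X b q h₂
      exact hiso ((singleFunctor C q).mapIso
        (asIso ((homologyFunctor C q).map ((t.truncLEι b).app X)))).symm (h q h₁ (by omega))
    · change P ((t.truncGT b).obj X)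
      haveI : ((t.truncGT b).obj X).IsLE (b + 1) := by
        rw [isLE_iff]
        intro i hi
        haveI := DerLib.Devissage.isIso_homology_truncGTπ X b i (by omega)
        exact (isZero_of_isLE X (b + 1) i hi).of_iso
          (asIso ((homologyFunctor C i).map ((t.truncGTπ b).app X))).symm
      obtain ⟨e⟩ := DerLib.Devissage.nonempty_iso_single ((t.truncGT b).obj X) (b + 1)
      haveI := DerLib.Devissage.isIso_homology_truncGTπ X b (b + 1) (by omega)
      exact hiso (((singleFunctor C (b + 1)).mapIso
        (asIso ((homologyFunctor C (b + 1)).map ((t.truncGTπ b).app X)))) ≪≫ e.symm)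
        (h (b + 1) (by omega) (by omega))

/-- Maps between bounded objects vanish if those between their shifted cohomology objects do. -/
theorem hom_eq_zero_of_singles {K L : DerivedCategory C} (lo hi lo' hi' : ℤ) [K.IsGE lo] [K.IsLE hi]
    [L.IsGE lo'] [L.IsLE hi']
    (h : ∀ p q : ℤ, lo ≤ p → q ≤ hi' → ∀ φ : (singleFunctor C p).obj ((homologyFunctor C p).obj K) ⟶
      (singleFunctor C q).obj ((homologyFunctor C q).obj L), φ = 0) (φ : K ⟶ L) : φ = 0 := by
  by_cases hK : hi < lo
  · exact IsZero.eq_of_src (t.isZero K hi lo hK) φ 0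
  by_cases hL : hi' < lo'
  · exact IsZero.eq_of_tgt (t.isZero L hi' lo' hL) φ 0
  obtain ⟨k, hk⟩ := Int.le.dest (not_lt.1 hK)
  obtain ⟨k', hk'⟩ := Int.le.dest (not_lt.1 hL)
  haveI : K.IsLE (lo + k) := hk.symm ▸ inferInstance
  haveI : L.IsLE (lo' + k') := hk'.symm ▸ inferInstance
  refine prop_of_bounded (fun A => ∀ f : A ⟶ L, f = 0) (fun e hA f => by
      rw [← cancel_epi e.hom, comp_zero]; exact hA _)
    (fun T hT h₁ h₃ f => by
      obtain ⟨g, hg⟩ := Triangle.yoneda_exact₂ T hT f (h₁ _)
      rw [hg, h₃ g, comp_zero])
    (fun hA f => hA.eq_of_src _ _) lo k K (fun p hp _ => ?_) φ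
  refine prop_of_bounded (fun B => ∀ f : (singleFunctor C p).obj ((homologyFunctor C p).obj K) ⟶ B, f = 0)
    (fun e hB f => by rw [← cancel_mono e.inv, zero_comp]; exact hB _)
    (fun T hT h₁ h₃ f => by
      obtain ⟨g, hg⟩ := Triangle.coyoneda_exact₂ T hT f (h₃ _)
      rw [hg, h₁ g, zero_comp])
    (fun hB f => hB.eq_of_tgt _ _) lo' k' L (fun q _ hq => h p q hp (by omega))

/-- Maps between shifted objects vanish in degrees above the injective dimension. -/
theorem single_hom_eq_zero [HasExt.{v} C] {M N : C} {n : ℕ} [HasInjectiveDimensionLT N n] (p q : ℤ)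
    (hpq : (n : ℤ) ≤ p - q) (φ : (singleFunctor C p).obj M ⟶ (singleFunctor C q).obj N) : φ = 0 := by
  obtain ⟨m, hm⟩ := Int.eq_ofNat_of_zero_le (show 0 ≤ p - q by omega)
  haveI := HasInjectiveDimensionLT.subsingleton N n m (by omega) M
  haveI : Subsingleton ((singleFunctor C 0).obj M ⟶ ((singleFunctor C 0).obj N)⟦(m : ℤ)⟧) :=
    (Abelian.Ext.homEquiv (C := C) (X := M) (Y := N) (n := m)).symm.subsingleton
  let eM : ((singleFunctor C p).obj M)⟦p⟧ ≅ (singleFunctor C 0).obj M :=
    (((singleFunctors C).shiftIso p 0 p (add_zero p)).app M)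
  let eN : ((singleFunctor C q).obj N)⟦p⟧ ≅ ((singleFunctor C 0).obj N)⟦(m : ℤ)⟧ :=
    (shiftFunctorAdd' (DerivedCategory C) q (m : ℤ) p (by omega)).app _ ≪≫
      (shiftFunctor _ (m : ℤ)).mapIso (((singleFunctors C).shiftIso q 0 q (add_zero q)).app N)
  refine (shiftFunctor (DerivedCategory C) p).map_injective ?_
  rw [Functor.map_zero, ← cancel_epi eM.inv, ← cancel_mono eN.hom]
  exact Subsingleton.elim _ _

end General

section Ring

variable (A : Type u) [CommRing A] [IsNoetherianRing A]

/-- A regular ring of dimension at most `d` has global dimension at most `d`. -/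
theorem hasInjectiveDimensionLT_of_regular
    (hreg : ∀ m : MaximalSpectrum A, IsRegularLocalRing (Localization.AtPrime m.asIdeal)) (d : ℕ)
    (hd : ringKrullDim A ≤ d) (M : ModuleCat.{u} A) : HasInjectiveDimensionLT M (d + 1) := by
  have hpd : ∀ N : ModuleCat.{u} A, HasProjectiveDimensionLT N (d + 1) := by
    refine ProjLib.hasProjectiveDimensionLT_of_cyclic d fun I => ?_
    haveI : Module.Finite A (ModuleCat.of A (A ⧸ I)) := inferInstanceAs (Module.Finite A (A ⧸ I))
    refine (ModuleCat.hasProjectiveDimensionLE_iff_forall_maximalSpectrum d _).2 fun m => ?_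
    haveI := hreg m
    let S := m.asIdeal.primeCompl
    haveI : IsLocalizedModule S ((ModuleCat.of A (A ⧸ I)).localizedModuleMkLinearMap S) :=
      ModuleCat.localizedModule_isLocalizedModule (ModuleCat.of A (A ⧸ I)) S
    refine CommAlgDim.PDLT.of_equiv (LinearEquiv.extendScalarsOfIsLocalization S (Localization S)
      (IsLocalizedModule.linearEquiv S (LocalizedModule.mkLinearMap S (A ⧸ I))
        ((ModuleCat.of A (A ⧸ I)).localizedModuleMkLinearMap S)))
      ((CommAlgDim.pdlt_of_isRegularLocalRing (Localization.AtPrime m.asIdeal) _).mono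
        (Nat.add_le_add_right ?_ 1))
    have h1 : ((IsLocalRing.maximalIdeal (Localization.AtPrime m.asIdeal)).spanFinrank : WithBot ℕ∞) ≤ d := by
      rw [IsRegularLocalRing.spanFinrank_maximalIdeal, IsLocalization.AtPrime.ringKrullDim_eq_height m.asIdeal]
      exact (Ideal.height_le_ringKrullDim_of_ne_top m.isMaximal.ne_top).trans hd
    exact_mod_cast h1
  refine HasInjectiveDimensionLT.mk fun i hi Y e => ?_
  haveI := hpd Y
  exact Abelian.Ext.eq_zero_of_hasProjectiveDimensionLT e (d + 1) hi

end Ring

section Scheme

variable {R : CommRingCat.{u}}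

theorem injective_gamma (J : (Spec R).Modules) [Injective J] :
    Injective (moduleSpecΓFunctor.obj J) :=
  haveI := KFlatLib.preservesHomology_tilde (R := R)
  haveI : PreservesFiniteLimits (tilde.functor R) := HensSchLib.tilde_preservesFiniteLimits _
  Injective.injective_of_adjoint (tilde.adjunction (R := R)) J

theorem injective_of_injective_sections [IsLocallyNoetherian (Spec R)] (G : (Spec R).Modules) [Coh.IsQCoh G]
    [Injective (moduleSpecΓFunctor.obj G)] : Injective G := by
  obtain ⟨J, m, _, hJ, hJi⟩ := InjModLib.exists_injective_qcoh_envelope G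
  haveI := KFlatLib.isIso_counit_of_qcoh G inferInstance
  haveI := KFlatLib.isIso_counit_of_qcoh J hJ
  haveI : PreservesLimitsOfSize.{0, 0} (moduleSpecΓFunctor (R := R)) :=
    (tilde.adjunction (R := R)).rightAdjoint_preservesLimits
  let r := Injective.factorThru (𝟙 (moduleSpecΓFunctor.obj G)) (moduleSpecΓFunctor.map m)
  let c := (tilde.adjunction (R := R)).counit
  refine (Retract.mk m (inv (c.app J) ≫ (tilde.functor R).map r ≫ c.app G) ?_).injective
  have hn : (tilde.functor R).map (moduleSpecΓFunctor.map m) ≫ c.app J = c.app G ≫ m := c.naturality m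
  have hn' : m ≫ inv (c.app J) = inv (c.app G) ≫ (tilde.functor R).map (moduleSpecΓFunctor.map m) := by
    rw [IsIso.eq_inv_comp, ← Category.assoc]
    exact (IsIso.comp_inv_eq _).2 hn.symm
  have hr : (tilde.functor R).map (moduleSpecΓFunctor.map m) ≫ (tilde.functor R).map r = 𝟙 _ := by
    rw [← Functor.map_comp, Injective.comp_factorThru, CategoryTheory.Functor.map_id]
  calc m ≫ inv (c.app J) ≫ (tilde.functor R).map r ≫ c.app G
      = (m ≫ inv (c.app J)) ≫ (tilde.functor R).map r ≫ c.app G := (Category.assoc _ _ _).symm
    _ = 𝟙 G := by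
      rw [hn', Category.assoc]
      refine (congrArg (inv (c.app G) ≫ ·) ((Category.assoc _ _ _).symm.trans
        ((congrArg (· ≫ c.app G) hr).trans (Category.id_comp _)))).trans ?_
      exact IsIso.inv_hom_id _

variable {X : Scheme.{u}}

/-- Sections over affine open pieces have injective dimension less than `n`. -/
def LocInjDimLT (n : ℕ) (G : X.Modules) : Prop :=
  ∀ (R : CommRingCat.{u}) (j : Spec R ⟶ X) [IsOpenImmersion j],
    HasInjectiveDimensionLT (moduleSpecΓFunctor.obj ((Scheme.Modules.restrictFunctor j).obj G)) n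

theorem hasInjectiveDimensionLT_of_loc [IsLocallyNoetherian X] (n : ℕ) (G : X.Modules) [Coh.IsQCoh G]
    (h : LocInjDimLT (n + 1) G) : HasInjectiveDimensionLT G (n + 1) := by
  have hq : ∀ (M : X.Modules) [Coh.IsQCoh M] (R : CommRingCat.{u}) (j : Spec R ⟶ X) [IsOpenImmersion j],
      Coh.IsQCoh ((Scheme.Modules.restrictFunctor j).obj M) := fun M _ R j _ => by
    haveI := KFlatLib.isQCoh_pullback j M
    exact QCohLib.isQCoh_of_iso ((Scheme.Modules.restrictFunctorIsoPullback j).app M).symm
  induction n generalizing G with
  | zero =>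
    refine (injective_iff_hasInjectiveDimensionLT_one (X := G)).1 (InjModLib.injective_of_cover
      (fun x : X => (X.affineOpenCover.f (X.affineOpenCover.idx x))) (fun x => ⟨x, X.affineOpenCover.covers x⟩) G
      fun x => ?_)
    haveI := hq G _ (X.affineOpenCover.f (X.affineOpenCover.idx x))
    haveI : Injective (moduleSpecΓFunctor.obj
        ((Scheme.Modules.restrictFunctor (X.affineOpenCover.f (X.affineOpenCover.idx x))).obj G)) :=
      injective_iff_hasInjectiveDimensionLT_one.2 (h _ _)
    haveI : IsLocallyNoetherian (Spec (X.affineOpenCover.X (X.affineOpenCover.idx x))) :=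
      isLocallyNoetherian_of_isOpenImmersion (X.affineOpenCover.f (X.affineOpenCover.idx x))
    exact injective_of_injective_sections _
  | succ n ih =>
    obtain ⟨J, m, _, hJ, hJi⟩ := InjModLib.exists_injective_qcoh_envelope G
    haveI : Coh.IsQCoh (cokernel m) := QCohLib.isQCoh_cokernel m
    let S := ShortComplex.mk m (cokernel.π m) (cokernel.condition m)
    have hS : S.ShortExact :=
      { exact := ShortComplex.exact_of_g_is_cokernel _ (cokernelIsCokernel m) }
    refine (hS.hasInjectiveDimensionLT_X₃_iff n hJi).1 (ih (cokernel m) fun R j _ => ?_)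
    let F := Scheme.Modules.restrictFunctor j ⋙ moduleSpecΓFunctor
    haveI := KFlatLib.preservesHomology_tilde (R := R)
    let T := S.map (Scheme.Modules.restrictFunctor j)
    have hT : T.ShortExact := hS.map_of_exact _
    haveI := hq G R j
    haveI := hq J R j
    haveI := hq (cokernel m) R j
    let Γ' := moduleSpecΓFunctor (R := R)
    haveI : Γ'.Additive := (tilde.adjunction (R := R)).right_adjoint_additive
    have hΓ : (T.map Γ').ShortExact := by
      let e : (T.map Γ').map (tilde.functor R) ≅ T :=
        haveI := KFlatLib.isIso_counit_of_qcoh T.X₁ ‹_›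
        haveI := KFlatLib.isIso_counit_of_qcoh T.X₂ ‹_›
        haveI := KFlatLib.isIso_counit_of_qcoh T.X₃ ‹_›
        ShortComplex.isoMk (asIso ((tilde.adjunction (R := R)).counit.app T.X₁))
          (asIso ((tilde.adjunction (R := R)).counit.app T.X₂))
          (asIso ((tilde.adjunction (R := R)).counit.app T.X₃))
          ((tilde.adjunction (R := R)).counit.naturality T.f).symm
          ((tilde.adjunction (R := R)).counit.naturality T.g).symm
      haveI : (tilde.functor R).Faithful :=
        (tilde.adjunction (R := R)).fullyFaithfulLOfIsIsoUnit.faithful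
      have hTT := ShortComplex.shortExact_of_iso e.symm hT
      exact
        { exact := (ShortComplex.exact_map_iff_of_faithful _ (tilde.functor R)).1 hTT.exact
          mono_f := (tilde.functor R).mono_of_mono_map hTT.mono_f
          epi_g := (tilde.functor R).epi_of_epi_map hTT.epi_g }
    haveI : Injective ((Scheme.Modules.restrictFunctor j).obj J) := by
      haveI := InjModLib.injective_restrict_ι j.opensRange J
      have hi : Injective ((Scheme.Modules.restrictFunctor j.opensRange.ι ⋙
          Scheme.Modules.restrictFunctor j.isoOpensRange.hom).obj J) := InjModLib.injective_restrict_iso j.isoOpensRange.hom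
        ((Scheme.Modules.restrictFunctor j.opensRange.ι).obj J)
      exact Injective.of_iso ((Scheme.Modules.restrictFunctorComp j.isoOpensRange.hom j.opensRange.ι).symm.app J ≪≫
        (Scheme.Modules.restrictFunctorCongr j.isoOpensRange_hom_ι).app J) hi
    haveI : Injective (T.map Γ').X₂ := injective_gamma ((Scheme.Modules.restrictFunctor j).obj J)
    exact (hΓ.hasInjectiveDimensionLT_X₃_iff n inferInstance).2 (h R j)

/-- Quasi-coherent modules on a regular Noetherian scheme of dimension `d` have injective dimension at most `d`. -/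
theorem hasInjectiveDimensionLT_of_isRegularScheme [IsLocallyNoetherian X] (hreg : Models.IsRegularScheme X)
    (d : ℕ) (hd : topologicalKrullDim X ≤ d) (G : X.Modules) [Coh.IsQCoh G] :
    HasInjectiveDimensionLT G (d + 1) := by
  refine hasInjectiveDimensionLT_of_loc d G fun R j _ => ?_
  haveI : IsLocallyNoetherian (Spec R) := isLocallyNoetherian_of_isOpenImmersion j
  haveI : IsNoetherianRing R := (isLocallyNoetherian_Spec).1 inferInstance
  refine hasInjectiveDimensionLT_of_regular R (fun m => ?_) d ?_ _
  · let p : PrimeSpectrum R := m.toPrimeSpectrum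
    haveI := hreg (j p)
    exact IsRegularLocalRing.of_ringEquiv
      ((asIso (j.stalkMap p)).commRingCatIsoToRingEquiv.trans (Spec.stalkIso R p).commRingCatIsoToRingEquiv)
  · rw [← PrimeSpectrum.topologicalKrullDim_eq_ringKrullDim]
    exact (j.isOpenEmbedding.isInducing.topologicalKrullDim_le).trans hd

/-- Maps between bounded coherent objects with far apart cohomology vanish. -/
theorem hom_eq_zero_of_gap [IsLocallyNoetherian X] (hreg : Models.IsRegularScheme X) (d : ℕ)
    (hd : topologicalKrullDim X ≤ d) {K L : DCoh.D X} (hL : DCoh.IsQCohD L) (a cK bL : ℤ)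
    [K.IsGE (a + d)] [K.IsLE cK] [L.IsGE bL] [L.IsLE (a - 1)] (φ : K ⟶ L) : φ = 0 := by
  refine hom_eq_zero_of_singles (a + d) cK bL (a - 1) (fun p q hp hq f => ?_) φ
  haveI : Coh.IsQCoh ((DerivedCategory.homologyFunctor X.Modules q).obj L) := hL q
  haveI := hasInjectiveDimensionLT_of_isRegularScheme hreg d hd ((DerivedCategory.homologyFunctor X.Modules q).obj L)
  exact single_hom_eq_zero (n := d + 1) p q (by omega) f

end Scheme

end Groth.Agent.Dual3Lib
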