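import Groth.Agent.Dual3Lib.DualNat
import Groth.Agent.ProjFormLib.Main
import Groth.Agent.KFlatLib.LpullTensor
import Groth.Agent.KFlatLib.LpullComp
import Groth.Agent.KFlatLib.LpullAdj
import Groth.Agent.KFlatLib.DerivedCoprod

/-!
# `Lf^*` and the derived tensor product, naturally; inverse image along isomorphisms
-/

set_option autoImplicit false
set_option linter.style.haveILetI false
set_option backward.isDefEq.respectTransparency false
set_option backward.isDefEq.respectTransparency.types false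
set_option maxHeartbeats 1000000

universe u

open CategoryTheory CategoryTheory.Limits AlgebraicGeometry HomologicalComplex
open Groth.Agent.DerLib Groth.Agent.PerfDualLib Groth.Agent.ProjFormLib

attribute [local instance] HasDerivedCategory.standard

namespace Groth.Agent.Dual3Lib

variable {X Y : Scheme.{u}} (f : X ⟶ Y)

/-- Descend an isomorphism defined on resolutions. -/
theorem nonempty_iso_of_resP {D : Type*} [Category D] (F G : DCoh.D Y ⥤ D)
    (e : KFlatLib.resP Y ⋙ DerivedCategory.Q ⋙ F ≅ KFlatLib.resP Y ⋙ DerivedCategory.Q ⋙ G) :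
    Nonempty (F ≅ G) :=
  ⟨Localization.liftNatIso DerivedCategory.Q
    (HomologicalComplex.quasiIso Y.Modules (ComplexShape.up ℤ))
    (DerivedCategory.Q ⋙ F) (DerivedCategory.Q ⋙ G) _ _
    (TensorAssocLib.resIso F ≪≫ e ≪≫ (TensorAssocLib.resIso G).symm)⟩

variable [DCoh.HasLpull f]

/-- `Lf^*` on complexes with K-flat values. -/
noncomputable def pullResIso {R : Cx Y ⥤ Cx Y} (hR : ∀ M, DCoh.IsKFlat (R.obj M)) :
    R ⋙ DerivedCategory.Q ⋙ DCoh.Lpull f ≅ R ⋙ KFlatLib.pullCx f ⋙ DerivedCategory.Q :=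
  NatIso.ofComponents (fun M => KFlatLib.lpullObjIso f _ (hR M))
    fun g => KFlatLib.leftDerivedObjIso_natural (KFlatLib.preservesKFlatQis_pull f) (hR _) (hR _) (R.map g)

/-- `f^*(- ⊗ L) ≅ f^*(-) ⊗ f^*L` on complexes. -/
noncomputable def pullTRIso (L : Cx Y) :
    TensorAssocLib.tR L ⋙ KFlatLib.pullCx f ≅
      KFlatLib.pullCx f ⋙ TensorAssocLib.tR ((KFlatLib.pullCx f).obj L) :=
  (NatIso.ofComponents (fun P => KFlatLib.pullTensorCxIso f P L)
    fun a => pullTensor_natural₁ f a L).symm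

omit [DCoh.HasLpull f] in
theorem isKFlat_resP_tR {L : Cx Y} (hL : DCoh.IsKFlat L) (M : Cx Y) :
    DCoh.IsKFlat ((KFlatLib.resP Y ⋙ TensorAssocLib.tR L).obj M) := by
  rw [Functor.comp_obj, show (TensorAssocLib.tR L).obj ((KFlatLib.resP Y).obj M) =
    ((DCoh.tensorCx (X := Y)).obj ((KFlatLib.resP Y).obj M)).obj L from rfl]
  exact KFlatLib.isKFlat_tensorCx (KFlatLib.good_resP M).1 hL

section
variable (L : Cx Y) (hL : DCoh.IsKFlat L) [DCoh.HasLTensorCx L]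
  [DCoh.HasLTensorCx ((KFlatLib.pullCx f).obj L)]

/-- The left hand side on resolutions. -/
noncomputable def pullTensorLhs :
    KFlatLib.resP Y ⋙ DerivedCategory.Q ⋙ DCoh.LTensorCx L ⋙ DCoh.Lpull f ≅
      (KFlatLib.resP Y ⋙ TensorAssocLib.tR L) ⋙ KFlatLib.pullCx f ⋙ DerivedCategory.Q :=
  let e : KFlatLib.resP Y ⋙ DerivedCategory.Q ⋙ DCoh.LTensorCx L ⋙ DCoh.Lpull f ≅
      (KFlatLib.resP Y ⋙ TensorAssocLib.tR L) ⋙ DerivedCategory.Q ⋙ DCoh.Lpull f :=
    (Functor.isoWhiskerLeft (KFlatLib.resP Y) (Functor.associator _ _ _).symm) ≪≫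
      (Functor.associator _ _ _).symm ≪≫
      Functor.isoWhiskerRight (TensorAssocLib.resCnt L) (DCoh.Lpull f) ≪≫
      Functor.associator _ _ _ ≪≫ Functor.isoWhiskerLeft (KFlatLib.resP Y) (Functor.associator _ _ _) ≪≫
      (Functor.associator _ _ _).symm
  e ≪≫ pullResIso f (R := KFlatLib.resP Y ⋙ TensorAssocLib.tR L)
    (isKFlat_resP_tR hL)

/-- The right hand side on resolutions. -/
noncomputable def pullTensorRhs :
    KFlatLib.resP Y ⋙ DerivedCategory.Q ⋙ DCoh.Lpull f ⋙ DCoh.LTensorCx ((KFlatLib.pullCx f).obj L) ≅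
      (KFlatLib.resP Y ⋙ KFlatLib.pullCx f) ⋙ TensorAssocLib.tR ((KFlatLib.pullCx f).obj L) ⋙ DerivedCategory.Q :=
  let e : KFlatLib.resP Y ⋙ DerivedCategory.Q ⋙ DCoh.Lpull f ⋙ DCoh.LTensorCx ((KFlatLib.pullCx f).obj L) ≅
      (KFlatLib.resP Y ⋙ KFlatLib.pullCx f) ⋙ DerivedCategory.Q ⋙ DCoh.LTensorCx ((KFlatLib.pullCx f).obj L) :=
    Functor.isoWhiskerLeft (KFlatLib.resP Y) (Functor.associator _ _ _).symm ≪≫
      (Functor.associator _ _ _).symm ≪≫
      Functor.isoWhiskerRight (pullResIso f (R := KFlatLib.resP Y) fun M => (KFlatLib.good_resP M).1)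
        (DCoh.LTensorCx ((KFlatLib.pullCx f).obj L)) ≪≫
      Functor.associator _ _ _ ≪≫ Functor.isoWhiskerLeft (KFlatLib.resP Y) (Functor.associator _ _ _) ≪≫
      (Functor.associator _ _ _).symm
  e ≪≫ Functor.isoWhiskerLeft (KFlatLib.resP Y ⋙ KFlatLib.pullCx f)
    (TensorAssocLib.flatCnt _ (KFlatLib.isKFlat_pull f hL))

include hL in
/-- `Lf^*(- ⊗^L L) ≅ Lf^*(-) ⊗^L f^*L`, for K-flat `L`. -/
theorem nonempty_lTensor_lpull :
    Nonempty (DCoh.LTensorCx L ⋙ DCoh.Lpull f ≅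
      DCoh.Lpull f ⋙ DCoh.LTensorCx ((KFlatLib.pullCx f).obj L)) :=
  nonempty_iso_of_resP _ _
    (pullTensorLhs f L hL ≪≫
      Functor.isoWhiskerLeft (KFlatLib.resP Y) (Functor.isoWhiskerRight (pullTRIso f L) DerivedCategory.Q) ≪≫
      (pullTensorRhs f L hL).symm)

end

/-- Inverse image along the identity. -/
theorem nonempty_lpull_id (g : X ⟶ X) (hg : g = 𝟙 X) [DCoh.HasLpull g] :
    Nonempty (DCoh.Lpull g ≅ 𝟭 (DCoh.D X)) :=
  nonempty_iso_of_resP _ _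
    (pullResIso g (R := KFlatLib.resP X) (fun M => (KFlatLib.good_resP M).1) ≪≫
      Functor.isoWhiskerLeft (KFlatLib.resP X) (Functor.isoWhiskerRight
        (NatIso.mapHomologicalComplex (Scheme.Modules.pullbackCongr hg ≪≫ Scheme.Modules.pullbackId X)
          (ComplexShape.up ℤ) ≪≫ Functor.mapHomologicalComplexIdIso _ _) DerivedCategory.Q))

/-- Inverse images along an isomorphism and its inverse cancel. -/
theorem nonempty_lpull_iso_comp (σ : X ≅ Y) [DCoh.HasLpull σ.hom] [DCoh.HasLpull σ.inv] :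
    Nonempty (DCoh.Lpull σ.hom ⋙ DCoh.Lpull σ.inv ≅ 𝟭 (DCoh.D Y)) := by
  haveI := KFlatLib.hasLpull (σ.inv ≫ σ.hom)
  obtain ⟨e⟩ := KFlatLib.lpull_comp σ.inv σ.hom
  obtain ⟨e'⟩ := nonempty_lpull_id (σ.inv ≫ σ.hom) σ.inv_hom_id
  exact ⟨e ≪≫ e'⟩

/-- Direct image along an isomorphism is inverse image along its inverse. -/
theorem nonempty_rpush_iso_lpull (σ : X ≅ Y) [DCoh.HasLpull σ.hom] [DCoh.HasLpull σ.inv]
    [DCoh.HasRpush σ.hom] : Nonempty (DCoh.Rpush σ.hom ≅ DCoh.Lpull σ.inv) := by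
  obtain ⟨e₁⟩ := nonempty_lpull_iso_comp σ
  haveI : DCoh.HasLpull σ.symm.hom := ‹DCoh.HasLpull σ.inv›
  haveI : DCoh.HasLpull σ.symm.inv := ‹DCoh.HasLpull σ.hom›
  obtain ⟨e₂⟩ := nonempty_lpull_iso_comp σ.symm
  exact ⟨(KFlatLib.lpullRpushAdj σ.hom).rightAdjointUniq
    (CategoryTheory.Equivalence.mk (DCoh.Lpull σ.hom) (DCoh.Lpull σ.inv) e₁.symm e₂).toAdjunction⟩

/-- Transport of a tensor functor along an isomorphism. -/
theorem nonempty_conj_lTensor (σ : X ≅ Y) (K : Cx X) [DCoh.HasLTensorCx K] [DCoh.HasLpull σ.hom]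
    [DCoh.HasRpush σ.hom] :
    ∃ (N : Cx Y) (_ : DCoh.HasLTensorCx N), DCoh.IsKFlat N ∧
      Nonempty (DCoh.Lpull σ.hom ⋙ DCoh.LTensorCx K ⋙ DCoh.Rpush σ.hom ≅ DCoh.LTensorCx N) ∧
      ∀ [DCoh.HasLpull σ.inv], Nonempty (DCoh.toD Y N ≅ (DCoh.Lpull σ.inv).obj (DCoh.toD X K)) := by
  haveI := KFlatLib.hasLpull σ.inv
  let K₁ := (KFlatLib.resP X).obj K
  let q : K₁ ⟶ K := (KFlatLib.resψ X).app K
  haveI : QuasiIso q := KFlatLib.quasiIso_resψ K
  haveI := KFlatLib.hasLTensorCx K₁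
  obtain ⟨ω⟩ := nonempty_lTensor_congr q
  let N := (KFlatLib.pullCx σ.inv).obj K₁
  haveI := KFlatLib.hasLTensorCx N
  obtain ⟨eP⟩ := nonempty_lTensor_lpull σ.inv K₁ (KFlatLib.good_resP K).1
  obtain ⟨er⟩ := nonempty_rpush_iso_lpull σ
  obtain ⟨ec⟩ := nonempty_lpull_iso_comp σ
  refine ⟨N, inferInstance, KFlatLib.isKFlat_pull σ.inv (KFlatLib.good_resP K).1, ⟨?_⟩, fun {_} => ⟨?_⟩⟩
  · exact Functor.isoWhiskerLeft (DCoh.Lpull σ.hom)
      (Functor.isoWhiskerLeft (DCoh.LTensorCx K) er ≪≫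
        Functor.isoWhiskerRight ω.symm (DCoh.Lpull σ.inv) ≪≫ eP) ≪≫
      (Functor.associator _ _ _).symm ≪≫ Functor.isoWhiskerRight ec _ ≪≫ Functor.leftUnitor _
  · exact (KFlatLib.lpullObjIso σ.inv K₁ (KFlatLib.good_resP K).1).symm ≪≫
      (DCoh.Lpull σ.inv).mapIso (asIso (DerivedCategory.Q.map q))

end Groth.Agent.Dual3Lib
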