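import Groth.Agent.Dual3Lib.PushHom
import Groth.Agent.PerfDualLib.Dual
import Groth.Agent.KiehlLib.Tensor

/-!
# `Rf_*(aQ ⊗ E)` is coherent for coherent bounded below `Q` and perfect `E`
-/

set_option autoImplicit false
set_option linter.style.haveILetI false
set_option backward.isDefEq.respectTransparency false
set_option backward.isDefEq.respectTransparency.types false
set_option maxHeartbeats 1000000

universe u

open CategoryTheory CategoryTheory.Limits AlgebraicGeometry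
open Groth.Agent.DerLib Groth.Agent.PerfDualLib Groth.Agent.ProjFormLib

attribute [local instance] HasDerivedCategory.standard

namespace Groth.Agent.Dual3Lib

variable {X Y : Scheme.{u}}

theorem nonempty_rSheafHom_unit (X : Scheme.{u}) [DCoh.HasLTensorCx (unitCx X)]
    [DCoh.HasRSheafHom (unitCx X)] :
    Nonempty ((DCoh.RSheafHom (unitCx X)).obj (DerivedCategory.Q.obj (unitCx X)) ≅
      DerivedCategory.Q.obj (unitCx X)) := by
  obtain ⟨J, hJ, ⟨eJ⟩⟩ := KInjUse.exists_iso_Q_kInjective (DerivedCategory.Q.obj (unitCx X))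
  haveI := hJ
  obtain ⟨g⟩ := nonempty_rSheafHom_iso (unitCx X) J eJ.symm
  exact ⟨g ≪≫ DerivedCategory.Q.mapIso (gUnitIso.app J) ≪≫ eJ.symm⟩

/-- Biduality, in the form used below. -/
theorem nonempty_rSheafHom_dual (R I : Cx X) (hR : DCoh.IsPerfect (DerivedCategory.Q.obj R))
    (hI : DCoh.IsPerfect (DerivedCategory.Q.obj I)) [DCoh.HasLTensorCx R] [DCoh.HasRSheafHom R]
    [DCoh.HasLTensorCx (unitCx X)] [DCoh.HasRSheafHom (unitCx X)] [DCoh.HasLTensorCx I] [DCoh.HasRSheafHom I]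
    (eI : DerivedCategory.Q.obj I ≅ (DCoh.RSheafHom R).obj (DerivedCategory.Q.obj (unitCx X)))
    (M : DCoh.D X) : Nonempty ((DCoh.LTensorCx R).obj M ≅ (DCoh.RSheafHom I).obj M) := by
  obtain ⟨eu⟩ := nonempty_rSheafHom_unit X
  obtain ⟨b⟩ := nonempty_lTensor_rSheafHom R (unitCx X) hR I eI (DerivedCategory.Q.obj (unitCx X))
  obtain ⟨t⟩ := nonempty_lTensorCx_unit R
  exact nonempty_lTensor_dual I hI R (t.symm ≪≫ (DCoh.LTensorCx R).mapIso eu.symm ≪≫ b) M

/-- A K-injective model of the dual of a perfect object turns `⊗ E` into `RHom`. -/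
theorem exists_dual {E : DCoh.D X} (hE : DCoh.IsPerfect E) :
    ∃ (I : Cx X) (_ : I.IsKInjective) (_ : DCoh.HasLTensorCx I) (_ : DCoh.HasRSheafHom I),
      DCoh.IsPerfect (DerivedCategory.Q.obj I) ∧
        ∀ M : DCoh.D X, Nonempty ((DCoh.RSheafHom I).obj M ≅ ten M E) := by
  have hR : DCoh.IsPerfect (DerivedCategory.Q.obj (rep E)) := PerfLib.isPerfect_of_iso (repIso E).symm hE
  haveI := BidualSchLib.hasRSheafHom (rep E)
  haveI := KFlatLib.hasLTensorCx (unitCx X)
  haveI := BidualSchLib.hasRSheafHom (unitCx X)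
  obtain ⟨I, hI, ⟨eI⟩⟩ :=
    KInjUse.exists_iso_Q_kInjective ((DCoh.RSheafHom (rep E)).obj (DerivedCategory.Q.obj (unitCx X)))
  haveI := hI
  haveI := KFlatLib.hasLTensorCx I
  haveI := BidualSchLib.hasRSheafHom I
  have hIp : DCoh.IsPerfect (DerivedCategory.Q.obj I) :=
    PerfLib.isPerfect_of_iso eI (isPerfect_dual (rep E) hR)
  refine ⟨I, hI, inferInstance, inferInstance, hIp, fun M => ?_⟩
  obtain ⟨c⟩ := nonempty_rSheafHom_dual (rep E) I hR hIp eI.symm M
  exact ⟨c.symm⟩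

/-- The twisted direct images are coherent. -/
theorem isCohD_rpush_ten_rightAdjoint [IsNoetherian Y] (f : X ⟶ Y) [IsProper f] [DCoh.HasRpush f]
    (hf : DCoh.RpushPreservesQCoh f) (a : DCoh.DQCoh Y ⥤ DCoh.DQCoh X) (adj : DCoh.RpushQ f hf ⊣ a)
    (Q : DCoh.DQCoh Y) (hQ : DCoh.IsCohD Q.obj) (c : ℤ) [Q.obj.IsGE c] {E : DCoh.D X}
    (hE : DCoh.IsPerfect E) : DCoh.IsCohD ((DCoh.Rpush f).obj (ten (a.obj Q).obj E)) := by
  haveI : IsLocallyNoetherian X := LocallyOfFiniteType.isLocallyNoetherian f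
  haveI : CompactSpace X := QuasiCompact.compactSpace_of_compactSpace f
  haveI : IsNoetherian X := ⟨⟩
  obtain ⟨I, hI, hT, hH, hIp, hIso⟩ := exists_dual hE
  haveI := hI
  haveI := hT
  haveI := hH
  obtain ⟨eI⟩ := hIso (a.obj Q).obj
  let A := (KFlatLib.resP Y).obj ((pushC f).obj I)
  let ψ : A ⟶ (pushC f).obj I := (KFlatLib.resψ Y).app ((pushC f).obj I)
  haveI : QuasiIso ψ := KFlatLib.quasiIso_resψ _
  have hA : DCoh.IsKFlat A := (KFlatLib.good_resP _).1
  haveI := KFlatLib.hasLTensorCx A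
  haveI := BidualSchLib.hasRSheafHom A
  haveI := isIso_pushQ f I
  have hD : DCoh.IsCohD ((DCoh.RSheafHom A).obj Q.obj) := fun i =>
    isCoh_HD_rSheafHom_of_isPC A (m := c - i - 1)
      (PerfLib.isPC_of_iso (asIso (DerivedCategory.Q.map ψ) ≪≫ asIso (pushQ f I)).symm
        (isPC_rpush_of_isPerfect f hIp _)) Q.obj hQ c i (by omega)
  obtain ⟨e⟩ := nonempty_pushHom f hf a adj Q I hIp A ψ hA (fun i => (hD i).1)
  exact fun i => QCohLib.isCoh_of_iso ((DerivedCategory.homologyFunctor Y.Modules i).mapIso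
    (e.symm ≪≫ (DCoh.Rpush f).mapIso eI)) (hD i)

end Groth.Agent.Dual3Lib
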