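import Groth.Agent.KFlatLib.FreeModel
import Groth.Agent.KFlatLib.LpullTensor
import Groth.Agent.KFlatLib.LpullAdj
import Groth.Agent.TensorAssocLib.Derived
import Groth.Agent.ProjFormLib.QCohMain
import Groth.Agent.DCohRestrLib.RHomRestr
import Groth.Agent.KoszOrthLib.Ample
import Groth.Agent.Dual3Lib.Detect
import Groth.Agent.ModSiteLib.BimapExact

/-!
# The derived tensor product as an operation on objects
-/

set_option autoImplicit false
set_option linter.style.haveILetI false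
set_option backward.isDefEq.respectTransparency false
set_option backward.isDefEq.respectTransparency.types false
set_option maxHeartbeats 1000000

universe u

open CategoryTheory CategoryTheory.Limits AlgebraicGeometry
open KFlatLib

attribute [local instance] HasDerivedCategory.standard

namespace Groth.Agent.Dual3Lib

variable {X Y : Scheme.{u}}

/-- A K-flat representative. -/
noncomputable def rep (B : DCoh.D X) : CochainComplex X.Modules ℤ :=
  (resP X).obj (DerivedCategory.Q.objPreimage B)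

theorem rep_kFlat (B : DCoh.D X) : DCoh.IsKFlat (rep B) := (good_resP _).1

/-- The representative represents. -/
noncomputable def repIso (B : DCoh.D X) : DerivedCategory.Q.obj (rep B) ≅ B :=
  haveI := quasiIso_resψ (X := X) (DerivedCategory.Q.objPreimage B)
  asIso (DerivedCategory.Q.map ((resψ X).app (DerivedCategory.Q.objPreimage B))) ≪≫
    DerivedCategory.Q.objObjPreimageIso B

instance hasLTensorCx_rep (B : DCoh.D X) : DCoh.HasLTensorCx (rep B) := hasLTensorCx _

/-- `A ⊗^L B`. -/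
noncomputable def ten (A B : DCoh.D X) : DCoh.D X := (DCoh.LTensorCx (rep B)).obj A

theorem ten_lTensor (E : CochainComplex X.Modules ℤ) [DCoh.HasLTensorCx E] {A B : DCoh.D X}
    (e : DerivedCategory.Q.obj E ≅ B) : Nonempty ((DCoh.LTensorCx E).obj A ≅ ten A B) := by
  obtain ⟨a⟩ := ProjFormLib.nonempty_lTensor_congr_iso (M := E) (N := rep B) (e ≪≫ (repIso B).symm)
  exact ⟨a.app A⟩

/-- Chain level computation. -/
theorem ten_cx {A B : DCoh.D X} (P E : CochainComplex X.Modules ℤ) (hP : DCoh.IsKFlat P)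
    (a : DerivedCategory.Q.obj P ≅ A) (b : DerivedCategory.Q.obj E ≅ B) :
    Nonempty (ten A B ≅ DerivedCategory.Q.obj (((DCoh.tensorCx (X := X)).obj P).obj E)) := by
  haveI := hasLTensorCx E
  obtain ⟨e₁⟩ := ten_lTensor (A := A) E b
  obtain ⟨e₂⟩ := exists_lTensorCxObjIso E P hP
  exact ⟨e₁.symm ≪≫ (DCoh.LTensorCx E).mapIso a.symm ≪≫ e₂⟩

theorem ten_congr {A A' B B' : DCoh.D X} (a : A ≅ A') (b : B ≅ B') :
    Nonempty (ten A B ≅ ten A' B') := by
  obtain ⟨e⟩ := ten_lTensor (A := A') (rep B) (repIso B ≪≫ b)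
  exact ⟨(DCoh.LTensorCx (rep B)).mapIso a ≪≫ e⟩

theorem ten_comm (A B : DCoh.D X) : Nonempty (ten A B ≅ ten B A) := by
  obtain ⟨e₁⟩ := ten_cx (rep A) (rep B) (rep_kFlat A) (repIso A) (repIso B)
  obtain ⟨e₂⟩ := ten_cx (rep B) (rep A) (rep_kFlat B) (repIso B) (repIso A)
  exact ⟨e₁ ≪≫ DerivedCategory.Q.mapIso (tCxFlip (rep B) (rep A)) ≪≫ e₂.symm⟩

theorem lTensor_lTensor (K L : CochainComplex X.Modules ℤ) (hL : DCoh.IsKFlat L) [DCoh.HasLTensorCx K]
    [DCoh.HasLTensorCx L] {A D : DCoh.D X}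
    (e : DerivedCategory.Q.obj (((DCoh.tensorCx (X := X)).obj K).obj L) ≅ D) :
    Nonempty ((DCoh.LTensorCx L).obj ((DCoh.LTensorCx K).obj A) ≅ ten A D) := by
  haveI := hasLTensorCx (((DCoh.tensorCx (X := X)).obj K).obj L)
  obtain ⟨a⟩ := TensorAssocLib.nonempty_lTensor_comp K L hL
  obtain ⟨c⟩ := ten_lTensor (A := A) (((DCoh.tensorCx (X := X)).obj K).obj L) e
  exact ⟨a.app A ≪≫ c⟩

theorem ten_assoc (A B C : DCoh.D X) : Nonempty (ten (ten A B) C ≅ ten A (ten B C)) := by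
  obtain ⟨b⟩ := ten_cx (rep B) (rep C) (rep_kFlat B) (repIso B) (repIso C)
  exact lTensor_lTensor (rep B) (rep C) (rep_kFlat C) b.symm

theorem ten_unit (A : DCoh.D X) :
    Nonempty (ten (DerivedCategory.Q.obj (PerfDualLib.unitCx X)) A ≅ A) := by
  obtain ⟨e⟩ := nonempty_lTensorCx_unit (rep A)
  exact ⟨e ≪≫ repIso A⟩

theorem ten_unit' (A : DCoh.D X) :
    Nonempty (ten A (DerivedCategory.Q.obj (PerfDualLib.unitCx X)) ≅ A) := by
  obtain ⟨e⟩ := ten_comm A (DerivedCategory.Q.obj (PerfDualLib.unitCx X))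
  obtain ⟨e'⟩ := ten_unit A
  exact ⟨e ≪≫ e'⟩

theorem ten_isQCohD {A B : DCoh.D X} (hA : DCoh.IsQCohD A) (hB : DCoh.IsQCohD B) :
    DCoh.IsQCohD (ten A B) :=
  isQCohD_lTensorCx (rep B) (isQCohD_iso (repIso B).symm hB) A hA

theorem ten_isPerfect {A B : DCoh.D X} (hA : DCoh.IsPerfect A) (hB : DCoh.IsPerfect B) :
    DCoh.IsPerfect (ten A B) :=
  KFlatLib.isPerfect_lTensor (rep B) (rep_kFlat B)
    (Groth.Agent.PerfLib.isPerfect_of_iso (repIso B).symm hB) A hA

/-- Pull-back is monoidal. -/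
theorem ten_lpull (f : X ⟶ Y) [DCoh.HasLpull f] (A B : DCoh.D Y) :
    Nonempty ((DCoh.Lpull f).obj (ten A B) ≅ ten ((DCoh.Lpull f).obj A) ((DCoh.Lpull f).obj B)) := by
  haveI := hasLTensorCx ((pullCx f).obj (rep B))
  obtain ⟨e⟩ := lpull_lTensorCx f (rep B) (rep_kFlat B) A
  obtain ⟨e'⟩ := ten_lTensor (A := (DCoh.Lpull f).obj A) ((pullCx f).obj (rep B))
    ((lpullObjIso f (rep B) (rep_kFlat B)).symm ≪≫ (DCoh.Lpull f).mapIso (repIso B))
  exact ⟨e ≪≫ e'⟩

/-- Restriction is monoidal. -/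
theorem ten_restrict (U : X.Opens) (A B : DCoh.D X) :
    Nonempty ((DCoh.restrictD U.ι).obj (ten A B) ≅
      ten ((DCoh.restrictD U.ι).obj A) ((DCoh.restrictD U.ι).obj B)) := by
  haveI := hasLTensorCx ((DCohRestrLib.resCx U).obj (rep B))
  obtain ⟨e⟩ := DCohRestrLib.nonempty_restrict_LTensor U (rep B)
  obtain ⟨e'⟩ := ten_lTensor (A := (DCoh.restrictD U.ι).obj A) ((DCohRestrLib.resCx U).obj (rep B))
    (((Scheme.Modules.restrictFunctor U.ι).mapDerivedCategoryFactors.app (rep B)).symm ≪≫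
      (DCoh.restrictD U.ι).mapIso (repIso B))
  exact ⟨(e.app A).symm ≪≫ e'⟩

/-- The projection formula. -/
theorem ten_proj (f : X ⟶ Y) [QuasiCompact f] [QuasiSeparated f] [DCoh.HasRpush f] [DCoh.HasLpull f]
    {E : DCoh.D X} (hE : DCoh.IsQCohD E) {A : DCoh.D Y} (hA : DCoh.IsQCohD A) :
    Nonempty (ten ((DCoh.Rpush f).obj E) A ≅ (DCoh.Rpush f).obj (ten E ((DCoh.Lpull f).obj A))) :=
  ProjFormLib.nonempty_projection_DQCoh f E hE (rep A) (isQCohD_iso (repIso A).symm hA)
    (rep ((DCoh.Lpull f).obj A)) ⟨repIso _ ≪≫ (DCoh.Lpull f).mapIso (repIso A).symm⟩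

/-- `P ⊗ M[0] ≅ P ⊗ M`. -/
noncomputable def tensorSingleCxIso (M : X.Modules) (P : CochainComplex X.Modules ℤ) :
    ((DCoh.tensorCx (X := X)).obj P).obj
        ((HomologicalComplex.single X.Modules (ComplexShape.up ℤ) 0).obj M) ≅
      (tensorModCx M).obj P :=
  (tCxFlip P _).symm ≪≫ (ModSiteLib.BimapExact.singleIso (DCoh.tensorBi (X := X)) P M).symm ≪≫
    (NatIso.mapHomologicalComplex
      (NatIso.ofComponents (F := (DCoh.tensorBi (X := X)).obj M) (G := DCoh.tensorRightMod M)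
        (fun N => tensSwap N M) (fun {N N'} g => (DCoh.shP.map_comp _ _).symm.trans
          ((congrArg DCoh.shP.map
            (BraidedCategory.braiding_naturality_right (DCoh.toP.obj M) (DCoh.toP.map g))).trans
              (DCoh.shP.map_comp _ _)))) (ComplexShape.up ℤ)).app P

/-- Tensoring with a module in degree zero. -/
theorem ten_inD (M : X.Modules) [PreservesFiniteLimits (DCoh.tensorRightMod M)]
    [PreservesFiniteColimits (DCoh.tensorRightMod M)] (A : DCoh.D X) :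
    Nonempty (ten A (DCoh.inD X M) ≅ (KoszOrthLib.TD M).obj A) := by
  let P := rep A
  obtain ⟨e⟩ := ten_cx P ((HomologicalComplex.single X.Modules (ComplexShape.up ℤ) 0).obj M)
    (rep_kFlat A) (repIso A) ((DerivedCategory.singleFunctorIsoCompQ X.Modules 0).app M).symm
  exact ⟨e ≪≫ DerivedCategory.Q.mapIso (tensorSingleCxIso M P) ≪≫
    ((DCoh.tensorRightMod M).mapDerivedCategoryFactors.app P).symm ≪≫
    (KoszOrthLib.TD M).mapIso (repIso A)⟩

end Groth.Agent.Dual3Lib
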