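import Groth.Agent.GradedCechLib.Chart
import Groth.Agent.PerfModLib.Mor
import Groth.Agent.PerfModLib.Hom

/-!
# Affine schemes of finite type in a chart of projective space
-/

set_option autoImplicit false
set_option linter.style.haveILetI false
set_option backward.isDefEq.respectTransparency false
set_option backward.isDefEq.respectTransparency.types false
set_option maxHeartbeats 1000000

universe u

open CategoryTheory AlgebraicGeometry MvPolynomial HomogeneousLocalization

namespace Groth.Agent.Dual3Lib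

open GradedCechLib

/-- Affine schemes of finite type embed into a chart of projective space. -/
theorem exists_chart {W : Scheme.{u}} [IsAffine W] {A : Type u} [CommRing A]
    (h : W ⟶ Spec (CommRingCat.of A)) [LocallyOfFiniteType h] :
    ∃ (n : ℕ) (U : (CohB1.ProjSpace n A).Opens) (g : W ⟶ (U : Scheme.{u})),
      IsAffine (U : Scheme.{u}) ∧ IsClosedImmersion g ∧ g ≫ U.ι ≫ CohB1.ProjSpace.toSpec n A = h := by
  let φ : CommRingCat.of A ⟶ Γ(W, ⊤) := Spec.preimage (W.isoSpec.inv ≫ h)
  have hφ : Spec.map φ = W.isoSpec.inv ≫ h := Spec.map_preimage _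
  have hft : φ.hom.FiniteType := by
    rw [← HasRingHomProperty.Spec_iff (P := @LocallyOfFiniteType), hφ]
    infer_instance
  letI := φ.hom.toAlgebra
  obtain ⟨n, ψ, hψ⟩ := Algebra.FiniteType.iff_quotient_mvPolynomial''.1
    (show Algebra.FiniteType A Γ(W, ⊤) from hft)
  let b : Fin (n + 1) → Γ(W, ⊤) := Fin.cases 1 fun j => ψ (X j)
  let ev : Poly n A →ₐ[A] Γ(W, ⊤) := aeval b
  have hu : IsUnit (ev.toRingHom (X 0 : Poly n A)) := by simp [ev, b]
  let χ : Away (CohB1.polyGrading n A) (X 0 : Poly n A) →+* Γ(W, ⊤) :=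
    (IsLocalization.Away.lift (X 0 : Poly n A) (S := Localization.Away (X 0 : Poly n A)) hu).comp
      (algebraMap (Away (CohB1.polyGrading n A) (X 0 : Poly n A)) (Localization.Away (X 0 : Poly n A)))
  have hval : ∀ z : Away (CohB1.polyGrading n A) (X 0 : Poly n A), χ z =
      IsLocalization.Away.lift (X 0 : Poly n A) (S := Localization.Away (X 0 : Poly n A)) hu z.val := fun _ => rfl
  have hC : ∀ r, χ (cst n A (X 0 : Poly n A) r) = algebraMap A _ r := fun r => by
    rw [hval, val_cst, IsLocalization.Away.lift_eq]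
    exact ev.commutes r
  have hX : ∀ j, χ (deh₀ n A 0 (X j)) = b j := fun j => by
    rw [hval, val_deh₀_X, Localization.mk_eq_mk'_apply, IsLocalization.Away.lift,
      IsLocalization.lift_mk'_spec]
    simp [ev, b, xpw]
  have hsurj : Function.Surjective χ := by
    intro z
    obtain ⟨p, rfl⟩ := hψ z
    induction p using MvPolynomial.induction_on with
    | C r => exact ⟨cst n A _ r, (hC r).trans (ψ.commutes r).symm⟩
    | add p q hp hq =>
      obtain ⟨a, ha⟩ := hp
      obtain ⟨c, hc⟩ := hq
      exact ⟨a + c, by rw [map_add, map_add, ha, hc]⟩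
    | mul_X p j hp =>
      obtain ⟨a, ha⟩ := hp
      exact ⟨a * deh₀ n A 0 (X j.succ), by rw [map_mul, map_mul, ha, hX]; simp [b]⟩
  let ι := chartι n A 0
  haveI : IsOpenImmersion ι := inferInstanceAs (IsOpenImmersion (Proj.awayι _ _ _ _))
  let c := W.isoSpec.hom ≫ Spec.map (CommRingCat.ofHom χ)
  haveI : IsClosedImmersion (Spec.map (CommRingCat.ofHom χ)) := IsClosedImmersion.spec_of_surjective _ hsurj
  have hι : ι ≫ CohB1.ProjSpace.toSpec n A = Spec.map (CommRingCat.ofHom (cst n A (X 0))) := by
    simp only [ι, CohB1.ProjSpace.toSpec, chartι]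
    erw [Proj.awayι_toSpecZero_assoc, ← Spec.map_comp]
    rfl
  refine ⟨n, ι.opensRange, c ≫ ι.isoOpensRange.hom, IsAffine.of_isIso ι.isoOpensRange.inv, inferInstance, ?_⟩
  have h1 : CommRingCat.ofHom (cst n A (X 0)) ≫ CommRingCat.ofHom χ = φ := by
    ext r
    exact hC r
  rw [Category.assoc, Scheme.Hom.isoOpensRange_hom_ι_assoc, hι]
  simp only [c, Category.assoc]
  rw [← Spec.map_comp, h1, hφ, Iso.hom_inv_id_assoc]

/-- Flat morphisms of finite presentation are perfect. -/
theorem isPerfectMor_of_flat {X S : Scheme.{u}} (f : X ⟶ S) [Flat f] [LocallyOfFinitePresentation f] :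
    MoreMor.IsPerfectMor f := by
  intro U V hU hV e
  letI := (f.appLE V U e).hom.toAlgebra
  haveI : Module.Flat Γ(S, V) Γ(X, U) := HasRingHomProperty.appLE (P := @Flat) f inferInstance ⟨V, hV⟩ ⟨U, hU⟩ e
  haveI : Algebra.FinitePresentation Γ(S, V) Γ(X, U) :=
    HasRingHomProperty.appLE (P := @LocallyOfFinitePresentation) f inferInstance ⟨V, hV⟩ ⟨U, hU⟩ e
  exact PerfModLib.isPerfectHom_of_flat

end Groth.Agent.Dual3Lib
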