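import Groth.Agent.PerfBaseLib.RpushTor
import Groth.Agent.PerfBaseLib.Twist
import Groth.Agent.KiehlLib.Perfect
import Groth.Agent.RelFlatLib.TorDim
import Groth.Agent.PerfModLib.StalkMor
import Groth.Agent.PerfLib.Coherent
import Groth.Agent.PerfDualLib.Dual
import Groth.Agent.KoszOrthLib.Aff
import Groth.Agent.DCohRestrLib.Scheme
import Groth.Agent.QCohLib.AffineFinite

/-!
# Derived direct images of perfect objects along proper perfect morphisms
-/

set_option autoImplicit false
set_option linter.style.haveILetI false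
set_option backward.isDefEq.respectTransparency false
set_option backward.isDefEq.respectTransparency.types false
set_option maxHeartbeats 1000000

universe u

open CategoryTheory CategoryTheory.Limits AlgebraicGeometry

attribute [local instance] HasDerivedCategory.standard

namespace Groth.Agent.Dual3Lib

section Alg

theorem hasTorDimLE_of_FD {P : Type u} [CommRing P] {n : ℕ} {M : Type u} [AddCommGroup M] [Module P M]
    (h : DiagLib.FD P n M) : DRing.HasTorDimLE P n M := by
  intro N _ _ i hi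
  obtain ⟨i, rfl⟩ : ∃ q, i = q + 1 := ⟨i - 1, by omega⟩
  obtain ⟨Q⟩ := (inferInstance : CategoryTheory.HasProjectiveResolution (ModuleCat.of P N)).out
  exact ModuleCat.subsingleton_of_isZero
    (PDLib.isZero_tor_of_exactAtSucc Q i (DiagLib.exactAtSucc_of_FD n h _ Q i (by omega)))

open TensorProduct in
theorem fd_stalk {A B : Type u} [CommRing A] [CommRing B] [Algebra A B] {d : ℕ} (hd : DiagLib.FD A d B)
    (q : Ideal B) [q.IsPrime] (K L : Type u) [CommRing K] [CommRing L] [Algebra A K]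
    [IsLocalization.AtPrime K (q.comap (algebraMap A B))] [Algebra B L] [IsLocalization.AtPrime L q]
    [Algebra A L] [IsScalarTower A B L] [Algebra K L] [IsScalarTower A K L] :
    DiagLib.FD K (d + 0) L := by
  haveI : Module.Flat A K := IsLocalization.flat K (q.comap (algebraMap A B)).primeCompl
  have h1 : DiagLib.FD A (d + 0) L :=
    PerfModLib.fd_trans hd 0 L (show Module.Flat B L from IsLocalization.flat L q.primeCompl)
  have h2 := PerfModLib.fd_baseChange (B := K) _ L h1
  haveI : TensorProduct.CompatibleSMul A K K L :=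
    IsLocalization.tensorProduct_compatibleSMul (q.comap (algebraMap A B)).primeCompl K K L
  exact DiagLib.FD.of_equiv _
    ((Algebra.TensorProduct.equivOfCompatibleSMul A K K K L).symm.trans
      (Algebra.TensorProduct.lid K L)).toLinearEquiv h2

end Alg

variable {X Y : Scheme.{u}} (f : X ⟶ Y)

/-- The tor dimension of the local rings is bounded near every point. -/
theorem exists_torDim_nhd (hf : MoreMor.IsPerfectMor f) (x : X) :
    ∃ (U : X.Opens) (d : ℕ), x ∈ U ∧ ∀ z : X, z ∈ U →
      DerSch.HasTorAmplitudeAt f (-(d : ℤ)) 0 (DerSch.unitCx X) z := by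
  obtain ⟨V, hV, hxV, -⟩ := exists_isAffineOpen_mem_and_subset (x := f x) (U := ⊤) trivial
  obtain ⟨U, hU, hxU, hUV⟩ := exists_isAffineOpen_mem_and_subset (x := x) (U := f ⁻¹ᵁ V) hxV
  have e : U ≤ f ⁻¹ᵁ V := hUV
  letI := (f.appLE V U e).hom.toAlgebra
  obtain ⟨d, hd⟩ := DiagLib.exists_FD_of_hasFiniteTorDim (hf U V hU hV e).2
  refine ⟨U, d, hxU, fun z hz => ?_⟩
  have hzV : f z ∈ V := e hz
  letI := (f.stalkMap z).hom.toAlgebra
  letI : Algebra Γ(X, U) (X.presheaf.stalk z) := TopCat.Presheaf.algebra_section_stalk X.presheaf ⟨z, hz⟩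
  haveI := hU.isLocalization_stalk ⟨z, hz⟩
  letI : Algebra Γ(Y, V) (Y.presheaf.stalk (f z)) :=
    TopCat.Presheaf.algebra_section_stalk Y.presheaf ⟨f z, hzV⟩
  let q := (hU.primeIdealOf ⟨z, hz⟩).asIdeal
  have hp : q.comap (algebraMap Γ(Y, V) Γ(X, U)) = (hV.primeIdealOf ⟨f z, hzV⟩).asIdeal :=
    congrArg PrimeSpectrum.asIdeal
      (IsAffineOpen.comap_primeIdealOf_appLE (f := f) V hV U hU e hz)
  haveI : IsLocalization.AtPrime (Y.presheaf.stalk (f z)) (q.comap (algebraMap Γ(Y, V) Γ(X, U))) := by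
    have key : ∀ (r : Ideal Γ(Y, V)) [r.IsPrime], r = (hV.primeIdealOf ⟨f z, hzV⟩).asIdeal →
        IsLocalization.AtPrime (Y.presheaf.stalk (f z)) r := by
      intro r _ hr
      subst hr
      exact hV.isLocalization_stalk ⟨f z, hzV⟩
    exact key _ hp
  letI : Algebra Γ(Y, V) (X.presheaf.stalk z) :=
    ((algebraMap Γ(X, U) (X.presheaf.stalk z)).comp (algebraMap Γ(Y, V) Γ(X, U))).toAlgebra
  haveI : IsScalarTower Γ(Y, V) Γ(X, U) (X.presheaf.stalk z) := IsScalarTower.of_algebraMap_eq fun _ => rfl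
  haveI : IsScalarTower Γ(Y, V) (Y.presheaf.stalk (f z)) (X.presheaf.stalk z) :=
    IsScalarTower.of_algebraMap_eq fun a =>
      ((Scheme.Hom.germ_stalkMap_apply f V z hzV a).trans
        (TopCat.Presheaf.germ_res_apply X.presheaf (homOfLE e) z hz _).symm).symm
  exact (RelFlatLib.unitAt_iff f z _ _).2 ((DRingLib.hasTorDimLE_iff_amplitude _ d).1
    (hasTorDimLE_of_FD (fd_stalk hd q (Y.presheaf.stalk (f z)) (X.presheaf.stalk z))))

/-- Perfect objects have finite tor amplitude relative to a perfect morphism. -/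
theorem exists_torAmplitude_of_isPerfect [CompactSpace X] (hf : MoreMor.IsPerfectMor f)
    {T : CochainComplex X.Modules ℤ} (hT : DCoh.IsKFlat T) (hper : DCoh.IsPerfect (DCoh.toD X T)) :
    ∃ a b : ℤ, DerSch.HasTorAmplitude f a b T := by
  obtain ⟨a, b, -, hab⟩ := PerfBaseLib.exists_amp_of_isCompact hT hper isCompact_univ
  refine KiehlLib.exists_hasTorAmplitude f fun x => ?_
  obtain ⟨U, d, hxU, hd⟩ := exists_torDim_nhd f hf x
  refine ⟨U, a - d, b, hxU, fun z hz => ?_⟩
  letI := (f.stalkMap z).hom.toAlgebra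
  have h := Groth.Agent.S6947.result (A := Y.presheaf.stalk (f.base z)) (B := X.presheaf.stalk z) d
    ((RelFlatLib.unitAt_iff f z _ _).1 (hd z hz)) (DRing.toD ((KFlatLib.stalkCx X z).obj T)) a b
    (DRingLib.hasTorAmplitudeIn_of_amp (KFlatLib.stalks_isKFlat hT z) (Iso.refl _)
      (hab z (Set.mem_univ z)))
  exact DRingLib.hasTorAmplitudeIn_of_iso
    ((ModuleCat.restrictScalars (f.stalkMap z).hom).mapDerivedCategoryFactors.app
      ((KFlatLib.stalkCx X z).obj T)) h

/-- The base is Noetherian. -/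
theorem isPerfect_rpush_noetherian [IsNoetherian Y] [IsProper f] [DCoh.HasRpush f]
    (hf : MoreMor.IsPerfectMor f) {E : DCoh.D X} (hE : DCoh.IsPerfect E) :
    DCoh.IsPerfect ((DCoh.Rpush f).obj E) := by
  haveI : IsLocallyNoetherian X := LocallyOfFiniteType.isLocallyNoetherian f
  haveI : CompactSpace X := QuasiCompact.compactSpace_of_compactSpace f
  haveI : IsNoetherian X := ⟨⟩
  obtain ⟨T, hT, ⟨eT⟩⟩ := KFlatLib.exists_good_rep E
  have hTper : DCoh.IsPerfect (DCoh.toD X T) := PerfLib.isPerfect_of_iso eT.symm hE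
  obtain ⟨hcoh, a, b, hGE, hLE⟩ := PerfLib.isCohD_and_bounded_of_isPerfect hTper
  haveI := hGE
  haveI := hLE
  obtain ⟨a', b', htor⟩ := exists_torAmplitude_of_isPerfect f hf hT.1 hTper
  refine PerfLib.isPerfect_of_iso ((DCoh.Rpush f).mapIso eT)
    (PerfBaseLib.isPerfect_rpush f T hcoh a b (fun i => ?_) (PerfBaseLib.tensorBounded_of_tor f T htor))
  exact ⟨QCohLib.isClosed_support _ (hcoh i).2, inferInstance⟩

/-- A locally Noetherian base. -/
theorem isPerfect_rpush_of_perfectMor [IsLocallyNoetherian Y] [IsProper f] [DCoh.HasRpush f]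
    (hf : MoreMor.IsPerfectMor f) {E : DCoh.D X} (hE : DCoh.IsPerfect E) :
    DCoh.IsPerfect ((DCoh.Rpush f).obj E) := by
  refine PerfDualLib.isPerfect_of_local fun y => ?_
  obtain ⟨W, hW, hy⟩ := QCohLib.exists_affine_nhd y
  refine ⟨W, hy, ?_⟩
  haveI : IsAffine (W : Scheme.{u}) := hW
  haveI : IsNoetherian (W : Scheme.{u}) := ⟨⟩
  haveI : IsProper (f ∣_ W) := MorphismProperty.of_isPullback
    (isPullback_morphismRestrict f W).flip inferInstance
  haveI := DCohRestrLib.hasRpush (f ∣_ W)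
  obtain ⟨e⟩ := DCohRestrLib.nonempty_restrictD_Rpush f W
  exact PerfLib.isPerfect_of_iso (e.app E).symm (isPerfect_rpush_noetherian (f ∣_ W)
    (PerfModLib.perfectMor_baseChange f (f ∣_ W) (f ⁻¹ᵁ W).ι W.ι
      (isPullback_morphismRestrict f W).flip hf) (KoszOrthLib.isPerfect_restrictD _ hE))

end Groth.Agent.Dual3Lib
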