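import Groth.Agent.Dual3Lib.Ten
import Groth.Agent.KoszOrthLib.PnPC
import Groth.Agent.KiehlLib.RestrLift
import Groth.Agent.KiehlLib.Tensor
import Groth.Agent.KFlatLib.LpullAdj
import Groth.Agent.CohGenLib.Pro
import Groth.Agent.ConsLib.ModLoci
import Groth.Agent.SerreVanLib.TwTensor
import Groth.Agent.PerfBaseLib.SplitSheaf
import Groth.Agent.CohCmpLib.FamilyPic2
import Groth.Agent.S0024

/-!
# Coherence on projective space from finitely many twists, without boundedness
-/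

set_option autoImplicit false
set_option linter.style.haveILetI false
set_option backward.isDefEq.respectTransparency false
set_option backward.isDefEq.respectTransparency.types false
set_option maxHeartbeats 1000000

universe u

open CategoryTheory CategoryTheory.Limits AlgebraicGeometry CategoryTheory.Pretriangulated
open scoped ZeroObject

attribute [local instance] HasDerivedCategory.standard

namespace Groth.Agent.Dual3Lib

open KoszOrthLib (TD OD G)

section General

variable {X Y : Scheme.{u}}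

theorem isCohD_of_iso {A B : DCoh.D X} (e : A ≅ B) (h : DCoh.IsCohD A) : DCoh.IsCohD B :=
  fun i => QCohLib.isCoh_of_iso ((DerivedCategory.homologyFunctor X.Modules i).mapIso e) (h i)

theorem isCohD_shift {A : DCoh.D X} (h : DCoh.IsCohD A) (n : ℤ) : DCoh.IsCohD (A⟦n⟧) := fun i =>
  QCohLib.isCoh_of_iso (((DerivedCategory.homologyFunctor X.Modules 0).shiftIso n i (n + i) rfl).app A).symm
    (h (n + i))

theorem isCohD_obj₃ [IsLocallyNoetherian X] {T : Triangle (DCoh.D X)} (hT : T ∈ distTriang _)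
    (h₁ : DCoh.IsCohD T.obj₁) (h₂ : DCoh.IsCohD T.obj₂) : DCoh.IsCohD T.obj₃ :=
  KiehlLib.isCohD₂_noeth (rot_of_distTriang _ hT) h₂ (isCohD_shift h₁ 1)

/-- A split surjection between isomorphic coherent objects is invertible. -/
theorem isIso_of_section {A B : DCoh.D X} (hB : DCoh.IsCohD B) (e : B ≅ A) (φ : A ⟶ B) (s : B ⟶ A)
    (hs : s ≫ φ = 𝟙 B) : IsIso φ := by
  have hA : DCoh.IsCohD A := isCohD_of_iso e hB
  have hH : ∀ i, IsIso ((DerivedCategory.homologyFunctor X.Modules i).map φ) := fun i => by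
    let H := DerivedCategory.homologyFunctor X.Modules i
    haveI : Coh.IsQCoh (H.obj A) := (hA i).1
    haveI : Coh.IsQCoh (H.obj B) := (hB i).1
    haveI : IsSplitEpi (H.map φ) := ⟨⟨⟨H.map s, by rw [← H.map_comp, hs, H.map_id]⟩⟩⟩
    exact CohCmpLib.isIso_of_epi_of_iso (hB i).2 (H.mapIso e) (H.map φ)
  obtain ⟨C, g, h, hT⟩ := distinguished_cocone_triangle φ
  refine ((Triangle.mk φ g h).isZero₃_iff_isIso₁ hT).1 ((DCohRestrLib.isZero_iff_HD C).2 fun i => ?_)
  haveI := hH i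
  haveI := hH (i + 1)
  refine (DerivedCategory.HomologySequence.exact₃ _ hT i (i + 1) rfl).isZero_of_both_zeros ?_ ?_
  · change (DerivedCategory.homologyFunctor X.Modules i).map g = 0
    rw [← cancel_epi ((DerivedCategory.homologyFunctor X.Modules i).map φ), ← Functor.map_comp,
      comp_zero, show φ ≫ g = 0 from comp_distTriang_mor_zero₁₂ _ hT, Functor.map_zero]
  · change DerivedCategory.HomologySequence.δ (Triangle.mk φ g h) i (i + 1) rfl = 0
    rw [← cancel_mono ((DerivedCategory.homologyFunctor X.Modules (i + 1)).map φ), zero_comp]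
    exact DerivedCategory.HomologySequence.δ_comp _ hT i (i + 1) rfl

theorem ten_isZero_left {A : DCoh.D X} (B : DCoh.D X) (h : IsZero A) : IsZero (ten A B) :=
  (KFlatLib.tensorTriFun (rep B)).zero h

/-- Flat pull-back keeps coherent cohomology. -/
theorem isCohD_lpull_flat (f : X ⟶ Y) [Flat f] [DCoh.HasLpull f]
    {K : DCoh.D Y} (hK : DCoh.IsCohD K) : DCoh.IsCohD ((DCoh.Lpull f).obj K) := fun i => by
  haveI := CohGenLib.preservesFiniteLimits_pullback_flat f
  haveI : (Scheme.Modules.pullback f).PreservesHomology := inferInstance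
  let P := rep K
  let e : (DCoh.Lpull f).obj K ≅ DerivedCategory.Q.obj ((KFlatLib.pullCx f).obj P) :=
    (DCoh.Lpull f).mapIso (repIso K).symm ≪≫ KFlatLib.lpullObjIso f P (rep_kFlat K)
  have hP : Coh.IsCoh (P.homology i) := QCohLib.isCoh_of_iso
    ((DerivedCategory.homologyFunctorFactors Y.Modules i).app P)
    (isCohD_of_iso (repIso K).symm hK i)
  exact QCohLib.isCoh_of_iso (((DerivedCategory.homologyFunctor X.Modules i).mapIso e ≪≫
    (DerivedCategory.homologyFunctorFactors X.Modules i).app _ ≪≫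
      (P.sc i).mapHomologyIso (Scheme.Modules.pullback f)).symm) (ConsLib.isCoh_pullback f hP)

theorem isCohD_TD {L : X.Modules} (hL : PicF.IsInvertible L) [PreservesFiniteLimits (DCoh.tensorRightMod L)]
    [PreservesFiniteColimits (DCoh.tensorRightMod L)] {K : DCoh.D X} (hK : DCoh.IsCohD K) :
    DCoh.IsCohD ((TD L).obj K) := fun i =>
  QCohLib.isCoh_of_iso ((DerLib.ExactHomology.homologyIso (DCoh.tensorRightMod L) i).app K).symm
    (SerreVanLib.isCoh_tensor (M := DCoh.HD K i) (hK i) hL)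

end General

section Pn

variable (n : ℕ) (A : Type u) [CommRing A] [DCoh.HasRpush (CohB1.ProjSpace.toSpec n A)]

local notation "PP" => CohB1.ProjSpace n A
local notation "SS" => Spec (CommRingCat.of A)
local notation "π" => CohB1.ProjSpace.toSpec n A

theorem isZero_rpush_OD (j : ℤ) (h₁ : -(n : ℤ) ≤ j) (h₂ : j < 0) :
    IsZero ((DCoh.Rpush π).obj (OD n A j)) := by
  obtain ⟨hp, -, -⟩ := KoszOrthLib.projSpace_hyps n A
  haveI := hp
  let M := Twist.twistProjSpace n A j
  haveI hM : Coh.IsQCoh M := TwistLib.isQCoh_of_isInvertible (PicPnLib.twist_inv n A j)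
  haveI := KoszOrthLib.isLE_rpush_twist n A j h₁
  refine (DCohRestrLib.isZero_iff_HD _).2 fun i => ?_
  obtain ⟨hneg, ⟨e₀⟩⟩ := PerfBaseLib.HD_rpush_inD π M
  rcases lt_trichotomy i 0 with hi | rfl | hi
  · exact hneg i hi
  · haveI : EnoughInjectives (PP).Modules := IsGrothendieckAbelian.enoughInjectives.{u}
    obtain ⟨e⟩ := KiehlLib.nonempty_HD_rpush_inD π M 0
    refine (KoszOrthLib.isZero_rpush_of_subsingleton_HH π M 0
      (PnCohLib.subsingleton_HH_twist (n := n) (R := A) j 0 (by omega) (by omega)) ?_).of_iso e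
    exact @QCohLib.isQCoh_of_iso _ _ _ e
      (QRlimLib.isQCohD_rpush π (KiehlLib.isQCohD_single M hM 0) 0)
  · exact DerivedCategory.isZero_of_isLE _ 0 i hi

theorem isIso_unitToPush_projSpace : IsIso (ClSub.unitToPush π) := by
  obtain ⟨hp, -, -⟩ := KoszOrthLib.projSpace_hyps n A
  haveI := hp
  haveI h1 : Coh.IsQCoh (Coh.structureModule SS) := QCohLib.isQCoh_unit
  haveI : Coh.IsQCoh (Coh.structureModule PP) := QCohLib.isQCoh_unit
  haveI h2 : Coh.IsQCoh ((Scheme.Modules.pushforward π).obj (Coh.structureModule PP)) :=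
    QCohLib.isQCoh_pushforward π _
  haveI := Groth.Agent.S0024.result n A
  have hb : Function.Bijective ((ClSub.unitToPush π).app ⊤) :=
    ConcreteCategory.bijective_of_isIso (Scheme.Hom.app π ⊤)
  let adj := tilde.adjunction (R := CommRingCat.of A)
  haveI := KFlatLib.isIso_counit_of_qcoh _ h1
  haveI := KFlatLib.isIso_counit_of_qcoh _ h2
  haveI : IsIso ((moduleSpecΓFunctor (R := CommRingCat.of A)).map (ClSub.unitToPush π)) :=
    (ConcreteCategory.isIso_iff_bijective _).2 hb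
  haveI : IsIso ((tilde.functor (CommRingCat.of A)).map
      ((moduleSpecΓFunctor (R := CommRingCat.of A)).map (ClSub.unitToPush π)) ≫ adj.counit.app _) := inferInstance
  have hn := adj.counit.naturality (ClSub.unitToPush π)
  simp only [Functor.comp_map, Functor.id_map] at hn
  haveI : IsIso (adj.counit.app (Coh.structureModule SS) ≫ ClSub.unitToPush π) := hn ▸ ‹_›
  exact IsIso.of_isIso_comp_left (adj.counit.app (Coh.structureModule SS)) _

theorem nonempty_rpush_OD_zero :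
    Nonempty ((DCoh.Rpush π).obj (OD n A 0) ≅ DerivedCategory.Q.obj (PerfDualLib.unitCx SS)) := by
  obtain ⟨c₀⟩ := PicPnLib.twist_zero n A
  haveI := KoszOrthLib.isLE_rpush_twist n A 0 (by omega)
  obtain ⟨hneg, ⟨e₀⟩⟩ := PerfBaseLib.HD_rpush_inD π (Twist.twistProjSpace n A 0)
  haveI : ((DCoh.Rpush π).obj (OD n A 0)).IsGE 0 := (DerivedCategory.isGE_iff _ 0).2 hneg
  obtain ⟨M, ⟨eM⟩⟩ := DerivedCategory.exists_iso_singleFunctor_obj_of_isGE_of_isLE
    ((DCoh.Rpush π).obj (OD n A 0)) 0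
  haveI := isIso_unitToPush_projSpace n A
  let m : M ≅ Coh.structureModule SS :=
    ((DerivedCategory.singleFunctorCompHomologyFunctorIso (SS).Modules 0).app M).symm ≪≫
      (DerivedCategory.homologyFunctor (SS).Modules 0).mapIso eM.symm ≪≫ e₀ ≪≫
        (Scheme.Modules.pushforward π).mapIso c₀ ≪≫ (asIso (ClSub.unitToPush π)).symm
  exact ⟨eM ≪≫ (DerivedCategory.singleFunctor _ 0).mapIso m ≪≫
    (DerivedCategory.singleFunctorIsoCompQ (SS).Modules 0).app _⟩

variable [(DCoh.Rpush (CohB1.ProjSpace.toSpec n A)).CommShift ℤ]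
  [(DCoh.Rpush (CohB1.ProjSpace.toSpec n A)).IsTriangulated]

omit [DCoh.HasRpush (CohB1.ProjSpace.toSpec n A)]
  [(DCoh.Rpush (CohB1.ProjSpace.toSpec n A)).CommShift ℤ]
  [(DCoh.Rpush (CohB1.ProjSpace.toSpec n A)).IsTriangulated] in
theorem nonempty_TD_TD (a b : ℤ) (K : DCoh.D PP) :
    Nonempty ((TD (Twist.twistProjSpace n A b)).obj ((TD (Twist.twistProjSpace n A a)).obj K) ≅
      ten K (OD n A (a + b))) := by
  obtain ⟨e₁⟩ := ten_inD (Twist.twistProjSpace n A a) K
  obtain ⟨e₂⟩ := ten_inD (Twist.twistProjSpace n A b) (ten K (OD n A a))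
  obtain ⟨e₃⟩ := ten_assoc K (OD n A a) (OD n A b)
  obtain ⟨e₄⟩ := ten_inD (Twist.twistProjSpace n A b) (OD n A a)
  obtain ⟨e₅⟩ := KoszOrthLib.nonempty_TD_OD n A a b
  obtain ⟨e₆⟩ := ten_congr (Iso.refl K) (e₄ ≪≫ e₅)
  exact ⟨(TD _).mapIso e₁.symm ≪≫ e₂.symm ≪≫ e₃ ≪≫ e₆⟩

/-- A left adjoint of `Rπ_*(- ⊗ O(d))`, with its values. -/
theorem exists_adj_G (d : ℤ) [DCoh.HasLpull (CohB1.ProjSpace.toSpec n A)] :
    ∃ (L : DCoh.D SS ⥤ DCoh.D PP) (_ : L ⊣ G n A d),
      ∀ N, Nonempty (L.obj N ≅ (TD (Twist.twistProjSpace n A (-d))).obj ((DCoh.Lpull π).obj N)) := by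
  haveI := KoszOrthLib.isEquivalence_TD (PicPnLib.twist_inv n A d)
  let E := (TD (Twist.twistProjSpace n A d)).asEquivalence
  refine ⟨DCoh.Lpull π ⋙ E.inverse, (KFlatLib.lpullRpushAdj π).comp E.symm.toAdjunction, fun N => ?_⟩
  let M := (DCoh.Lpull π).obj N
  let Z := (TD (Twist.twistProjSpace n A (-d))).obj M
  obtain ⟨e₁⟩ := nonempty_TD_TD n A (-d) d M
  obtain ⟨c₀⟩ := PicPnLib.twist_zero n A
  obtain ⟨e₂⟩ := ten_congr (Iso.refl M) (show OD n A (-d + d) ≅ DerivedCategory.Q.obj (PerfDualLib.unitCx PP) from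
    eqToIso (congrArg (OD n A) (by omega)) ≪≫ (DerivedCategory.singleFunctor _ 0).mapIso c₀ ≪≫
      (DerivedCategory.singleFunctorIsoCompQ _ 0).app _)
  obtain ⟨e₃⟩ := ten_unit' M
  exact ⟨E.inverse.mapIso (e₁ ≪≫ e₂ ≪≫ e₃).symm ≪≫ (E.unitIso.app Z).symm⟩

/-- `Rπ_*(Lπ^*N ⊗ O(j)) ≅ N ⊗ Rπ_*O(j)`. -/
theorem nonempty_G_L [DCoh.HasLpull (CohB1.ProjSpace.toSpec n A)] (d e : ℤ) {N : DCoh.D SS}
    (hN : DCoh.IsQCohD N) :
    Nonempty ((G n A e).obj ((TD (Twist.twistProjSpace n A (-d))).obj ((DCoh.Lpull π).obj N)) ≅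
      ten ((DCoh.Rpush π).obj (OD n A (-d + e))) N) := by
  obtain ⟨hp, -, -⟩ := KoszOrthLib.projSpace_hyps n A
  haveI := hp
  obtain ⟨e₁⟩ := nonempty_TD_TD n A (-d) e ((DCoh.Lpull π).obj N)
  obtain ⟨e₂⟩ := ten_comm ((DCoh.Lpull π).obj N) (OD n A (-d + e))
  obtain ⟨e₃⟩ := ten_proj π (E := OD n A (-d + e))
    (KiehlLib.isQCohD_single _ (TwistLib.isQCoh_of_isInvertible (PicPnLib.twist_inv n A _)) 0) hN
  exact ⟨(DCoh.Rpush π).mapIso (e₁ ≪≫ e₂) ≪≫ e₃.symm⟩

/-- Coherence from the twists, by descending induction on the number of vanishing ones. -/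
theorem isCohD_of_twists_aux [IsNoetherianRing A] : ∀ (j k : ℕ), k + j = n + 1 → ∀ (C : DCoh.D PP),
    DCoh.IsQCohD C → (∀ d : ℕ, d ≤ n → DCoh.IsCohD ((G n A d).obj C)) →
    (∀ d : ℕ, d < k → IsZero ((G n A d).obj C)) → DCoh.IsCohD C
  | 0, k, hk, C, hC, _, hz => by
    have : IsZero C := KoszOrthLib.isZero_of_orth_twists n A C hC fun d hd m φ => by
      obtain ⟨η, hη⟩ := KoszOrthLib.exists_unit_G n A (d : ℤ)
      refine (hη _).1 (?_ : η ≫ (G n A d).map φ = η ≫ (G n A d).map 0)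
      exact (((shiftFunctor _ m).map_isZero (hz d (by omega))).of_iso
        (((G n A d).commShiftIso m).app C)).eq_of_tgt _ _
    exact fun i => DevissLib.isCoh_of_isZero ((DerivedCategory.homologyFunctor _ i).map_isZero this)
  | j + 1, k, hk, C, hC, hcoh, hz => by
    obtain ⟨hp, hfl, hl⟩ := KoszOrthLib.projSpace_hyps n A
    haveI := hp
    haveI := hfl
    haveI : IsLocallyNoetherian PP := LocallyOfFiniteType.isLocallyNoetherian π
    haveI := KFlatLib.hasLpull π
    obtain ⟨L, adj, hL⟩ := exists_adj_G n A (k : ℤ)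
    let N := (G n A (k : ℤ)).obj C
    have hN : DCoh.IsQCohD N := KoszOrthLib.isQCohD_G n A hC _
    have hNc : DCoh.IsCohD N := hcoh k (by omega)
    obtain ⟨eL⟩ := hL N
    let ε : L.obj N ⟶ C := adj.counit.app C
    obtain ⟨C', g, h, hT⟩ := distinguished_cocone_triangle ε
    have hLc : DCoh.IsCohD (L.obj N) := isCohD_of_iso eL.symm
      (isCohD_TD (PicPnLib.twist_inv n A _) (isCohD_lpull_flat π hNc))
    have hC' : DCoh.IsQCohD C' := KFlatLib.isQCohD₂ (rot_of_distTriang _ hT) hC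
      (KFlatLib.isQCohD_shift (fun i => (hLc i).1) 1)
    have hGL : ∀ d : ℤ, Nonempty ((G n A d).obj (L.obj N) ≅
        ten ((DCoh.Rpush π).obj (OD n A (-(k : ℤ) + d))) N) := fun d => by
      obtain ⟨e⟩ := nonempty_G_L n A (k : ℤ) d hN
      exact ⟨(G n A d).mapIso eL ≪≫ e⟩
    have hk0 : IsIso ((G n A (k : ℤ)).map ε) := by
      obtain ⟨e⟩ := hGL k
      obtain ⟨e₀⟩ := nonempty_rpush_OD_zero n A
      obtain ⟨e₁⟩ := ten_congr (eqToIso (congrArg (fun t => (DCoh.Rpush π).obj (OD n A t))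
        (show -(k : ℤ) + k = 0 by omega)) ≪≫ e₀) (Iso.refl N)
      obtain ⟨e₂⟩ := ten_unit N
      exact isIso_of_section hNc (e ≪≫ e₁ ≪≫ e₂).symm _ (adj.unit.app N)
        (adj.right_triangle_components C)
    refine KiehlLib.isCohD₂_noeth hT hLc
      (isCohD_of_twists_aux j (k + 1) (by omega) C' hC' (fun d hd => ?_) fun d hd => ?_)
    · exact isCohD_obj₃ ((G n A (d : ℤ)).map_distinguished _ hT)
        (KiehlLib.isCohD_rpush_proper π _ (isCohD_TD (PicPnLib.twist_inv n A _) hLc)) (hcoh d hd)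
    · let T := (G n A (d : ℤ)).mapTriangle.obj (Triangle.mk ε g h)
      have hGT : T ∈ distTriang _ := (G n A (d : ℤ)).map_distinguished _ hT
      rcases Nat.lt_succ_iff_lt_or_eq.1 hd with hd' | rfl
      · obtain ⟨e⟩ := hGL d
        exact T.isZero₃_of_isZero₁₂ hGT
          ((ten_isZero_left N (isZero_rpush_OD n A _ (by omega) (by omega))).of_iso e) (hz d hd')
      · exact (T.isZero₃_iff_isIso₁ hGT).2 hk0

/-- Coherence from the twists `0, …, n`. -/
theorem isCohD_of_twists [IsNoetherianRing A] {C : DCoh.D PP} (hC : DCoh.IsQCohD C)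
    (h : ∀ d : ℕ, d ≤ n → DCoh.IsCohD ((G n A d).obj C)) : DCoh.IsCohD C :=
  isCohD_of_twists_aux n A (n + 1) 0 (by omega) C hC h fun d hd => absurd hd (Nat.not_lt_zero d)

end Pn

end Groth.Agent.Dual3Lib
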