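import Groth.Agent.Dual3Lib.Transform
import Groth.Agent.RelPCSchLib.Immersion
import Groth.Agent.RelPCSchLib.Comp
import Groth.Agent.RelPCSchLib.Transport
import Groth.Agent.RelFlatLib.Absolute

/-!
# Relative pseudo-coherence from twisted direct images
-/

set_option autoImplicit false
set_option linter.style.haveILetI false
set_option backward.isDefEq.respectTransparency false
set_option backward.isDefEq.respectTransparency.types false
set_option maxHeartbeats 1000000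
set_option synthInstance.maxHeartbeats 200000

universe u

open CategoryTheory CategoryTheory.Limits AlgebraicGeometry CategoryTheory.Pretriangulated
open scoped ZeroObject

attribute [local instance] HasDerivedCategory.standard

namespace Groth.Agent.Dual3Lib

open KoszOrthLib (TD OD G)
open Groth.Agent.ImmPCLib (pushD lim_push colim_push)
open Groth.Agent.PerfLib (resD isPC_of_iso)

attribute [local instance] lim_push colim_push

variable {X Y : Scheme.{u}}

/-- The derived direct image along a closed immersion is the exact one. -/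
theorem nonempty_rpush_pushD (g : X ⟶ Y) [IsClosedImmersion g] [DCoh.HasRpush g] (E : DCoh.D X) :
    Nonempty ((DCoh.Rpush g).obj E ≅ (pushD g).obj E) := by
  obtain ⟨e⟩ := ProjClosedImmLib.nonempty_rpush_iso g (DerivedCategory.Q.objPreimage E)
  obtain ⟨e'⟩ := Groth.Agent.ImmPCLib.pushD_toD g (DerivedCategory.Q.objPreimage E)
  let eP := DerivedCategory.Q.objObjPreimageIso E
  exact ⟨(DCoh.Rpush g).mapIso eP.symm ≪≫ e ≪≫ e'.symm ≪≫ (pushD g).mapIso eP⟩

theorem isPC_of_retract {m : ℤ} {A B : DCoh.D X} (i : A ⟶ B) (r : B ⟶ A) (h : i ≫ r = 𝟙 A)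
    (hB : DCoh.IsPseudoCoherentD m B) : DCoh.IsPseudoCoherentD m A := by
  obtain ⟨C, g, k, hT⟩ := Pretriangulated.distinguished_cocone_triangle i
  have hk : k = 0 := by
    have h0 : k ≫ i⟦(1 : ℤ)⟧' = 0 := comp_distTriang_mor_zero₃₁ _ hT
    calc k = k ≫ (i ≫ r)⟦(1 : ℤ)⟧' := by rw [h, CategoryTheory.Functor.map_id, Category.comp_id]
      _ = 0 := by rw [Functor.map_comp, reassoc_of% h0, zero_comp]
  obtain ⟨e, -⟩ := exists_iso_binaryBiproduct_of_distTriang _ hT hk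
  exact PerfLib.isPC_summand m C A (isPC_of_iso (e ≪≫ biprod.braiding _ _) hB)

/-- The structure sheaf of a closed subscheme of a smooth scheme, flat over the base, is perfect. -/
theorem isPerfect_rpush_unit {S : Scheme.{u}} (c : X ⟶ Y) [IsClosedImmersion c] [CompactSpace X]
    [CompactSpace Y] [QuasiSeparatedSpace Y] [DCoh.HasRpush c] (b : Y ⟶ S) [Smooth b]
    [Flat (c ≫ b)] [LocallyOfFinitePresentation (c ≫ b)] {E : DCoh.D X} (hE : DCoh.IsPerfect E) :
    DCoh.IsPerfect ((DCoh.Rpush c).obj E) := by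
  have hperf : MoreMor.IsPerfectMor c :=
    Groth.Agent.S1510.result c b (isPerfectMor_of_flat (c ≫ b))
  obtain ⟨T, hT, ⟨eT⟩⟩ := KFlatLib.exists_good_rep E
  have hTper : DCoh.IsPerfect (DCoh.toD X T) := PerfLib.isPerfect_of_iso eT.symm hE
  obtain ⟨a, b', htor⟩ := exists_torAmplitude_of_isPerfect c hperf hT.1 hTper
  obtain ⟨d, hd⟩ := PerfBaseLib.exists_torAmplitude_rpush c T
    (KoszOrthLib.isQCohD_of_isPerfect hTper) (PerfBaseLib.tensorBounded_of_tor c T htor)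
  have hd' : DCoh.HasTorAmplitudeIn a (max a d) ((DCoh.Rpush c).obj (DCoh.toD X T)) := fun F _ i hi =>
    hd F i (hi.imp id fun h => lt_of_le_of_lt (le_max_right a d) h)
  refine PerfLib.isPerfect_of_iso ((DCoh.Rpush c).mapIso eT)
    (KFlatLib.isPerfect_of_flatAmplitude_of_pcoh _ a (max a d)
      (KFlatLib.flatAmplitude_of_torAmplitude (le_max_left a d) hd') ?_)
  obtain ⟨e⟩ := nonempty_rpush_pushD c (DCoh.toD X T)
  refine isPC_of_iso e.symm ((RelPCSchLib.rel_immersion_iff c _ _).1 ?_)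
  refine (RelPCSchLib.rel_comp_iff c b (RelPCSchLib.phBase_of_flat b) _ _).1 ?_
  have h1 := RelPCSchLib.rel_comp_iff (𝟙 X) (c ≫ b) (RelPCSchLib.phBase_of_flat (c ≫ b)) (a - 1)
    (DCoh.toD X T)
  rw [Category.id_comp] at h1
  obtain ⟨k⟩ := RelPCSchLib.nonempty_push_id (DCoh.toD X T)
  exact h1.2 ((RelPCSchLib.rel_immersion_iff (𝟙 X) _ _).2
    (isPC_of_iso k.symm (RelFlatLib.isPC_of_isPerfect hTper _)))

section Test

variable {A : Type u} [CommRing A]

/-- An affine open is, up to a retraction, the direct image on a chart of projective space. -/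
theorem exists_chart_test (f : X ⟶ Spec (CommRingCat.of A)) [IsSeparated f] [QuasiCompact f]
    [LocallyOfFinitePresentation f] [DCoh.HasRpush f] (W : X.Opens) (hW : IsAffineOpen W) :
    ∃ (n : ℕ) (_ : DCoh.HasRpush (CohB1.ProjSpace.toSpec n A)) (U : (CohB1.ProjSpace n A).Opens)
      (g : (W : Scheme.{u}) ⟶ (U : Scheme.{u})) (_ : IsClosedImmersion g) (E : ℕ → DCoh.D X),
      g ≫ U.ι ≫ CohB1.ProjSpace.toSpec n A = W.ι ≫ f ∧ (∀ d, DCoh.IsPerfect (E d)) ∧
      ∀ M : DCoh.D X, DCoh.IsQCohD M → ∃ Φ : DCoh.D (CohB1.ProjSpace n A), DCoh.IsQCohD Φ ∧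
        (∀ d : ℕ, Nonempty ((G n A d).obj Φ ≅ (DCoh.Rpush f).obj (ten M (E d)))) ∧
        Nonempty (Retract ((pushD g).obj ((resD W.ι).obj M)) ((DCoh.restrictD U.ι).obj Φ)) := by
  haveI : IsAffine (W : Scheme.{u}) := hW
  haveI : LocallyOfFinitePresentation (W.ι ≫ f) := inferInstance
  obtain ⟨n, U, g, hU, hg, hgπ⟩ := exists_chart (W.ι ≫ f)
  obtain ⟨hp, hfl, hl⟩ := KoszOrthLib.projSpace_hyps n A
  let π := CohB1.ProjSpace.toSpec n A
  haveI : IsProper π := hp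
  haveI : Flat π := hfl
  haveI : LocallyOfFinitePresentation π := hl
  haveI : Smooth π := GenusZeroLib.smooth_toSpec n A
  let p := pullback.fst f π
  let q := pullback.snd f π
  haveI : IsProper p := MorphismProperty.pullback_fst _ _ ‹_›
  haveI : Flat p := MorphismProperty.pullback_fst _ _ ‹_›
  haveI : LocallyOfFinitePresentation p := MorphismProperty.pullback_fst _ _ ‹_›
  haveI : Smooth p := MorphismProperty.pullback_fst _ _ ‹_›
  haveI : IsSeparated q := MorphismProperty.pullback_snd _ _ ‹_›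
  haveI : QuasiCompact q := MorphismProperty.pullback_snd _ _ ‹_›
  haveI : CompactSpace X := QuasiCompact.compactSpace_of_compactSpace f
  haveI : CompactSpace ↥(CohB1.ProjSpace n A) := QuasiCompact.compactSpace_of_compactSpace π
  haveI : CompactSpace ↥(pullback f π) := QuasiCompact.compactSpace_of_compactSpace q
  haveI : QuasiSeparatedSpace ↥(CohB1.ProjSpace n A) := quasiSeparatedSpace_of_quasiSeparated π
  haveI : QuasiSeparatedSpace ↥(pullback f π) := quasiSeparatedSpace_of_quasiSeparated q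
  haveI : QuasiSeparatedSpace X := quasiSeparatedSpace_of_quasiSeparated f
  let U' := q ⁻¹ᵁ U
  let qU := q ∣_ U
  haveI : IsSeparated qU := MorphismProperty.of_isPullback (isPullback_morphismRestrict q U).flip inferInstance
  haveI : QuasiCompact qU := MorphismProperty.of_isPullback (isPullback_morphismRestrict q U).flip inferInstance
  haveI : CompactSpace ↥(U' : Scheme.{u}) := QuasiCompact.compactSpace_of_compactSpace qU
  haveI : QuasiSeparatedSpace ↥(U' : Scheme.{u}) := quasiSeparatedSpace_of_quasiSeparated qU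
  let Γ₀ : (W : Scheme.{u}) ⟶ pullback f π :=
    pullback.lift W.ι (g ≫ U.ι) (by rw [Category.assoc, hgπ])
  let c : (W : Scheme.{u}) ⟶ (U' : Scheme.{u}) :=
    (isPullback_morphismRestrict q U).lift g Γ₀ (pullback.lift_snd _ _ _).symm
  have hc₁ : c ≫ qU = g := IsPullback.lift_fst _ _ _ _
  have hc₂ : c ≫ U'.ι = Γ₀ := IsPullback.lift_snd _ _ _ _
  haveI : IsClosedImmersion c := by
    haveI : IsClosedImmersion (c ≫ qU) := hc₁ ▸ hg
    exact IsClosedImmersion.of_comp c qU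
  have hcp : c ≫ U'.ι ≫ p = W.ι := by
    rw [← Category.assoc, hc₂]
    exact pullback.lift_fst _ _ _
  haveI : Smooth (U'.ι ≫ p) := inferInstance
  haveI : Flat (c ≫ U'.ι ≫ p) := by rw [hcp]; infer_instance
  haveI : LocallyOfFinitePresentation (c ≫ U'.ι ≫ p) := by rw [hcp]; infer_instance
  haveI := DCohRestrLib.hasRpush c
  haveI := DCohRestrLib.hasRpush p
  haveI := DCohRestrLib.hasRpush q
  haveI := DCohRestrLib.hasRpush π
  haveI := DCohRestrLib.hasRpush qU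
  haveI := DCohRestrLib.hasRpush (c ≫ qU)
  haveI := DCohRestrLib.hasRpush g
  haveI := KFlatLib.hasLpull p
  haveI := KFlatLib.hasLpull q
  haveI := KFlatLib.hasLpull c
  let unitW : DCoh.D (W : Scheme.{u}) := DerivedCategory.Q.obj (PerfDualLib.unitCx (W : Scheme.{u}))
  let K₀ := (DCoh.Rpush c).obj unitW
  have hK₀ : DCoh.IsPerfect K₀ :=
    isPerfect_rpush_unit c (U'.ι ≫ p) (PerfBaseLib.isPerfect_unitCx _)
  have hU'c : IsCompact (U' : Set ↥(pullback f π)) := isCompact_iff_compactSpace.mpr ‹_›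
  obtain ⟨K, -, ik, pk, hK, -, hip, -⟩ := Groth.Agent.S1098.result (pullback f π) U'
    hU'c Set.univ isClosed_univ (by simp) (0 : DCoh.D (pullback f π))
    (fun i => (KoszOrthLib.isQCohD_of_isPerfect (PerfLib.isPerfect_of_isZero (isZero_zero _)) i))
    K₀ hK₀ (fun _ _ _ => Set.mem_univ _) 0
  let E : ℕ → DCoh.D X := fun d =>
    (DCoh.Rpush p).obj (ten K ((DCoh.Lpull q).obj (OD n A (d : ℤ))))
  have hE : ∀ d, DCoh.IsPerfect (E d) := fun d =>
    Groth.Agent.S1002.result p _ (ten_isPerfect hK (KFlatLib.isPerfect_lpull q _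
      (KoszOrthLib.isPerfect_inD_invertible (PicPnLib.twist_inv n A d))))
  refine ⟨n, inferInstance, U, g, hg, E, hgπ, hE, fun M hM => ?_⟩
  let M' := (DCoh.Lpull p).obj M
  have hM' : DCoh.IsQCohD M' := KFlatLib.isQCohD_lpull p M hM
  have hKq : DCoh.IsQCohD K := KoszOrthLib.isQCohD_of_isPerfect hK
  let Φ := (DCoh.Rpush q).obj (ten M' K)
  have hΦ : DCoh.IsQCohD Φ := QRlimLib.isQCohD_rpush q (ten_isQCohD hM' hKq)
  refine ⟨Φ, hΦ, fun d => ?_, ?_⟩
  · haveI := DCohRestrLib.hasRpush (q ≫ π)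
    haveI := DCohRestrLib.hasRpush (p ≫ f)
    let L := (DCoh.Lpull q).obj (OD n A (d : ℤ))
    let Kd := ten K L
    have hOD : DCoh.IsPerfect (OD n A (d : ℤ)) :=
      KoszOrthLib.isPerfect_inD_invertible (PicPnLib.twist_inv n A d)
    have hKd : DCoh.IsPerfect Kd := ten_isPerfect hK (KFlatLib.isPerfect_lpull q _ hOD)
    obtain ⟨a₁⟩ := ten_inD (Twist.twistProjSpace n A (d : ℤ)) Φ
    obtain ⟨a₂⟩ := ten_proj q (E := ten M' K) (ten_isQCohD hM' hKq) (A := OD n A (d : ℤ))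
      (KoszOrthLib.isQCohD_of_isPerfect hOD)
    obtain ⟨a₃⟩ := ten_assoc M' K L
    obtain ⟨a₄⟩ := ten_comm M' Kd
    obtain ⟨b₁⟩ := nonempty_rpush_comp q π (ten Kd M')
    obtain ⟨b₂⟩ := nonempty_rpush_congr (pullback.condition : p ≫ f = q ≫ π) (ten Kd M')
    obtain ⟨b₃⟩ := nonempty_rpush_comp p f (ten Kd M')
    obtain ⟨a₅⟩ := ten_proj p (E := Kd) (KoszOrthLib.isQCohD_of_isPerfect hKd) hM
    obtain ⟨a₆⟩ := ten_comm ((DCoh.Rpush p).obj Kd) M
    exact ⟨(DCoh.Rpush π).mapIso (a₁.symm ≪≫ a₂ ≪≫ (DCoh.Rpush q).mapIso (a₃ ≪≫ a₄)) ≪≫ b₁ ≪≫ b₂.symm ≪≫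
      b₃.symm ≪≫ (DCoh.Rpush f).mapIso (a₅.symm ≪≫ a₆)⟩
  obtain ⟨r⟩ := DCohRestrLib.nonempty_restrictD_Rpush q U
  obtain ⟨t⟩ := ten_restrict U' M' K
  let N' := (DCoh.restrictD U'.ι).obj M'
  let R := DCoh.Rpush qU
  obtain ⟨s₁⟩ := ten_comm N' ((DCoh.restrictD U'.ι).obj K)
  let F := DCoh.LTensorCx (rep N') ⋙ R
  let a : (DCoh.restrictD U.ι).obj Φ ≅ R.obj (ten ((DCoh.restrictD U'.ι).obj K) N') :=
    r.app _ ≪≫ R.mapIso (t ≪≫ s₁)
  have hN' : DCoh.IsQCohD N' := KoszOrthLib.isQCohD_restrictD U'.ι hM'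
  obtain ⟨v₁⟩ := ten_proj c (E := unitW) (KoszOrthLib.isQCohD_of_isPerfect (PerfBaseLib.isPerfect_unitCx _)) hN'
  obtain ⟨v₂⟩ := ten_unit ((DCoh.Lpull c).obj N')
  haveI := KFlatLib.hasLpull U'.ι
  obtain ⟨v₃⟩ := PerfBaseLib.nonempty_lpull_restrictD (U := (U' : Scheme.{u})) U' M'
  haveI := KFlatLib.hasLpull (U'.ι ≫ p)
  haveI := KFlatLib.hasLpull (c ≫ U'.ι ≫ p)
  haveI := KFlatLib.hasLpull W.ι
  obtain ⟨v₄⟩ := nonempty_lpull_comp U'.ι p M
  obtain ⟨v₅⟩ := nonempty_lpull_comp c (U'.ι ≫ p) M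
  obtain ⟨v₆⟩ := nonempty_lpull_congr hcp M
  obtain ⟨v₇⟩ := PerfBaseLib.nonempty_lpull_restrictD (U := (W : Scheme.{u})) W M
  let w : (DCoh.Lpull c).obj N' ≅ (DCoh.restrictD W.ι).obj M :=
    (DCoh.Lpull c).mapIso (v₃.symm ≪≫ v₄) ≪≫ v₅ ≪≫ v₆ ≪≫ v₇
  obtain ⟨v₈⟩ := nonempty_rpush_comp c qU ((DCoh.restrictD W.ι).obj M)
  obtain ⟨v₉⟩ := nonempty_rpush_congr hc₁ ((DCoh.restrictD W.ι).obj M)
  obtain ⟨v₁₀⟩ := nonempty_rpush_pushD g ((DCoh.restrictD W.ι).obj M)
  let b : R.obj (ten K₀ N') ≅ (pushD g).obj ((resD W.ι).obj M) :=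
    R.mapIso (v₁ ≪≫ (DCoh.Rpush c).mapIso (v₂ ≪≫ w)) ≪≫ v₈ ≪≫ v₉ ≪≫ v₁₀
  refine ⟨⟨b.inv ≫ F.map ik ≫ a.inv, a.hom ≫ F.map pk ≫ b.hom, ?_⟩⟩
  simp only [Category.assoc, Iso.inv_hom_id_assoc, ← F.map_comp_assoc, hip, F.map_id, Category.id_comp]
  exact b.inv_hom_id

/-- Relative pseudo-coherence is detected by twisted direct images. -/
theorem isPC_relAll_of_test (f : X ⟶ Spec (CommRingCat.of A)) [IsSeparated f] [QuasiCompact f]
    [LocallyOfFinitePresentation f] [DCoh.HasRpush f] {M : DCoh.D X} (hM : DCoh.IsQCohD M)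
    (htest : ∀ E : DCoh.D X, DCoh.IsPerfect E →
      ∀ m : ℤ, DCoh.IsPseudoCoherentD m ((DCoh.Rpush f).obj (ten M E))) :
    DerSch.IsPseudoCoherentRelAll f M := fun m => by
  refine RelPCSchLib.rel_of_cover f (ι := X.affineOpens) (fun W => (W : X.Opens)) (fun x => ?_) fun W => ?_
  · obtain ⟨W, hW, hx, -⟩ := exists_isAffineOpen_mem_and_subset (x := x) (U := ⊤) trivial
    exact ⟨⟨W, hW⟩, hx⟩
  · obtain ⟨n, _, U, g, _, E, hgπ, hE, h⟩ := exists_chart_test f (W : X.Opens) W.2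
    obtain ⟨Φ, hΦ, hG, ⟨ρ⟩⟩ := h M hM
    obtain ⟨hp, hfl, hl⟩ := KoszOrthLib.projSpace_hyps n A
    haveI := hfl
    haveI := hl
    obtain ⟨_, _⟩ := QRlimLib.exists_isTriangulated_rpush (CohB1.ProjSpace.toSpec n A)
    have hpc : DCoh.IsPseudoCoherentD m Φ := KoszOrthLib.isPC_of_twPC n A hΦ
      (fun d _ k => isPC_of_iso (hG d).some.symm (htest _ (hE d) k)) m
    have hgPC : DCoh.IsPseudoCoherentD m ((pushD g).obj ((resD (W : X.Opens).ι).obj M)) :=
      isPC_of_retract ρ.i ρ.r ρ.retract (KoszOrthLib.isPC_restrictD U.ι hpc)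
    rw [← hgπ]
    exact (RelPCSchLib.rel_comp_iff g (U.ι ≫ CohB1.ProjSpace.toSpec n A) (RelPCSchLib.phBase_of_flat _) m _).2
      ((RelPCSchLib.rel_immersion_iff g m _).2 hgPC)

end Test

end Groth.Agent.Dual3Lib
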