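import Groth.Agent.KoszOrthLib.DQCoh
import Mathlib.CategoryTheory.Abelian.DiagramLemmas.Four
import Mathlib.CategoryTheory.Triangulated.HomologicalFunctor

/-!
# Natural transformations on localizing subcategories
-/

set_option autoImplicit false
set_option linter.style.haveILetI false
set_option backward.isDefEq.respectTransparency false
set_option backward.isDefEq.respectTransparency.types false
set_option maxHeartbeats 1000000

universe v' u' v

open CategoryTheory CategoryTheory.Limits CategoryTheory.Pretriangulated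
open Opposite (op unop)
open scoped ZeroObject

namespace Groth.Agent.Dual3Lib

section Five

variable {C : Type*} [Category C] [Preadditive C] [HasZeroObject C] [HasShift C ℤ]
  [∀ n : ℤ, (shiftFunctor C n).Additive] [Pretriangulated C]
  {A : Type u'} [Category.{v'} A] [Abelian A]

/-- The five lemma for a natural transformation of homological functors. -/
theorem isIso_app_obj₃ {G₁ G₂ : C ⥤ A} [G₁.IsHomological] [G₂.IsHomological] (θ : G₁ ⟶ G₂)
    (T : Triangle C) (hT : T ∈ distTriang C) (h₁ : IsIso (θ.app T.obj₁)) (h₂ : IsIso (θ.app T.obj₂))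
    (h₁' : IsIso (θ.app (T.obj₁⟦(1 : ℤ)⟧))) (h₂' : IsIso (θ.app (T.obj₂⟦(1 : ℤ)⟧))) :
    IsIso (θ.app T.obj₃) := by
  let R : ∀ (G : C ⥤ A), ComposableArrows A 4 := fun G =>
    ComposableArrows.mk₄ (G.map T.mor₁) (G.map T.mor₂) (G.map T.mor₃) (G.map (-T.mor₁⟦(1 : ℤ)⟧'))
  have hex : ∀ (G : C ⥤ A) [G.IsHomological], (R G).Exact := fun G _ => by
    have e₁ := G.map_distinguished_exact _ hT
    have e₂ := G.map_distinguished_exact _ (rot_of_distTriang _ hT)
    have e₃ := G.map_distinguished_exact _ (rot_of_distTriang _ (rot_of_distTriang _ hT))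
    refine ComposableArrows.exact_of_δ₀ ?_ (ComposableArrows.exact_of_δ₀ ?_ ?_)
    · exact e₁.exact_toComposableArrows
    · exact e₂.exact_toComposableArrows
    · exact e₃.exact_toComposableArrows
  let φ : R G₁ ⟶ R G₂ := ComposableArrows.homMk₄ (θ.app _) (θ.app _) (θ.app _) (θ.app _) (θ.app _)
    (θ.naturality T.mor₁) (θ.naturality T.mor₂) (θ.naturality T.mor₃) (θ.naturality _)
  exact Abelian.isIso_of_epi_of_isIso_of_isIso_of_mono (hex G₁) (hex G₂) φ
    (haveI := h₁; (inferInstance : Epi (θ.app T.obj₁))) h₂ h₁'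
    (haveI := h₂'; (inferInstance : Mono (θ.app (T.obj₂⟦(1 : ℤ)⟧))))

end Five

section Colim

variable {C : Type*} [Category C] {D : Type*} [Category D] {J : Type*} [Category J]

/-- A transformation of functors preserving a colimit is invertible there if it is on the diagram. -/
theorem isIso_app_colimit {F G : C ⥤ D} (θ : F ⟶ G) {K : J ⥤ C} {c : Cocone K} (hc : IsColimit c)
    [PreservesColimit K F] [PreservesColimit K G] (h : ∀ j, IsIso (θ.app (K.obj j))) :
    IsIso (θ.app c.pt) := by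
  haveI := h
  let hF := isColimitOfPreserves F hc
  let hG := isColimitOfPreserves G hc
  let e : K ⋙ F ≅ K ⋙ G := NatIso.ofComponents (fun j => asIso (θ.app (K.obj j)))
    fun g => θ.naturality (K.map g)
  have : θ.app c.pt = (IsColimit.coconePointsIsoOfNatIso hF hG e).hom :=
    hF.hom_ext fun j => by
      rw [IsColimit.comp_coconePointsIsoOfNatIso_hom]
      exact θ.naturality (c.ι.app j)
  rw [this]
  infer_instance

end Colim

section Generation

open KoszOrthLib BrownLS

variable {D : Type (v + 1)} [Category.{v + 1} D] [Preadditive D] [HasZeroObject D] [HasShift D ℤ]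
  [∀ n : ℤ, (shiftFunctor D n).Additive] [Pretriangulated D] [HasCoproducts.{v} D]
  [HasColimitsOfShape (Discrete ℕ) D] [LocallySmall.{v} D] {κ : Type v} {E : κ → D}

/-- A class closed under sums and cones containing the shifts of a compact generating family is
everything. -/
theorem forall_of_generates
    (h1 : ∀ X : D, (∀ (i : κ) (n : ℤ) (f : E i ⟶ X⟦n⟧), f = 0) → IsZero X) (h2 : CSmall E)
    (S : D → Prop) (hE : ∀ p : κ × ℤ, S (sh E p))
    (hS3 : ∀ T : Triangle D, T ∈ distTriang D → S T.obj₁ → S T.obj₂ → S T.obj₃)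
    (hiso : ∀ {A B : D}, (A ≅ B) → S A → S B)
    (hsum : ∀ {J : Type v} (M : J → D), (∀ j, S (M j)) → S (∐ M))
    (hsumN : ∀ (M : ℕ → D), (∀ j, S (M j)) → S (∐ M)) (W : D) : S W := by
  let H := preadditiveYoneda.obj W
  haveI : ∀ κ' : Type v, PreservesLimitsOfShape (Discrete κ') H := fun κ' => by
    haveI : PreservesLimitsOfSize.{v, v} H := preservesLimitsOfSize_shrink.{v, v + 1, v, v + 1} _
    infer_instance
  haveI : ∀ Y : D, Small.{v} (H.obj (op Y)) := fun Y => (inferInstance : Small.{v} (Y ⟶ W))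
  let J := Σ p : κ × ℤ, Shrink.{v} (H.obj (op (sh E p)))
  let K := fun j : J => sh E j.1
  obtain ⟨z₀, hz₀, -⟩ := existsUnique_elt H K fun j => (equivShrink _).symm j.2
  let St := {s : Σ V : D, H.obj (op V) // S s.1}
  have hnext : ∀ s : St, ∃ (t : St) (f : s.1.1 ⟶ t.1.1), pb H f t.1.2 = s.1.2 ∧
      ∀ (p : κ × ℤ) (g : sh E p ⟶ s.1.1), pb H g s.1.2 = 0 → g ≫ f = 0 := fun s => by
    obtain ⟨V, v, f, h, h', J', c, k, δ, hT⟩ := exists_next H (E := E) s.1.1 s.1.2
    exact ⟨⟨⟨V, v⟩, hS3 _ hT (hsum _ fun j => hE (c j)) s.2⟩, f, h, h'⟩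
  choose nx fn hfn hkn using hnext
  let s₀ : St := ⟨⟨∐ K, z₀⟩, hsum _ fun j => hE j.1⟩
  let X : ℕ → St := fun n => nx^[n] s₀
  have hX : ∀ n, X (n + 1) = nx (X n) := fun n => Function.iterate_succ_apply' _ _ _
  have hex : ∀ n, ∃ f : (X n).1.1 ⟶ (X (n + 1)).1.1,
      pb H f (X (n + 1)).1.2 = (X n).1.2 ∧
        ∀ (p : κ × ℤ) (g : sh E p ⟶ (X n).1.1), pb H g (X n).1.2 = 0 → g ≫ f = 0 := fun n => by
    rw [hX n]
    exact ⟨fn _, hfn _, hkn _⟩
  choose f hf using hex
  obtain ⟨V, v, q, δ, hT, -, hbij⟩ := exists_hocolim H h2 (X := fun n => (X n).1.1) f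
    (fun n => (X n).1.2) (fun n => (hf n).1) (fun n => (hf n).2)
    fun p e => ⟨Sigma.ι K ⟨p, equivShrink _ e⟩, (hz₀ _).trans (Equiv.symm_apply_apply _ _)⟩
  have hV : S V := hS3 _ hT (hsumN _ fun n => (X n).2) (hsumN _ fun n => (X n).2)
  haveI : IsIso (show V ⟶ W from v) := BrownLS.isIso_of_bijective_comp h1 _ hbij
  exact hiso (asIso (show V ⟶ W from v)) hV

end Generation

end Groth.Agent.Dual3Lib
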