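import Groth.Agent.KoszOrthLib.DQCohCoprod

/-!
# A coproduct preserving right adjoint forces `Rf_*` to preserve perfect objects
-/

set_option autoImplicit false
set_option linter.style.haveILetI false
set_option backward.isDefEq.respectTransparency false
set_option backward.isDefEq.respectTransparency.types false
set_option maxHeartbeats 1000000

universe u w

open CategoryTheory CategoryTheory.Limits AlgebraicGeometry CategoryTheory.Pretriangulated
open PerfCompLib (FinFac cut proj)

attribute [local instance] HasDerivedCategory.standard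

namespace Groth.Agent.Dual3Lib

section Gen

variable {D E : Type*} [Category D] [Category E] [Preadditive D] [Preadditive E]

theorem map_cut (G : D ⥤ E) [G.Additive] {J : Type w} (X : J → D) [HasCoproduct X]
    [HasCoproduct fun j => G.obj (X j)] (S : Finset J) :
    sigmaComparison G X ≫ G.map (cut X S) = cut (fun j => G.obj (X j)) S ≫ sigmaComparison G X := by
  classical
  refine Limits.Sigma.hom_ext _ _ fun j => ?_
  rw [ι_comp_sigmaComparison_assoc, ← G.map_comp, PerfCompLib.ι_cut, ← Category.assoc,
    PerfCompLib.ι_cut]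
  split_ifs
  · exact (ι_comp_sigmaComparison G X j).symm
  · rw [G.map_zero, zero_comp]

/-- A left adjoint preserves finite factorisation if the right adjoint preserves the coproduct. -/
theorem finFac_of_adj {F : D ⥤ E} {G : E ⥤ D} (adj : F ⊣ G) [F.Additive] [G.Additive] {J : Type w}
    (X : J → E) [HasCoproduct X] [HasCoproduct fun j => G.obj (X j)]
    [IsIso (sigmaComparison G X)] {T : D} (hT : FinFac (fun j => G.obj (X j)) T) : FinFac X (F.obj T) := by
  intro f
  let g := adj.homEquiv _ _ f
  obtain ⟨S, hS⟩ := hT (g ≫ inv (sigmaComparison G X))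
  refine ⟨S, (adj.homEquiv _ _).injective ?_⟩
  rw [adj.homEquiv_naturality_right]
  change g ≫ G.map (cut X S) = g
  have h := congrArg (fun z => z ≫ sigmaComparison G X) hS
  simp only [Category.assoc, IsIso.inv_hom_id, Category.comp_id] at h
  rw [← map_cut] at h
  rwa [IsIso.inv_hom_id_assoc] at h

/-- Finite factorisation passes along fully faithful functors preserving the coproduct. -/
theorem finFac_map (ι : D ⥤ E) [ι.Full] [ι.Additive] {J : Type w} (X : J → D) [HasCoproduct X]
    [HasCoproduct fun j => ι.obj (X j)] [IsIso (sigmaComparison ι X)] {K : D} (h : FinFac X K) :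
    FinFac (fun j => ι.obj (X j)) (ι.obj K) := by
  intro f
  obtain ⟨g, hg⟩ := ι.map_surjective (f ≫ sigmaComparison ι X)
  obtain ⟨S, hS⟩ := h g
  refine ⟨S, ?_⟩
  rw [← cancel_mono (sigmaComparison ι X), Category.assoc, ← map_cut, ← Category.assoc, ← hg,
    ← ι.map_comp, hS]

end Gen

variable {X Y : Scheme.{u}}

/-- If `a` preserves sums, `Rf_*` preserves perfect objects. -/
theorem isPerfect_rpush_of_preservesCoproducts [CompactSpace X] [QuasiSeparatedSpace X] [CompactSpace Y]
    [QuasiSeparatedSpace Y] (f : X ⟶ Y) [DCoh.HasRpush f] (hf : DCoh.RpushPreservesQCoh f)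
    (a : DCoh.DQCoh Y ⥤ DCoh.DQCoh X) (adj : DCoh.RpushQ f hf ⊣ a)
    (hcop : ∀ J : Type u, PreservesColimitsOfShape (Discrete J) a) (P : DCoh.D X) (hP : DCoh.IsPerfect P) :
    DCoh.IsPerfect ((DCoh.Rpush f).obj P) := by
  obtain ⟨_, _⟩ := QRlimLib.exists_isTriangulated_rpush f
  haveI : (DCoh.RpushQ f hf).Additive := ⟨fun {U V p q} => (DCoh.IsQCohD (X := Y)).ι.map_injective
    ((ObjectProperty.ι DCoh.IsQCohD ⋙ DCoh.Rpush f).map_add (f := p) (g := q))⟩
  haveI : a.Additive := adj.right_adjoint_additive
  let P' : DCoh.DQCoh X := ⟨P, KoszOrthLib.isQCohD_of_isPerfect hP⟩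
  have hq : DCoh.IsQCohD ((DCoh.Rpush f).obj P) := hf P P'.property
  refine (KoszOrthLib.isCompactObjRel_iff (T := Set.univ) isClosed_univ (by simp [IsRetrocompact])
    ⟨hq, fun i => Set.subset_univ _⟩).1 fun J M _ hM => KoszOrthLib.bijective_of_finFac' ?_
  let Mq : J → DCoh.DQCoh Y := fun j => ⟨M j, (hM j).1⟩
  haveI := hcop J
  haveI : IsIso (sigmaComparison a Mq) := inferInstance
  haveI : IsIso (sigmaComparison (DCoh.IsQCohD (X := Y)).ι Mq) := inferInstance
  exact finFac_map (DCoh.IsQCohD (X := Y)).ι Mq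
    (finFac_of_adj adj Mq (KoszOrthLib.finFac_DQCoh (fun j => a.obj (Mq j)) P' hP))

end Groth.Agent.Dual3Lib
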