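import Groth.Agent.Dual3Lib.Vanish
import Groth.Agent.DerBCLib.WI
import Groth.Agent.KFlatLib.QCohTensor
import Groth.Agent.BidualSchLib.Exists
import Mathlib.CategoryTheory.Triangulated.HomologicalFunctor

/-!
# The derived tensor product is exact
-/

set_option autoImplicit false
set_option linter.style.haveILetI false
set_option backward.isDefEq.respectTransparency false
set_option backward.isDefEq.respectTransparency.types false
set_option maxHeartbeats 1000000

universe u

open CategoryTheory CategoryTheory.Limits AlgebraicGeometry CategoryTheory.Pretriangulated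
open HomologicalComplex
open Groth.Agent.DerLib Groth.Agent.PerfDualLib Groth.Agent.ProjFormLib

attribute [local instance] HasDerivedCategory.standard

namespace Groth.Agent.Dual3Lib

variable {X : Scheme.{u}}

theorem isHomological_lTensor (E : Cx X) [DCoh.HasLTensorCx E] (i : ℤ) :
    (DCoh.LTensorCx E ⋙ DerivedCategory.homologyFunctor X.Modules i).IsHomological := by
  haveI := BidualSchLib.hasRSheafHom E
  haveI : (DCoh.LTensorCx E).PreservesZeroMorphisms :=
    Functor.preservesZeroMorphisms_of_isLeftAdjoint _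
  refine Functor.IsHomological.mk' _ fun T hT => ?_
  obtain ⟨P, Q, φ, hP, hQ, ⟨e⟩⟩ :=
    KFlatLib.exists_kFlat_triangle T.invRotate (inv_rot_of_distTriang _ hT)
  let M := DerivedCategory.Q.mapTriangle.obj (CochainComplex.mappingCone.triangle φ)
  refine ⟨M.rotate, (invRotCompRot.app T).symm ≪≫ (rotate _).mapIso e.symm, ?_⟩
  obtain ⟨γ, hγ⟩ := exists_gamma E
  have hC : DCoh.IsKFlat (CochainComplex.mappingCone φ) := KFlatLib.isKFlat_mappingCone_mod hP hQ φ
  have hP' : DCoh.IsKFlat (P⟦(1 : ℤ)⟧) := DerBCLib.isKFlat_shift_mod hP 1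
  let S := CochainComplex.mappingCone.triangleRotateShortComplex φ
  have hS : (S.map (Gen.tR (Tb X) E)).ShortExact :=
    KFlatLib.shortExact_of_degSplit (KFlatLib.degSplitBimap₁ (Tb X) E
      (CochainComplex.mappingCone.triangleRotateShortComplexSplitting φ))
  let H := DerivedCategory.homologyFunctor X.Modules i
  let F := DerivedCategory.homologyFunctorFactors X.Modules i
  let c : ∀ (A : Cx X), DCoh.IsKFlat A → (H.obj ((DCoh.LTensorCx E).obj (DerivedCategory.Q.obj A)) ≅
      ((Gen.tR (Tb X) E).obj A).homology i) := fun A hA =>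
    H.mapIso (γ A hA) ≪≫ F.app _ ≪≫ (homologyFunctor _ _ i).mapIso ((tLIso E).app A)
  have hc : ∀ (A B : Cx X) (hA : DCoh.IsKFlat A) (hB : DCoh.IsKFlat B) (μ : A ⟶ B),
      H.map ((DCoh.LTensorCx E).map (DerivedCategory.Q.map μ)) ≫ (c B hB).hom =
        (c A hA).hom ≫ homologyMap ((Gen.tR (Tb X) E).map μ) i := fun A B hA hB μ => by
    simp only [c, Iso.trans_hom, Functor.mapIso_hom, Category.assoc]
    rw [← Functor.map_comp_assoc, hγ A B hA hB μ, Functor.map_comp, Category.assoc]
    refine congrArg (_ ≫ ·) ((reassoc_of% (F.hom.naturality ((Gen.tL (Tb X) E).map μ))) _ |>.trans ?_)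
    refine congrArg (_ ≫ ·) ?_
    exact ((homologyFunctor _ _ i).map_comp _ _).symm.trans
      ((congrArg (fun z => (homologyFunctor _ _ i).map z) ((tLIso E).hom.naturality μ)).trans
        ((homologyFunctor _ _ i).map_comp _ _))
  have hex := hS.homology_exact₂ i
  refine (ShortComplex.exact_iff_of_iso ?_).1 hex
  let s := (DerivedCategory.Q.commShiftIso (1 : ℤ)).app P
  refine ShortComplex.isoMk (c Q hQ).symm (c _ hC).symm
    ((c _ hP').symm ≪≫ H.mapIso ((DCoh.LTensorCx E).mapIso s)) ?_ ?_
  · change (c Q hQ).inv ≫ H.map ((DCoh.LTensorCx E).map (DerivedCategory.Q.map _)) =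
      homologyMap ((Gen.tR (Tb X) E).map _) i ≫ (c _ hC).inv
    rw [Iso.inv_comp_eq, ← Category.assoc, Iso.eq_comp_inv]
    exact hc Q _ hQ hC _
  · change (c _ hC).inv ≫ H.map ((DCoh.LTensorCx E).map (DerivedCategory.Q.map _ ≫ s.hom)) =
      homologyMap ((Gen.tR (Tb X) E).map _) i ≫ (c _ hP').inv ≫ H.map ((DCoh.LTensorCx E).map s.hom)
    rw [Functor.map_comp, Functor.map_comp, ← Category.assoc, ← Category.assoc]
    refine congrArg (· ≫ _) ?_
    rw [Iso.inv_comp_eq, ← Category.assoc, Iso.eq_comp_inv]
    exact hc _ _ hC hP' _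

/-- Post-composition with an exact functor. -/
theorem isHomological_comp_exact {C : Type*} [Category C] [Preadditive C] [HasZeroObject C] [HasShift C ℤ]
    [∀ n : ℤ, (shiftFunctor C n).Additive] [Pretriangulated C] {A B : Type*} [Category A] [Category B]
    [Abelian A] [Abelian B] (G : C ⥤ A) [G.IsHomological] (Φ : A ⥤ B) [Φ.Additive] [Φ.PreservesHomology] :
    (G ⋙ Φ).IsHomological where
  exact T hT := (G.map_distinguished_exact T hT).map Φ

end Groth.Agent.Dual3Lib
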