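import Groth.Agent.Dual3Lib.Chart
import Groth.Agent.Dual3Lib.PnCoh
import Groth.Agent.Dual3Lib.PerfPush
import Groth.Agent.S1002
import Groth.Agent.S1098
import Groth.Agent.S1510
import Groth.Agent.GenusZeroLib.PSmooth
import Groth.Agent.ProjClosedImmLib.Main
import Groth.Agent.DevissLib.KilledImm
import Groth.Agent.CohGenLib.Localization

/-!
# Coherence from twisted direct images along a proper morphism
-/

set_option autoImplicit false
set_option linter.style.haveILetI false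
set_option backward.isDefEq.respectTransparency false
set_option backward.isDefEq.respectTransparency.types false
set_option maxHeartbeats 1000000
set_option synthInstance.maxHeartbeats 200000

universe u

open CategoryTheory CategoryTheory.Limits AlgebraicGeometry CategoryTheory.Pretriangulated
open scoped ZeroObject

attribute [local instance] HasDerivedCategory.standard

namespace Groth.Agent.Dual3Lib

open KoszOrthLib (TD OD G)

section General

variable {X Y Z : Scheme.{u}}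

theorem nonempty_rpush_comp (f : X ⟶ Y) (g : Y ⟶ Z) [DCoh.HasRpush f] [DCoh.HasRpush g]
    [DCoh.HasRpush (f ≫ g)] (E : DCoh.D X) :
    Nonempty ((DCoh.Rpush g).obj ((DCoh.Rpush f).obj E) ≅ (DCoh.Rpush (f ≫ g)).obj E) := by
  haveI := KFlatLib.hasLpull f
  haveI := KFlatLib.hasLpull g
  haveI := KFlatLib.hasLpull (f ≫ g)
  obtain ⟨e⟩ := KFlatLib.rpush_comp f g
  exact ⟨e.app E⟩

theorem nonempty_rpush_congr {f f' : X ⟶ Y} (h : f = f') [hf : DCoh.HasRpush f] [hf' : DCoh.HasRpush f']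
    (E : DCoh.D X) : Nonempty ((DCoh.Rpush f).obj E ≅ (DCoh.Rpush f').obj E) := by
  subst h
  exact ⟨Iso.refl _⟩

theorem nonempty_lpull_comp (f : X ⟶ Y) (g : Y ⟶ Z) [DCoh.HasLpull f] [DCoh.HasLpull g]
    [DCoh.HasLpull (f ≫ g)] (E : DCoh.D Z) :
    Nonempty ((DCoh.Lpull f).obj ((DCoh.Lpull g).obj E) ≅ (DCoh.Lpull (f ≫ g)).obj E) := by
  obtain ⟨e⟩ := KFlatLib.lpull_comp f g
  exact ⟨e.app E⟩

theorem nonempty_lpull_congr {f f' : X ⟶ Y} (h : f = f') [hf : DCoh.HasLpull f] [hf' : DCoh.HasLpull f']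
    (E : DCoh.D Y) : Nonempty ((DCoh.Lpull f).obj E ≅ (DCoh.Lpull f').obj E) := by
  subst h
  exact ⟨Iso.refl _⟩

theorem isCohD_of_retract [IsLocallyNoetherian X] {A B : DCoh.D X} (i : A ⟶ B) (r : B ⟶ A)
    (h : i ≫ r = 𝟙 A) (hB : DCoh.IsCohD B) : DCoh.IsCohD A := fun k => by
  let H := DerivedCategory.homologyFunctor X.Modules k
  have e : H.map i ≫ H.map r = 𝟙 _ := by rw [← H.map_comp, h, H.map_id]
  haveI : WSerre.IsWeakSerre (fun M : X.Modules => Coh.IsCoh M) := KHeartLib.isWeakSerre_isCoh (X := X)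
  let φ : H.obj B ⟶ H.obj B := 𝟙 _ - H.map r ≫ H.map i
  refine ObjectProperty.prop_of_isLimit_kernelFork (P := fun M : X.Modules => Coh.IsCoh M) (f := φ)
    (k := KernelFork.ofι (H.map i) (by simp [φ, Preadditive.comp_sub, reassoc_of% e])) ?_ (hB k) (hB k)
  exact KernelFork.IsLimit.ofι _ _ (fun g _ => g ≫ H.map r)
    (fun g hg => by
      simp only [φ, Preadditive.comp_sub, Category.comp_id, sub_eq_zero] at hg
      rw [Category.assoc]
      exact hg.symm)
    (fun g _ m hm => by rw [← hm, Category.assoc, e, Category.comp_id])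

theorem isCohD_of_restrict (K : DCoh.D X)
    (h : ∀ x : X, ∃ U : X.Opens, x ∈ U ∧ DCoh.IsCohD ((DCoh.restrictD U.ι).obj K)) : DCoh.IsCohD K := by
  intro i
  choose U hU hc using h
  exact PerfLib.isCoh_of_cover (DCoh.HD K i) U (top_le_iff.1 fun x _ => TopologicalSpace.Opens.mem_iSup.2 ⟨x, hU x⟩)
    fun x => QCohLib.isCoh_of_iso (DCohRestrLib.restrictHDIso (U x).ι K i) (hc x i)

/-- Coherence of a direct image along a closed immersion is coherence. -/
theorem isCohD_of_rpush_closedImmersion (g : X ⟶ Y) [IsClosedImmersion g] [DCoh.HasRpush g] {N : DCoh.D X}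
    (h : DCoh.IsCohD ((DCoh.Rpush g).obj N)) : DCoh.IsCohD N := by
  intro i
  haveI := ProjClosedImmLib.preservesHomology_push g
  let P := DerivedCategory.Q.objPreimage N
  let eP := DerivedCategory.Q.objObjPreimageIso N
  obtain ⟨e⟩ := ProjClosedImmLib.nonempty_rpush_iso g P
  have h1 : Coh.IsCoh ((Scheme.Modules.pushforward g).obj (P.homology i)) :=
    QCohLib.isCoh_of_iso ((DerivedCategory.homologyFunctor Y.Modules i).mapIso
      ((DCoh.Rpush g).mapIso eP.symm ≪≫ e) ≪≫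
      (DerivedCategory.homologyFunctorFactors Y.Modules i).app _ ≪≫
        (P.sc i).mapHomologyIso (Scheme.Modules.pushforward g)) (h i)
  exact QCohLib.isCoh_of_iso (((DerivedCategory.homologyFunctorFactors X.Modules i).app P).symm ≪≫
    (DerivedCategory.homologyFunctor X.Modules i).mapIso eP) (DevissLib.isCoh_of_isCoh_push g _ h1)

end General

section Test

variable {X : Scheme.{u}} {A : Type u} [CommRing A] [IsNoetherianRing A]

/-- The affine chart. -/
theorem isCohD_restrict_of_test (f : X ⟶ Spec (CommRingCat.of A)) [IsProper f] [DCoh.HasRpush f]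
    {M : DCoh.D X} (hM : DCoh.IsQCohD M)
    (htest : ∀ E : DCoh.D X, DCoh.IsPerfect E → DCoh.IsCohD ((DCoh.Rpush f).obj (ten M E)))
    (W : X.Opens) (hW : IsAffineOpen W) : DCoh.IsCohD ((DCoh.restrictD W.ι).obj M) := by
  haveI : IsAffine (W : Scheme.{u}) := hW
  obtain ⟨n, U, g, hU, hg, hgπ⟩ := exists_chart (W.ι ≫ f)
  obtain ⟨hp, hfl, hl⟩ := KoszOrthLib.projSpace_hyps n A
  let π := CohB1.ProjSpace.toSpec n A
  haveI : IsProper π := hp
  haveI : Flat π := hfl
  haveI : LocallyOfFinitePresentation π := hl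
  haveI : Smooth π := GenusZeroLib.smooth_toSpec n A
  let p := pullback.fst f π
  let q := pullback.snd f π
  haveI : IsProper p := MorphismProperty.pullback_fst _ _ ‹_›
  haveI : Flat p := MorphismProperty.pullback_fst _ _ ‹_›
  haveI : LocallyOfFinitePresentation p := MorphismProperty.pullback_fst _ _ ‹_›
  haveI : Smooth p := MorphismProperty.pullback_fst _ _ ‹_›
  haveI : IsProper q := MorphismProperty.pullback_snd _ _ ‹_›
  haveI : IsLocallyNoetherian (CohB1.ProjSpace n A) := LocallyOfFiniteType.isLocallyNoetherian π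
  haveI : CompactSpace ↥(CohB1.ProjSpace n A) := QuasiCompact.compactSpace_of_compactSpace π
  haveI : IsNoetherian (CohB1.ProjSpace n A) := ⟨⟩
  haveI : IsLocallyNoetherian (pullback f π) := LocallyOfFiniteType.isLocallyNoetherian q
  haveI : CompactSpace ↥(pullback f π) := QuasiCompact.compactSpace_of_compactSpace q
  haveI : IsNoetherian (pullback f π) := ⟨⟩
  haveI : QuasiSeparatedSpace ↥(pullback f π) := quasiSeparatedSpace_of_quasiSeparated q
  let U' := q ⁻¹ᵁ U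
  let qU := q ∣_ U
  haveI : IsProper qU := MorphismProperty.of_isPullback (isPullback_morphismRestrict q U).flip inferInstance
  let Γ₀ : (W : Scheme.{u}) ⟶ pullback f π :=
    pullback.lift W.ι (g ≫ U.ι) (by rw [Category.assoc, hgπ])
  let c : (W : Scheme.{u}) ⟶ (U' : Scheme.{u}) :=
    (isPullback_morphismRestrict q U).lift g Γ₀ (pullback.lift_snd _ _ _).symm
  have hc₁ : c ≫ qU = g := IsPullback.lift_fst _ _ _ _
  have hc₂ : c ≫ U'.ι = Γ₀ := IsPullback.lift_snd _ _ _ _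
  haveI : IsClosedImmersion c := by
    haveI : IsClosedImmersion (c ≫ qU) := hc₁ ▸ hg
    exact IsClosedImmersion.of_comp c qU
  have hcp : c ≫ U'.ι ≫ p = W.ι := by
    rw [← Category.assoc, hc₂]
    exact pullback.lift_fst _ _ _
  haveI : Smooth (U'.ι ≫ p) := inferInstance
  have hperf : MoreMor.IsPerfectMor c := by
    refine Groth.Agent.S1510.result c (U'.ι ≫ p) ?_
    rw [hcp]
    exact isPerfectMor_of_flat W.ι
  haveI := DCohRestrLib.hasRpush c
  haveI := DCohRestrLib.hasRpush p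
  haveI := DCohRestrLib.hasRpush q
  haveI := DCohRestrLib.hasRpush π
  haveI := DCohRestrLib.hasRpush qU
  haveI := DCohRestrLib.hasRpush (c ≫ qU)
  haveI := DCohRestrLib.hasRpush g
  haveI := KFlatLib.hasLpull p
  haveI := KFlatLib.hasLpull q
  haveI := KFlatLib.hasLpull c
  let unitW : DCoh.D (W : Scheme.{u}) := DerivedCategory.Q.obj (PerfDualLib.unitCx (W : Scheme.{u}))
  let K₀ := (DCoh.Rpush c).obj unitW
  have hK₀ : DCoh.IsPerfect K₀ :=
    isPerfect_rpush_of_perfectMor c hperf (PerfBaseLib.isPerfect_unitCx _)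
  haveI : CompactSpace ↥(U' : Scheme.{u}) :=
    isCompact_iff_compactSpace.mp (TopologicalSpace.NoetherianSpace.isCompact _)
  obtain ⟨K, -, ik, pk, hK, -, hip, -⟩ := Groth.Agent.S1098.result (pullback f π) U'
    (TopologicalSpace.NoetherianSpace.isCompact _) Set.univ isClosed_univ (by simp) (0 : DCoh.D (pullback f π))
    (fun i => (KoszOrthLib.isQCohD_of_isPerfect (PerfLib.isPerfect_of_isZero (isZero_zero _)) i))
    K₀ hK₀ (fun _ _ _ => Set.mem_univ _) 0
  let M' := (DCoh.Lpull p).obj M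
  have hM' : DCoh.IsQCohD M' := KFlatLib.isQCohD_lpull p M hM
  have hKq : DCoh.IsQCohD K := KoszOrthLib.isQCohD_of_isPerfect hK
  let Φ := (DCoh.Rpush q).obj (ten M' K)
  have hΦ : DCoh.IsQCohD Φ := QRlimLib.isQCohD_rpush q (ten_isQCohD hM' hKq)
  obtain ⟨_, _⟩ := QRlimLib.exists_isTriangulated_rpush π
  have hG : ∀ d : ℕ, d ≤ n → DCoh.IsCohD ((G n A d).obj Φ) := fun d _ => by
    haveI := DCohRestrLib.hasRpush (q ≫ π)
    haveI := DCohRestrLib.hasRpush (p ≫ f)
    let L := (DCoh.Lpull q).obj (OD n A (d : ℤ))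
    let Kd := ten K L
    have hOD : DCoh.IsPerfect (OD n A (d : ℤ)) :=
      KoszOrthLib.isPerfect_inD_invertible (PicPnLib.twist_inv n A d)
    have hKd : DCoh.IsPerfect Kd := ten_isPerfect hK (KFlatLib.isPerfect_lpull q _ hOD)
    have hEd : DCoh.IsPerfect ((DCoh.Rpush p).obj Kd) := Groth.Agent.S1002.result p Kd hKd
    obtain ⟨a₁⟩ := ten_inD (Twist.twistProjSpace n A (d : ℤ)) Φ
    obtain ⟨a₂⟩ := ten_proj q (E := ten M' K) (ten_isQCohD hM' hKq) (A := OD n A (d : ℤ))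
      (KoszOrthLib.isQCohD_of_isPerfect hOD)
    obtain ⟨a₃⟩ := ten_assoc M' K L
    obtain ⟨a₄⟩ := ten_comm M' Kd
    obtain ⟨b₁⟩ := nonempty_rpush_comp q π (ten Kd M')
    obtain ⟨b₂⟩ := nonempty_rpush_congr (pullback.condition : p ≫ f = q ≫ π) (ten Kd M')
    obtain ⟨b₃⟩ := nonempty_rpush_comp p f (ten Kd M')
    obtain ⟨a₅⟩ := ten_proj p (E := Kd) (KoszOrthLib.isQCohD_of_isPerfect hKd) hM
    obtain ⟨a₆⟩ := ten_comm ((DCoh.Rpush p).obj Kd) M
    exact isCohD_of_iso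
      ((DCoh.Rpush π).mapIso (a₁.symm ≪≫ a₂ ≪≫ (DCoh.Rpush q).mapIso (a₃ ≪≫ a₄)) ≪≫ b₁ ≪≫ b₂.symm ≪≫
        b₃.symm ≪≫ (DCoh.Rpush f).mapIso (a₅.symm ≪≫ a₆)).symm (htest _ hEd)
  have hΦc : DCoh.IsCohD Φ := isCohD_of_twists n A hΦ hG
  obtain ⟨r⟩ := DCohRestrLib.nonempty_restrictD_Rpush q U
  obtain ⟨t⟩ := ten_restrict U' M' K
  let N' := (DCoh.restrictD U'.ι).obj M'
  let R := DCoh.Rpush qU
  have hU'c : DCoh.IsCohD (R.obj (ten N' ((DCoh.restrictD U'.ι).obj K))) :=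
    isCohD_of_iso (r.app _ ≪≫ R.mapIso t) fun i => QCohLib.isCoh_of_iso
      (DCohRestrLib.restrictHDIso U.ι Φ i).symm (CohGenLib.isCoh_restrict U.ι (hΦc i))
  obtain ⟨s₁⟩ := ten_comm N' ((DCoh.restrictD U'.ι).obj K)
  obtain ⟨s₂⟩ := ten_comm N' K₀
  let F := DCoh.LTensorCx (rep N') ⋙ R
  have hK₀c : DCoh.IsCohD (R.obj (ten K₀ N')) :=
    isCohD_of_retract (F.map ik) (F.map pk) (by rw [← F.map_comp, hip]; exact F.map_id K₀)
      (isCohD_of_iso (R.mapIso s₁) hU'c)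
  have hN' : DCoh.IsQCohD N' := KoszOrthLib.isQCohD_restrictD U'.ι hM'
  obtain ⟨v₁⟩ := ten_proj c (E := unitW) (KoszOrthLib.isQCohD_of_isPerfect (PerfBaseLib.isPerfect_unitCx _)) hN'
  obtain ⟨v₂⟩ := ten_unit ((DCoh.Lpull c).obj N')
  haveI := KFlatLib.hasLpull U'.ι
  obtain ⟨v₃⟩ := PerfBaseLib.nonempty_lpull_restrictD (U := (U' : Scheme.{u})) U' M'
  haveI := KFlatLib.hasLpull (U'.ι ≫ p)
  haveI := KFlatLib.hasLpull (c ≫ U'.ι ≫ p)
  haveI := KFlatLib.hasLpull W.ι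
  obtain ⟨v₄⟩ := nonempty_lpull_comp U'.ι p M
  obtain ⟨v₅⟩ := nonempty_lpull_comp c (U'.ι ≫ p) M
  obtain ⟨v₆⟩ := nonempty_lpull_congr hcp M
  obtain ⟨v₇⟩ := PerfBaseLib.nonempty_lpull_restrictD (U := (W : Scheme.{u})) W M
  let w : (DCoh.Lpull c).obj N' ≅ (DCoh.restrictD W.ι).obj M :=
    (DCoh.Lpull c).mapIso (v₃.symm ≪≫ v₄) ≪≫ v₅ ≪≫ v₆ ≪≫ v₇
  obtain ⟨v₈⟩ := nonempty_rpush_comp c qU ((DCoh.restrictD W.ι).obj M)
  obtain ⟨v₉⟩ := nonempty_rpush_congr hc₁ ((DCoh.restrictD W.ι).obj M)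
  exact isCohD_of_rpush_closedImmersion g (isCohD_of_iso
    (R.mapIso (v₁ ≪≫ (DCoh.Rpush c).mapIso (v₂ ≪≫ w)) ≪≫ v₈ ≪≫ v₉) hK₀c)

end Test

end Groth.Agent.Dual3Lib
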