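import Groth.Agent.Dual3Lib.Vanish
import Groth.Agent.PerfDualLib.Props
import Groth.Agent.PerfDualLib.PseudoC
import Groth.Agent.PerfDualLib.CohPC
import Groth.Agent.KiehlLib.Tensor
import Groth.Agent.PerfLib.Coherent
import Groth.Agent.RelFlatLib.Absolute

/-!
# Support preservation, special cases
-/

set_option autoImplicit false
set_option linter.style.haveILetI false
set_option backward.isDefEq.respectTransparency false
set_option backward.isDefEq.respectTransparency.types false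
set_option maxHeartbeats 1000000

universe u

open CategoryTheory CategoryTheory.Limits AlgebraicGeometry CategoryTheory.Pretriangulated
open DerivedCategory.TStructure (t)
open Groth.Agent.PerfDualLib

attribute [local instance] HasDerivedCategory.standard

namespace Groth.Agent.Dual3Lib

variable {X Y : Scheme.{u}}

theorem isZero_restrictD_iff_restrict (U : X.Opens) (E : DCoh.D X) :
    IsZero ((DCoh.restrictD U.ι).obj E) ↔ ∀ i : ℤ, IsZero ((DCoh.HD E i).restrict U.ι) :=
  (DCohRestrLib.isZero_iff_HD _).trans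
    (forall_congr' fun i => (DCohRestrLib.restrictHDIso U.ι E i).isZero_iff)

theorem isZero_restrictD_of_cover (W : X.Opens) (E : DCoh.D X)
    (h : ∀ x ∈ W, ∃ U : X.Opens, x ∈ U ∧ IsZero ((DCoh.restrictD U.ι).obj E)) :
    IsZero ((DCoh.restrictD W.ι).obj E) :=
  (DCohRestrLib.isZero_restrictD_iff W E).2 fun i x hx => by
    obtain ⟨U, hxU, hU⟩ := h x hx
    exact (DCohRestrLib.isZero_restrictD_iff U E).1 hU i x hxU

variable [CompactSpace X] [QuasiSeparatedSpace X] [CompactSpace Y] [QuasiSeparatedSpace Y]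
  (f : X ⟶ Y) [QuasiCompact f] [QuasiSeparated f] [DCoh.HasRpush f]
  (hf : DCoh.RpushPreservesQCoh f) (a : DCoh.DQCoh Y ⥤ DCoh.DQCoh X) (adj : DCoh.RpushQ f hf ⊣ a)
  (Q : DCoh.DQCoh Y)

include adj in
theorem isZero_restrict_rightAdjoint (hRH : RHomQCoh f Q) (V : Y.Opens)
    (hQV : ∀ i : ℤ, IsZero ((DCoh.HD Q.obj i).restrict V.ι)) (i : ℤ) :
    IsZero ((DCoh.HD (a.obj Q).obj i).restrict (f ⁻¹ᵁ V).ι) := by
  refine (isZero_restrictD_iff_restrict _ _).1 (isZero_restrictD_of_cover _ _ fun x hx => ?_) i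
  obtain ⟨U, hU, hxU, hUV⟩ := AlgebraicGeometry.exists_isAffineOpen_mem_and_subset (U := V) hx
  refine ⟨f ⁻¹ᵁ U, hxU, isZero_restrictD_rightAdjoint f hf a adj Q hRH U hU.isCompact
    ((DCohRestrLib.isZero_restrictD_iff U _).2 fun j y hy => ?_)⟩
  exact (DCohRestrLib.isZero_restrictD_iff V _).1 ((isZero_restrictD_iff_restrict V _).2 hQV) j y (hUV hy)

omit [CompactSpace X] [QuasiSeparatedSpace X] [CompactSpace Y] [QuasiSeparatedSpace Y]
  [QuasiCompact f] [QuasiSeparated f] in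
theorem rHomQCoh_of_perfect
    (h : ∀ G : DCoh.D X, DCoh.IsPerfect G → DCoh.IsPerfect ((DCoh.Rpush f).obj G)) : RHomQCoh f Q :=
  fun A _ _ G hG ⟨e⟩ =>
    isQCohD_rSheafHom_of_isPerfect A (PerfLib.isPerfect_of_iso e.symm (h G hG)) Q.obj Q.property

omit [CompactSpace X] [QuasiSeparatedSpace X] [CompactSpace Y] [QuasiSeparatedSpace Y]
  [QuasiCompact f] [QuasiSeparated f] in
theorem rHomQCoh_of_pseudoCoherent (c : ℤ) [Q.obj.IsGE c]
    (h : ∀ G : DCoh.D X, DCoh.IsPerfect G → ∀ m, DCoh.IsPseudoCoherentD m ((DCoh.Rpush f).obj G)) :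
    RHomQCoh f Q := fun A _ _ G hG ⟨e⟩ i =>
  isQCoh_HD_rSheafHom_of_isPC A (m := c - i - 1)
    (PerfLib.isPC_of_iso e.symm (h G hG _)) Q.obj Q.property c i (by omega)

omit [CompactSpace X] [QuasiSeparatedSpace X] [CompactSpace Y] [QuasiSeparatedSpace Y]
  [QuasiCompact f] [QuasiSeparated f] in
theorem isPC_rpush_of_isPerfect [IsNoetherian Y] [IsProper f] {G : DCoh.D X} (hG : DCoh.IsPerfect G)
    (m : ℤ) : DCoh.IsPseudoCoherentD m ((DCoh.Rpush f).obj G) := by
  haveI : IsLocallyNoetherian X := LocallyOfFiniteType.isLocallyNoetherian f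
  haveI : CompactSpace X := QuasiCompact.compactSpace_of_compactSpace f
  haveI : IsNoetherian X := ⟨⟩
  obtain ⟨hcoh, a₀, b, -, hb⟩ := PerfLib.isCohD_and_bounded_of_isPerfect hG
  obtain ⟨N, hN⟩ := QRlimLib.exists_uniform_bound f
  haveI : ((DCoh.Rpush f).obj G).IsLE (b + N) := by
    rw [DerivedCategory.isLE_iff]
    exact fun j hj => hN G (KoszOrthLib.isQCohD_of_isPerfect hG) b hb j (by omega)
  exact isPC_of_isCohD _ (b + N) m (KiehlLib.isCohD_rpush_proper f G hcoh)

end Groth.Agent.Dual3Lib
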