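import Groth.Agent.Dual3Lib.RightAdjTensor
import Groth.Agent.Dual3Lib.Localizing
import Groth.Agent.Dual3Lib.TenExact
import Groth.Agent.Dual3Lib.PerfOfCoprod
import Groth.Agent.Dual3Lib.VanishCases
import Groth.Agent.Dual3Lib.PnCoh
import Groth.Agent.Dual3Lib.Transform
import Groth.Agent.DCohRestrLib.Glue

/-!
# `a ≅ Lf^*(-) ⊗^L a(O)` when `a` preserves sums
-/

set_option autoImplicit false
set_option linter.style.haveILetI false
set_option backward.isDefEq.respectTransparency false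
set_option backward.isDefEq.respectTransparency.types false
set_option maxHeartbeats 1000000
set_option synthInstance.maxHeartbeats 200000

universe u

open CategoryTheory CategoryTheory.Limits AlgebraicGeometry CategoryTheory.Pretriangulated
open HomologicalComplex
open Groth.Agent.DerLib Groth.Agent.PerfDualLib Groth.Agent.ProjFormLib
open scoped ZeroObject

attribute [local instance] HasDerivedCategory.standard

namespace Groth.Agent.Dual3Lib

section Affine

variable {V : Scheme.{u}} [IsAffine V]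

/-- The structure sheaf, as an object of `DQCoh`. -/
noncomputable def unitQ (V : Scheme.{u}) : DCoh.DQCoh V :=
  ⟨DCoh.inD V (Coh.structureModule V),
    KoszOrthLib.isQCohD_of_isPerfect (KoszOrthLib.isPerfect_inD_unit V)⟩

theorem isZero_of_forall_hom_unitQ (W : DCoh.DQCoh V)
    (h : ∀ (_ : PUnit.{u + 1}) (n : ℤ) (g : unitQ V ⟶ W⟦n⟧), g = 0) : IsZero W := by
  let ι := (DCoh.IsQCohD (X := V)).ι
  have h0 : IsZero W.obj := by
    obtain ⟨M, ⟨e⟩⟩ := KoszOrthLib.exists_tX_iso W.property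
    obtain ⟨u⟩ := KoszOrthLib.nonempty_tX_kA_nil V
    refine IsZero.of_iso ((DCohRestrLib.isZero_iff_HD _).2 fun i => ?_) e.symm
    refine ((Scheme.Modules.restrictFunctor V.isoSpec.hom).map_isZero
      ((tilde.functor (CommRingCat.of (KoszOrthLib.AX V))).map_isZero ((KoszOrthLib.orth_nil_iff M i).1 ?_))).of_iso
        (KoszOrthLib.tXHIso i M)
    refine fun φ => (KoszOrthLib.tX V).map_injective ?_
    let b : (KoszOrthLib.tX V).obj (M⟦i⟧) ≅ ι.obj (W⟦i⟧) :=
      ((KoszOrthLib.tX V).commShiftIso i).app M ≪≫ (shiftFunctor _ i).mapIso e ≪≫ ((ι.commShiftIso i).app W).symm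
    have hz : u.inv ≫ (KoszOrthLib.tX V).map φ ≫ b.hom = 0 :=
      congrArg (fun z => z.hom) (h PUnit.unit i (ObjectProperty.homMk (u.inv ≫ (KoszOrthLib.tX V).map φ ≫ b.hom)))
    rw [(KoszOrthLib.tX V).map_zero]
    exact zero_of_comp_mono b.hom (zero_of_epi_comp u.inv hz)
  rw [IsZero.iff_id_eq_zero]
  exact ι.map_injective (h0.eq_of_src _ _)

theorem cSmall_of_isPerfect {X : Scheme.{u}} [CompactSpace X] [QuasiSeparatedSpace X] (P : DCoh.DQCoh X)
    (hP : DCoh.IsPerfect P.obj) : KoszOrthLib.BrownLS.CSmall fun _ : PUnit.{u + 1} => P := by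
  intro M i α
  classical
  let ι := (DCoh.IsQCohD (X := X)).ι
  haveI : PreservesColimitsOfShape (Discrete ℕ) ι :=
    preservesColimitsOfShape_of_equiv (Discrete.equivalence Equiv.ulift.{u}) ι
  haveI : HasColimitsOfShape (Discrete ℕ) (DCoh.D X) :=
    hasColimitsOfShape_of_equivalence (Discrete.equivalence Equiv.ulift.{u})
  let c := PreservesCoproduct.iso ι M
  let N := fun k : ℕ => ι.obj (M k)
  obtain ⟨S, hS⟩ := KoszOrthLib.finFac_nat N (KoszOrthLib.finFac_of_isQCohD hP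
    (fun k : ULift.{u} ℕ => N k.down) fun k => (M k.down).property) (ι.map α ≫ c.hom)
  let x : ∀ n, P ⟶ M n := fun n => ι.preimage ((ι.map α ≫ c.hom) ≫ PerfCompLib.proj N n)
  refine ⟨fun _ => i, x, ∑ n ∈ S, Sigma.ι (fun _ : ℕ => P) n, ι.map_injective ?_⟩
  rw [Preadditive.sum_comp, Functor.map_sum]
  refine (cancel_mono c.hom).1 (hS.symm.trans ?_)
  rw [PerfCompLib.cut_eq_sum, Preadditive.comp_sum, Preadditive.sum_comp]
  refine Finset.sum_congr rfl fun n _ => ?_
  have h1 : ι.map (Sigma.ι M n) ≫ c.hom = Sigma.ι N n := by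
    rw [← Iso.eq_comp_inv, PreservesCoproduct.inv_hom, ι_comp_sigmaComparison]
  rw [Limits.Sigma.ι_map, ι.map_comp]
  refine Eq.trans ?_ ((Category.assoc _ _ _).trans (congrArg (ι.map (x n) ≫ ·) h1)).symm
  rw [show ι.map (x n) = (ι.map α ≫ c.hom) ≫ PerfCompLib.proj N n from ι.map_preimage _]
  simp only [Category.assoc]

end Affine

section Main

variable {X Y : Scheme.{u}} (f : X ⟶ Y) [CompactSpace X] [QuasiSeparatedSpace X] [CompactSpace Y]
  [QuasiSeparatedSpace Y] [QuasiCompact f] [QuasiSeparated f] [DCoh.HasRpush f]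
  (hf : DCoh.RpushPreservesQCoh f) (a : DCoh.DQCoh Y ⥤ DCoh.DQCoh X) (adj : DCoh.RpushQ f hf ⊣ a)
  (hcop : ∀ J : Type u, PreservesColimitsOfShape (Discrete J) a)
  (O : DCoh.DQCoh Y) (hO : Nonempty (O.obj ≅ DCoh.inD Y (Coh.structureModule Y)))
  [DCoh.HasLpull f] (E : Cx X) (hE : Nonempty (DCoh.toD X E ≅ (a.obj O).obj)) [DCoh.HasLTensorCx E]

include adj hcop hO hE in
/-- `a(K) ≅ Lf^*K ⊗^L a(O)`, naturally. -/
theorem nonempty_rightAdjoint_iso_tensor :
    Nonempty (a ⋙ (DCoh.IsQCohD (X := X)).ι ≅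
      (DCoh.IsQCohD (X := Y)).ι ⋙ DCoh.Lpull f ⋙ DCoh.LTensorCx E) := by
  obtain ⟨θ, hθ⟩ := exists_theta f hf a adj O hO E hE
  have hperf := isPerfect_rpush_of_preservesCoproducts f hf a adj hcop
  haveI := BidualSchLib.hasRSheafHom E
  obtain ⟨_, _⟩ := QRlimLib.exists_isTriangulated_rpush f
  haveI : (DCoh.RpushQ f hf).IsTriangulated :=
    ObjectProperty.isTriangulated_lift _ ((DCoh.IsQCohD (X := X)).ι ⋙ DCoh.Rpush f) _
  letI := adj.rightAdjointCommShift ℤ
  haveI := adj.commShift_of_leftAdjoint ℤ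
  haveI : a.IsTriangulated := adj.isTriangulated_rightAdjoint
  let adjf := KFlatLib.lpullRpushAdj f
  letI := adjf.leftAdjointCommShift ℤ
  haveI := adjf.commShift_of_rightAdjoint ℤ
  haveI : (DCoh.Lpull f).IsTriangulated := adjf.isTriangulated_leftAdjoint
  let S₁ := (DCoh.IsQCohD (X := Y)).ι ⋙ DCoh.Lpull f ⋙ DCoh.LTensorCx E
  let S₂ := a ⋙ (DCoh.IsQCohD (X := X)).ι
  haveI : PreservesColimitsOfSize.{u, u} (DCoh.Lpull f) := adjf.leftAdjoint_preservesColimits
  haveI : PreservesColimitsOfSize.{u, u} (DCoh.LTensorCx E) :=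
    (DCoh.RSheafHomAdj E).leftAdjoint_preservesColimits
  suffices hV : ∀ V : Y.Opens, IsAffineOpen V → ∀ K, IsIso ((DCoh.restrictD (f ⁻¹ᵁ V).ι).map (θ.app K)) by
    have hall : ∀ K, IsIso (θ.app K) := fun K => by
      rw [DerivedCategory.isIso_iff]
      intro i
      refine KFlatLib.isIso_of_stalks _ fun x => ?_
      obtain ⟨V, hV', hx, -⟩ := exists_isAffineOpen_mem_and_subset (x := f x) (U := ⊤) trivial
      haveI := hV V hV' K
      haveI := DCohRestrLib.isIso_restrict_HD (f ⁻¹ᵁ V).ι (θ.app K) i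
      exact DCohRestrLib.isIso_stalk_of_restrict (f ⁻¹ᵁ V).ι
        ((DerivedCategory.homologyFunctor X.Modules i).map (θ.app K)) ⟨x, hx⟩
    haveI := hall
    haveI : IsIso θ := NatIso.isIso_of_isIso_app θ
    exact ⟨(asIso θ).symm⟩
  intro V hV
  haveI : IsAffine (V : Scheme.{u}) := hV
  let U := f ⁻¹ᵁ V
  let R := DCoh.restrictD U.ι
  have hiso : ∀ {K K' : DCoh.DQCoh Y}, (K ≅ K') → IsIso (R.map (θ.app K)) → IsIso (R.map (θ.app K')) :=
    fun {K K'} e h => (NatTrans.isIso_app_iff_of_iso (Functor.whiskerRight θ R) e).1 h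
  let SS : DCoh.DQCoh Y → Prop := fun K => ∀ n : ℤ, IsIso (R.map (θ.app (K⟦n⟧)))
  have hSiso : ∀ {K K' : DCoh.DQCoh Y}, (K ≅ K') → SS K → SS K' := fun e h n =>
    hiso ((shiftFunctor _ n).mapIso e) (h n)
  have hSshift : ∀ (K : DCoh.DQCoh Y) (m : ℤ), SS K → SS (K⟦m⟧) := fun K m h n =>
    hiso ((shiftFunctorAdd' (DCoh.DQCoh Y) m n (m + n) rfl).app K) (h (m + n))
  have hcrit : ∀ K, IsIso (R.map (θ.app K)) ↔ ∀ i : ℤ,
      IsIso ((Scheme.Modules.restrictFunctor U.ι).map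
        ((DerivedCategory.homologyFunctor X.Modules i).map (θ.app K))) := fun K => by
    rw [DerivedCategory.isIso_iff]
    exact forall_congr' fun i =>
      NatIso.isIso_map_iff (DerLib.ExactHomology.homologyIso (Scheme.Modules.restrictFunctor U.ι) i) (θ.app K)
  have h5 : ∀ T : Triangle (DCoh.DQCoh Y), T ∈ distTriang _ → SS T.obj₁ → SS T.obj₂ → SS T.obj₃ := by
    intro T hT h₁ h₂ n
    rw [hcrit]
    intro i
    haveI := isHomological_lTensor E i
    haveI h₁h : ((((DCoh.IsQCohD (X := Y)).ι ⋙ DCoh.Lpull f) ⋙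
        (DCoh.LTensorCx E ⋙ DerivedCategory.homologyFunctor X.Modules i))).IsHomological := inferInstance
    haveI h₂h : (S₂ ⋙ DerivedCategory.homologyFunctor X.Modules i).IsHomological := inferInstance
    let res := Scheme.Modules.restrictFunctor U.ι
    haveI : (S₁ ⋙ DerivedCategory.homologyFunctor X.Modules i ⋙ res).IsHomological :=
      isHomological_comp_exact ((((DCoh.IsQCohD (X := Y)).ι ⋙ DCoh.Lpull f) ⋙
        (DCoh.LTensorCx E ⋙ DerivedCategory.homologyFunctor X.Modules i))) res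
    haveI : (S₂ ⋙ DerivedCategory.homologyFunctor X.Modules i ⋙ res).IsHomological :=
      isHomological_comp_exact (S₂ ⋙ DerivedCategory.homologyFunctor X.Modules i) res
    let τ : S₁ ⋙ DerivedCategory.homologyFunctor X.Modules i ⋙ res ⟶
        S₂ ⋙ DerivedCategory.homologyFunctor X.Modules i ⋙ res :=
      Functor.whiskerRight θ _
    let c : ∀ K : DCoh.DQCoh Y, (K⟦n⟧)⟦(1 : ℤ)⟧ ≅ K⟦n + 1⟧ := fun K =>
      ((shiftFunctorAdd' (DCoh.DQCoh Y) n 1 (n + 1) rfl).app K).symm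
    exact isIso_app_obj₃ τ _ (Triangle.shift_distinguished _ hT n) ((hcrit _).1 (h₁ n) i)
      ((hcrit _).1 (h₂ n) i) ((hcrit _).1 (hiso (c _).symm (h₁ (n + 1))) i)
      ((hcrit _).1 (hiso (c _).symm (h₂ (n + 1))) i)
  have hsum : ∀ {J : Type u} (M : J → DCoh.DQCoh Y), (∀ j, SS (M j)) → SS (∐ M) := by
    intro J M hM n
    haveI := hcop J
    haveI := DCohRestrLib.hasRpush U.ι
    haveI : PreservesColimitsOfSize.{u, u} R := (KoszOrthLib.restrictRpushAdj U.ι).leftAdjoint_preservesColimits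
    refine hiso (PreservesCoproduct.iso (shiftFunctor (DCoh.DQCoh Y) n) M).symm ?_
    exact isIso_app_colimit (Functor.whiskerRight θ R) (coproductIsCoproduct fun j => (M j)⟦n⟧)
      fun j => hM j.as n
  have hvan : ∀ C : DCoh.DQCoh Y, IsZero ((DCoh.restrictD V.ι).obj C.obj) → SS C := by
    intro C hC n
    let C' := C⟦n⟧
    have hC' : IsZero ((DCoh.restrictD V.ι).obj C'.obj) :=
      (Functor.map_isZero (shiftFunctor _ n) hC).of_iso
        ((DCoh.restrictD V.ι).mapIso (((DCoh.IsQCohD (X := Y)).ι.commShiftIso n).app C) ≪≫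
          ((DCoh.restrictD V.ι).commShiftIso n).app C.obj)
    have z₂ : IsZero (R.obj (a.obj C').obj) :=
      isZero_restrictD_rightAdjoint f hf a adj C' (rHomQCoh_of_perfect f C' hperf) V hV.isCompact hC'
    have z₁ : IsZero (R.obj ((DCoh.LTensorCx E).obj ((DCoh.Lpull f).obj C'.obj))) := by
      haveI := KFlatLib.hasLpull U.ι
      haveI := KFlatLib.hasLpull V.ι
      haveI := KFlatLib.hasLpull (U.ι ≫ f)
      haveI := KFlatLib.hasLpull (f ∣_ V)
      haveI := KFlatLib.hasLpull ((f ∣_ V) ≫ V.ι)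
      obtain ⟨t⟩ := ten_lTensor (A := (DCoh.Lpull f).obj C'.obj) E (Iso.refl (DerivedCategory.Q.obj E))
      obtain ⟨r⟩ := ten_restrict U ((DCoh.Lpull f).obj C'.obj) (DerivedCategory.Q.obj E)
      refine (ten_isZero_left _ ?_).of_iso (R.mapIso t ≪≫ r)
      obtain ⟨w₁⟩ := PerfBaseLib.nonempty_lpull_restrictD (U := (U : Scheme.{u})) U ((DCoh.Lpull f).obj C'.obj)
      obtain ⟨w₂⟩ := nonempty_lpull_comp U.ι f C'.obj
      obtain ⟨w₃⟩ := nonempty_lpull_congr (morphismRestrict_ι f V).symm C'.obj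
      obtain ⟨w₄⟩ := nonempty_lpull_comp (f ∣_ V) V.ι C'.obj
      obtain ⟨w₅⟩ := PerfBaseLib.nonempty_lpull_restrictD (U := (V : Scheme.{u})) V C'.obj
      haveI := DCohRestrLib.hasRpush (f ∣_ V)
      haveI : (DCoh.Lpull (f ∣_ V)).IsLeftAdjoint := (KFlatLib.lpullRpushAdj (f ∣_ V)).isLeftAdjoint
      exact ((DCoh.Lpull (f ∣_ V)).map_isZero hC').of_iso
        (w₁.symm ≪≫ w₂ ≪≫ w₃ ≪≫ w₄.symm ≪≫ (DCoh.Lpull (f ∣_ V)).mapIso w₅)
    exact z₁.isIso z₂ _
  -- the unit of `j^* ⊣ Rj_*`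
  haveI : CompactSpace (V : Scheme.{u}) := isCompact_iff_compactSpace.mp hV.isCompact
  haveI : QuasiCompact V.ι := quasiCompact_of_compactSpace _
  haveI := DCohRestrLib.hasRpush V.ι
  let adjV := KoszOrthLib.restrictRpushAdj V.ι
  have hj : ∀ M : DCoh.D (V : Scheme.{u}), DCoh.IsQCohD M → DCoh.IsQCohD ((DCoh.Rpush V.ι).obj M) :=
    fun M hM => QRlimLib.isQCohD_rpush V.ι hM
  let Rj : DCoh.DQCoh (V : Scheme.{u}) ⥤ DCoh.DQCoh Y := DCoh.RpushQ V.ι hj
  let rs : DCoh.DQCoh Y → DCoh.DQCoh (V : Scheme.{u}) := fun K =>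
    ⟨(DCoh.restrictD V.ι).obj K.obj, KoszOrthLib.isQCohD_restrictD V.ι K.property⟩
  have hunit : ∀ K : DCoh.DQCoh Y, SS K ↔ SS (Rj.obj (rs K)) := fun K => by
    let η : K ⟶ Rj.obj (rs K) := ObjectProperty.homMk (adjV.unit.app K.obj)
    obtain ⟨C, g, d, hT⟩ := distinguished_cocone_triangle η
    have hC : SS C := hvan C (by
      haveI := KoszOrthLib.isIso_restrictD_unit V.ι adjV K.obj
      exact ((DCoh.restrictD V.ι).mapTriangle.obj ((DCoh.IsQCohD (X := Y)).ι.mapTriangle.obj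
        (Triangle.mk η g d))).isZero₃_iff_isIso₁ ((DCoh.restrictD V.ι).map_distinguished _
          ((DCoh.IsQCohD (X := Y)).ι.map_distinguished _ hT)) |>.2 ‹_›)
    have hT₁ := inv_rot_of_distTriang _ hT
    refine ⟨fun hK => h5 _ hT₁ (hSshift C (-1) hC) hK, fun hK => ?_⟩
    exact h5 _ (inv_rot_of_distTriang _ hT₁) (hSshift (Rj.obj (rs K)) (-1) hK) (hSshift C (-1) hC)
  obtain ⟨_, _⟩ := QRlimLib.exists_isTriangulated_rpush V.ι
  haveI : Rj.IsTriangulated :=
    ObjectProperty.isTriangulated_lift _ ((DCoh.IsQCohD (X := (V : Scheme.{u}))).ι ⋙ DCoh.Rpush V.ι) _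
  haveI : ∀ J : Type u, PreservesColimitsOfShape (Discrete J) Rj := fun J => by
    haveI := KoszOrthLib.preservesCoproducts_ιRpush V.ι J
    haveI : PreservesColimitsOfShape (Discrete J) (Rj ⋙ (DCoh.IsQCohD (X := Y)).ι) :=
      preservesColimitsOfShape_of_natIso (ObjectProperty.liftCompιIso _ _ _).symm
    exact preservesColimitsOfShape_of_reflects_of_preserves Rj (DCoh.IsQCohD (X := Y)).ι
  haveI : PreservesColimitsOfShape (Discrete ℕ) Rj :=
    preservesColimitsOfShape_of_equiv (Discrete.equivalence Equiv.ulift.{u}) Rj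
  have hsumN : ∀ (M : ℕ → DCoh.DQCoh Y), (∀ j, SS (M j)) → SS (∐ M) := fun M hM =>
    hSiso (Sigma.whiskerEquiv (g := M) (f := fun j : ULift.{u} ℕ => M j.down) Equiv.ulift
      (fun j => Iso.refl _)) (hsum _ fun j => hM j.down)
  have hSO : SS O := fun n => by
    haveI := hθ n
    infer_instance
  have hV' : ∀ W : DCoh.DQCoh (V : Scheme.{u}), SS (Rj.obj W) := by
    refine forall_of_generates (E := fun _ : PUnit.{u + 1} => unitQ (V : Scheme.{u})) isZero_of_forall_hom_unitQ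
      (cSmall_of_isPerfect _ (KoszOrthLib.isPerfect_inD_unit _)) (fun W => SS (Rj.obj W)) (fun p => ?_)
      (fun T hT h1 h2 => h5 _ (Rj.map_distinguished T hT) h1 h2) (fun e h => hSiso (Rj.mapIso e) h)
      (fun M hM => hSiso (PreservesCoproduct.iso Rj M).symm (hsum _ hM))
      (fun M hM => hSiso (PreservesCoproduct.iso Rj M).symm (hsumN _ hM))
    refine hSiso ((Rj.commShiftIso p.2).app _).symm (hSshift _ p.2 ?_)
    obtain ⟨eO⟩ := hO
    refine hSiso (Rj.mapIso (ObjectProperty.isoMk _ ?_)) ((hunit O).1 hSO)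
    exact (DCoh.restrictD V.ι).mapIso eO ≪≫ DualCxLib.restrictInDUnit V.ι
  intro K
  exact hiso ((shiftFunctorZero (DCoh.DQCoh Y) ℤ).app K) ((hunit K).2 (hV' (rs K)) 0)

end Main

end Groth.Agent.Dual3Lib
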