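import Groth.Prelude.Def_Formal
import Groth.Agent.QRlimLib.AcyclicPush

/-!
# Multiplication by global functions on the derived category
-/

set_option autoImplicit false
set_option linter.style.haveILetI false
set_option backward.isDefEq.respectTransparency false
set_option backward.isDefEq.respectTransparency.types false

universe u

open CategoryTheory CategoryTheory.Limits AlgebraicGeometry

attribute [local instance] HasDerivedCategory.standard

noncomputable section

namespace Groth.Agent.Dual3Lib

variable {X Y : Scheme.{u}}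

/-- Multiplication by a global function. -/
abbrev sMod (M : X.Modules) (a : Coh.Γtop X) : M ⟶ M := Formal.smulModΓ M a

theorem sMod_natural {M N : X.Modules} (φ : M ⟶ N) (a : Coh.Γtop X) :
    sMod M a ≫ φ = φ ≫ sMod N a := by
  refine Scheme.Modules.hom_ext _ _ fun V => ?_
  refine ConcreteCategory.hom_ext _ _ fun m => ?_
  exact φ.app_smul (Coh.resTop X (Opposite.op V) a) m

theorem sMod_pushforward (f : X ⟶ Y) (M : X.Modules) (r : Coh.Γtop Y) :
    (Scheme.Modules.pushforward f).map (sMod M (f.appTop r)) =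
      sMod ((Scheme.Modules.pushforward f).obj M) r := by
  refine Scheme.Modules.hom_ext _ _ fun V => ?_
  refine ConcreteCategory.hom_ext _ _ fun m => ?_
  refine congrArg (fun s : Γ(X, f ⁻¹ᵁ V) => s • (show Γ(M, f ⁻¹ᵁ V) from m)) ?_
  exact congr($(f.naturality (homOfLE (le_top : V ≤ ⊤)).op) r).symm

/-- Multiplication by a global function on a complex. -/
def sCx (P : CochainComplex X.Modules ℤ) (a : Coh.Γtop X) : P ⟶ P where
  f i := sMod (P.X i) a
  comm' i j _ := sMod_natural (P.d i j) a

theorem sCx_natural {P Q : CochainComplex X.Modules ℤ} (φ : P ⟶ Q) (a : Coh.Γtop X) :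
    sCx P a ≫ φ = φ ≫ sCx Q a :=
  HomologicalComplex.hom_ext _ _ fun i => sMod_natural (φ.f i) a

theorem single_map_sMod (M : X.Modules) (a : Coh.Γtop X) :
    (HomologicalComplex.single X.Modules (ComplexShape.up ℤ) 0).map (sMod M a) =
      sCx ((HomologicalComplex.single X.Modules (ComplexShape.up ℤ) 0).obj M) a := by
  refine HomologicalComplex.from_single_hom_ext ?_
  rw [HomologicalComplex.single_map_f_self,
    sMod_natural (HomologicalComplex.singleObjXSelf (ComplexShape.up ℤ) 0 M).inv a]
  show _ = sMod _ a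
  simp

theorem Q_sCx_comm {P P' : CochainComplex X.Modules ℤ} (a : Coh.Γtop X)
    (g : DerivedCategory.Q.obj P ⟶ DerivedCategory.Q.obj P') :
    DerivedCategory.Q.map (sCx P a) ≫ g = g ≫ DerivedCategory.Q.map (sCx P' a) := by
  obtain ⟨Z, s, hs, φ, hg⟩ := DerivedCategory.right_fac g
  rw [hg, Category.assoc, IsIso.eq_inv_comp, ← Category.assoc, ← Category.assoc, ← Functor.map_comp,
    ← sCx_natural, Functor.map_comp, Category.assoc, Category.assoc, IsIso.hom_inv_id_assoc,
    ← Functor.map_comp, ← Functor.map_comp, sCx_natural]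

theorem inD_sMod_comm (M : X.Modules) {P : CochainComplex X.Modules ℤ} (a : Coh.Γtop X)
    (x : DCoh.inD X M ⟶ DerivedCategory.Q.obj P) :
    (DerivedCategory.singleFunctor X.Modules 0).map (sMod M a) ≫ x = x ≫ DerivedCategory.Q.map (sCx P a) := by
  let e := DerivedCategory.singleFunctorIsoCompQ X.Modules 0
  have h := Q_sCx_comm a ((e.app M).inv ≫ x)
  erw [← single_map_sMod] at h
  have h1 : DerivedCategory.Q.map ((HomologicalComplex.single X.Modules (ComplexShape.up ℤ) 0).map (sMod M a)) ≫
      (e.app M).inv = (e.app M).inv ≫ (DerivedCategory.singleFunctor X.Modules 0).map (sMod M a) :=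
    e.inv.naturality (sMod M a)
  rw [← Category.assoc, h1, Category.assoc, Category.assoc] at h
  exact (cancel_epi (e.app M).inv).1 h

theorem sMod_rpush_comm (f : X ⟶ Y) [DCoh.HasRpush f] (r : Coh.Γtop Y) (M : Y.Modules) (N : X.Modules)
    {K : DCoh.D X} (η : DCoh.inD Y M ⟶ (DCoh.Rpush f).obj (DCoh.inD X N)) (x : DCoh.inD X N ⟶ K) :
    (DerivedCategory.singleFunctor Y.Modules 0).map (sMod M r) ≫ η ≫ (DCoh.Rpush f).map x =
      η ≫ (DCoh.Rpush f).map ((DerivedCategory.singleFunctor X.Modules 0).map (sMod N (f.appTop r)) ≫ x) := by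
  obtain ⟨I, hI, ⟨e⟩⟩ := Groth.Agent.DerLib.KInjDerived.essSurj_kInjective KFlatLib.enoughKInj_modules K
  haveI := hI
  haveI := Groth.Agent.DerLib.KInjDerived.isIso_app (DCoh.Rpush f) (QRlimLib.rpushUnit f)
    KFlatLib.enoughKInj_modules I
  let v : DerivedCategory.Q.obj (((Scheme.Modules.pushforward f).mapHomologicalComplex (ComplexShape.up ℤ)).obj I) ⟶
      (DCoh.Rpush f).obj (DerivedCategory.Q.obj I) :=
    (QRlimLib.rpushUnit f).app ((HomotopyCategory.quotient X.Modules (ComplexShape.up ℤ)).obj I)
  haveI : IsIso v := inferInstanceAs (IsIso ((QRlimLib.rpushUnit f).app _))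
  have hv : DerivedCategory.Q.map (sCx _ r) ≫ v =
      v ≫ (DCoh.Rpush f).map (DerivedCategory.Q.map (sCx I (f.appTop r))) := by
    have hs : sCx (((Scheme.Modules.pushforward f).mapHomologicalComplex (ComplexShape.up ℤ)).obj I) r =
        ((Scheme.Modules.pushforward f).mapHomologicalComplex (ComplexShape.up ℤ)).map
          (sCx I (f.appTop r)) :=
      HomologicalComplex.hom_ext _ _ fun i => (sMod_pushforward f (I.X i) r).symm
    rw [hs]
    exact (QRlimLib.rpushUnit f).naturality
      ((HomotopyCategory.quotient X.Modules (ComplexShape.up ℤ)).map (sCx I (f.appTop r)))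
  have h2 : inv v ≫ DerivedCategory.Q.map (sCx _ r) =
      (DCoh.Rpush f).map (DerivedCategory.Q.map (sCx I (f.appTop r))) ≫ inv v := by
    rw [IsIso.inv_comp_eq, ← Category.assoc, ← hv, Category.assoc, IsIso.hom_inv_id, Category.comp_id]
  rw [← cancel_mono ((DCoh.Rpush f).map e.inv ≫ inv v)]
  have h := inD_sMod_comm M r ((η ≫ (DCoh.Rpush f).map x) ≫ (DCoh.Rpush f).map e.inv ≫ inv v)
  have h3 := congrArg (DCoh.Rpush f).map (inD_sMod_comm N (P := I) (f.appTop r) (x ≫ e.inv))
  simp only [Functor.map_comp, Category.assoc] at h h3 ⊢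
  rw [h, h2, reassoc_of% h3]

end Groth.Agent.Dual3Lib
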