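import Groth.Agent.DCompLib.SingleHom
import Groth.Agent.DerLib.Ghost
import Groth.Agent.Dual3Lib.ScalarD
import Groth.Agent.DualCxLib.Chart2
import Groth.Agent.S0997

/-!
# Evaluation of maps out of the structure sheaf of an affine scheme
-/

set_option autoImplicit false
set_option linter.style.haveILetI false
set_option backward.isDefEq.respectTransparency false
set_option backward.isDefEq.respectTransparency.types false
set_option maxHeartbeats 1000000

universe w v u

open CategoryTheory CategoryTheory.Limits AlgebraicGeometry DerivedCategory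

noncomputable section

namespace Groth.Agent.Dual3Lib

section General

variable {C : Type u} [Category.{v} C] [Abelian C] [HasDerivedCategory.{w} C]

/-- Maps from `≤ m` to `≥ m` are maps of the `m`-th cohomology. -/
theorem bijective_homologyMap {K L : DerivedCategory C} (m : ℤ) [K.IsLE m] [L.IsGE m] :
    Function.Bijective fun f : K ⟶ L => (homologyFunctor C m).map f := by
  refine ⟨fun f g h => sub_eq_zero.1 (DerLib.Ghost.eq_zero_of_homologyMap_eq_zero m _ (by
    rw [Functor.map_sub, sub_eq_zero]; exact h)), fun φ => ?_⟩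
  haveI : ((TStructure.t.truncGE m).obj K).IsLE m := inferInstanceAs (TStructure.t.IsLE _ m)
  haveI : ((TStructure.t.truncGE m).obj K).IsGE m := TStructure.t.isGE_truncGE_obj K m m (by lia)
  haveI : ((TStructure.t.truncLT (m + 1)).obj L).IsLE m := TStructure.t.isLE_truncLT_obj L (m + 1) m (by lia)
  haveI : ((TStructure.t.truncLT (m + 1)).obj L).IsGE m := inferInstanceAs (TStructure.t.IsGE _ m)
  haveI := DerLib.Ghost.isIso_homologyMap_truncGEπ K m m le_rfl
  haveI := DerLib.Ghost.isIso_homologyMap_truncLTι L (m + 1) m (by lia)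
  obtain ⟨P, ⟨e₁⟩⟩ := exists_iso_singleFunctor_obj_of_isGE_of_isLE ((TStructure.t.truncGE m).obj K) m
  obtain ⟨R, ⟨e₂⟩⟩ := exists_iso_singleFunctor_obj_of_isGE_of_isLE ((TStructure.t.truncLT (m + 1)).obj L) m
  let H := homologyFunctor C m
  let s := singleFunctorCompHomologyFunctorIso C m
  let φ' := inv (H.map ((TStructure.t.truncGEπ m).app K)) ≫ φ ≫
    inv (H.map ((TStructure.t.truncLTι (m + 1)).app L))
  let ψ : P ⟶ R := (s.app P).inv ≫ H.map e₁.inv ≫ φ' ≫ H.map e₂.hom ≫ (s.app R).hom
  refine ⟨(TStructure.t.truncGEπ m).app K ≫ (e₁.hom ≫ (singleFunctor C m).map ψ ≫ e₂.inv) ≫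
    (TStructure.t.truncLTι (m + 1)).app L, ?_⟩
  have hs : H.map ((singleFunctor C m).map ψ) = (s.app P).hom ≫ ψ ≫ (s.app R).inv := by
    rw [← Category.assoc, Iso.eq_comp_inv]
    exact s.hom.naturality ψ
  simp only [Functor.map_comp, H] at hs ⊢
  rw [hs]
  simp [ψ, φ', H, ← Functor.map_comp_assoc]

end General

attribute [local instance] HasDerivedCategory.standard

variable {A : Type u} [CommRing A]

/-- Evaluation at one of a map out of the ring. -/
def ev1 (M : DerivedCategory (ModuleCat.{u} A)) :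
    (Dual.inD A A ⟶ M) →+ (homologyFunctor (ModuleCat.{u} A) 0).obj M :=
  AddMonoidHom.mk' (fun g => (DCompLib.evH0 (ModuleCat.of A A) M g).hom 1) fun g g' => by
    simp [DCompLib.evH0]

theorem bijective_ev1 (M : DerivedCategory (ModuleCat.{u} A)) : Function.Bijective (ev1 M) := by
  haveI : Projective (ModuleCat.of A A) := ModuleCat.projective_of_categoryTheory_projective _
  have h : Function.Bijective fun u : ModuleCat.of A A ⟶ (homologyFunctor (ModuleCat.{u} A) 0).obj M =>
      u.hom 1 :=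
    ⟨fun u v huv => ModuleCat.hom_ext (LinearMap.ext_ring huv),
      fun x => ⟨ModuleCat.ofHom (LinearMap.toSpanSingleton A _ x), one_smul A x⟩⟩
  exact h.comp (DCompLib.bijective_evH0 (ModuleCat.of A A) M)

theorem ev1_comp {M N : DerivedCategory (ModuleCat.{u} A)} (g : Dual.inD A A ⟶ M) (h : M ⟶ N) :
    ev1 N (g ≫ h) = ((homologyFunctor (ModuleCat.{u} A) 0).map h).hom (ev1 M g) := by
  show (DCompLib.evH0 _ N (g ≫ h)).hom 1 = _
  rw [DCompLib.evH0_comp]
  rfl

theorem ev1_smul (r : A) {M : DerivedCategory (ModuleCat.{u} A)} (g : Dual.inD A A ⟶ M) :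
    ev1 M ((singleFunctor (ModuleCat.{u} A) 0).map (ModuleCat.ofHom (r • LinearMap.id)) ≫ g) = r • ev1 M g := by
  show (DCompLib.evH0 (ModuleCat.of A A) M _).hom 1 = r • (DCompLib.evH0 (ModuleCat.of A A) M g).hom 1
  rw [DCompLib.evH0_map]
  exact map_smul (DCompLib.evH0 (ModuleCat.of A A) M g).hom r 1

section Spec

variable [PreservesFiniteLimits (tilde.functor (CommRingCat.of A))]

instance : (tilde.functor (CommRingCat.of A)).Additive :=
  DualCxLib.tilde_additive (CommRingCat.of A)

instance : PreservesFiniteColimits (tilde.functor (CommRingCat.of A)) :=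
  DualCxLib.tilde_preservesFiniteColimits (CommRingCat.of A)

theorem tilde_map_smul (M : ModuleCat.{u} A) (r : A) :
    (tilde.functor (CommRingCat.of A)).map (ModuleCat.ofHom (r • LinearMap.id)) =
      sMod (tilde (R := CommRingCat.of A) M) ((Scheme.ΓSpecIso (CommRingCat.of A)).inv.hom r) := by
  haveI : (tilde.functor (CommRingCat.of A)).Full := (tilde.fullyFaithfulFunctor (R := CommRingCat.of A)).full
  obtain ⟨g, hg⟩ := (tilde.functor (CommRingCat.of A)).map_surjective
    (sMod (tilde (R := CommRingCat.of A) M) ((Scheme.ΓSpecIso (CommRingCat.of A)).inv.hom r))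
  rw [← hg]
  congr 1
  ext x
  apply ((tilde.isoTop (R := CommRingCat.of A) M).toLinearEquiv).injective
  have h := congr($(tilde.toOpen_map_app g ⊤) x)
  refine Eq.trans ?_ h
  refine Eq.trans (map_smul (tilde.toOpen (R := CommRingCat.of A) M ⊤).hom r x) ?_
  show _ = (Scheme.Modules.Hom.app ((tilde.functor (CommRingCat.of A)).map g) ⊤)
    ((tilde.toOpen (R := CommRingCat.of A) M ⊤).hom x)
  rw [hg]
  rfl

/-- The structure sheaf and the tilde of the ring. -/
def inDSpecIso : (DCoh.tildeD (CommRingCat.of A)).obj (Dual.inD A A) ≅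
    DCoh.inD (Spec (CommRingCat.of A)) (Coh.structureModule (Spec (CommRingCat.of A))) :=
  ((tilde.functor (CommRingCat.of A)).mapDerivedCategorySingleFunctor 0).app (ModuleCat.of A A) ≪≫
    (singleFunctor (Spec (CommRingCat.of A)).Modules 0).mapIso tildeSelf

/-- The scalar `r` on the structure sheaf in degree zero. -/
abbrev sO (r : A) : DCoh.inD (Spec (CommRingCat.of A)) (Coh.structureModule (Spec (CommRingCat.of A))) ⟶
    DCoh.inD (Spec (CommRingCat.of A)) (Coh.structureModule (Spec (CommRingCat.of A))) :=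
  (singleFunctor (Spec (CommRingCat.of A)).Modules 0).map
    (sMod (Coh.structureModule (Spec (CommRingCat.of A))) ((Scheme.ΓSpecIso (CommRingCat.of A)).inv.hom r))

theorem inDSpecIso_smul (r : A) :
    (DCoh.tildeD (CommRingCat.of A)).map
        ((singleFunctor (ModuleCat.{u} A) 0).map (ModuleCat.ofHom (r • LinearMap.id))) ≫
      (inDSpecIso (A := A)).hom = inDSpecIso.hom ≫ sO r := by
  show _ ≫ ((tilde.functor (CommRingCat.of A)).mapDerivedCategorySingleFunctor 0).hom.app _ ≫
    (singleFunctor (Spec (CommRingCat.of A)).Modules 0).map tildeSelf.hom = _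
  have h := ((tilde.functor (CommRingCat.of A)).mapDerivedCategorySingleFunctor 0).hom.naturality
    (ModuleCat.ofHom (X := A) (r • LinearMap.id))
  rw [← Category.assoc]
  erw [h]
  show (_ ≫ (singleFunctor (Spec (CommRingCat.of A)).Modules 0).map
    ((tilde.functor (CommRingCat.of A)).map _)) ≫ _ = (_ ≫ _) ≫ _
  rw [Category.assoc, Category.assoc]
  refine congrArg (((tilde.functor (CommRingCat.of A)).mapDerivedCategorySingleFunctor 0).hom.app _ ≫ ·) ?_
  show _ ≫ _ = (singleFunctor (Spec (CommRingCat.of A)).Modules 0).map tildeSelf.hom ≫ _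
  rw [← Functor.map_comp, ← Functor.map_comp]
  refine congrArg (singleFunctor (Spec (CommRingCat.of A)).Modules 0).map ?_
  exact (congrArg (· ≫ tildeSelf.hom) (tilde_map_smul (ModuleCat.of A A) r)).trans (sMod_natural _ _)

variable {L : DCoh.D (Spec (CommRingCat.of A))} {ω : DerivedCategory (ModuleCat.{u} A)}
  (e : L ≅ (DCoh.tildeD (CommRingCat.of A)).obj ω)

/-- Evaluation on `Spec A`. -/
def evS : (DCoh.inD (Spec (CommRingCat.of A)) (Coh.structureModule (Spec (CommRingCat.of A))) ⟶ L) →+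
    (homologyFunctor (ModuleCat.{u} A) 0).obj ω :=
  haveI := (Groth.Agent.S0997.result (CommRingCat.of A)).1
  haveI := (Groth.Agent.S0997.result (CommRingCat.of A)).2.1
  (ev1 ω).comp (AddMonoidHom.mk'
    (fun g => (DCoh.tildeD (CommRingCat.of A)).preimage (inDSpecIso.hom ≫ g ≫ e.hom))
    fun g g' => (DCoh.tildeD (CommRingCat.of A)).map_injective (by simp))

theorem evS_map (g : Dual.inD A A ⟶ ω) :
    evS e (inDSpecIso.inv ≫ (DCoh.tildeD (CommRingCat.of A)).map g ≫ e.inv) = ev1 ω g := by
  haveI := (Groth.Agent.S0997.result (CommRingCat.of A)).1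
  haveI := (Groth.Agent.S0997.result (CommRingCat.of A)).2.1
  refine congrArg (ev1 ω) ((DCoh.tildeD (CommRingCat.of A)).map_injective ?_)
  simp

theorem exists_evS_lift (g : DCoh.inD (Spec (CommRingCat.of A)) (Coh.structureModule (Spec (CommRingCat.of A))) ⟶ L) :
    ∃ g' : Dual.inD A A ⟶ ω, g = inDSpecIso.inv ≫ (DCoh.tildeD (CommRingCat.of A)).map g' ≫ e.inv := by
  haveI := (Groth.Agent.S0997.result (CommRingCat.of A)).1
  obtain ⟨g', hg'⟩ := (DCoh.tildeD (CommRingCat.of A)).map_surjective (inDSpecIso.hom ≫ g ≫ e.hom)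
  exact ⟨g', by simp [hg']⟩

theorem bijective_evS : Function.Bijective (evS e) := by
  constructor
  · intro g₁ g₂ h
    obtain ⟨a, rfl⟩ := exists_evS_lift e g₁
    obtain ⟨b, rfl⟩ := exists_evS_lift e g₂
    rw [evS_map, evS_map] at h
    rw [(bijective_ev1 ω).1 h]
  · intro x
    obtain ⟨g, rfl⟩ := (bijective_ev1 ω).2 x
    exact ⟨_, evS_map e g⟩

theorem evS_smul (r : A) (g : DCoh.inD (Spec (CommRingCat.of A)) (Coh.structureModule (Spec (CommRingCat.of A))) ⟶ L) :
    evS e (sO r ≫ g) = r • evS e g := by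
  obtain ⟨a, rfl⟩ := exists_evS_lift e g
  rw [evS_map, ← ev1_smul r a, ← evS_map e, Functor.map_comp]
  refine congrArg (evS e) ?_
  simp only [Category.assoc]
  rw [← Category.assoc, ← Category.assoc inDSpecIso.inv]
  refine congrArg (· ≫ _) ?_
  rw [Iso.eq_inv_comp, ← Category.assoc, ← inDSpecIso_smul, Category.assoc, Iso.hom_inv_id, Category.comp_id]

variable {K : DCoh.D (Spec (CommRingCat.of A))}

/-- Maps from an object in degrees `≤ 0` into an object in degrees `≥ 0`. -/
theorem existsUnique_of_evS [ω.IsGE 0] (hK : DCoh.IsQCohD K)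
    (hvan : ∀ j : ℤ, 0 < j → ∀ g : DCoh.inD (Spec (CommRingCat.of A))
      (Coh.structureModule (Spec (CommRingCat.of A))) ⟶ K⟦j⟧, g = 0)
    (Ψ : (DCoh.inD (Spec (CommRingCat.of A)) (Coh.structureModule (Spec (CommRingCat.of A))) ⟶ K) →+
      (homologyFunctor (ModuleCat.{u} A) 0).obj ω)
    (hΨ : ∀ (r : A) g, Ψ (sO r ≫ g) = r • Ψ g) :
    ∃! f : K ⟶ L, ∀ g, evS e (g ≫ f) = Ψ g := by
  obtain ⟨hF, hFa, hq⟩ := Groth.Agent.S0997.result (CommRingCat.of A)
  obtain ⟨N, ⟨eN⟩⟩ := (hq K).1 hK
  haveI : N.IsLE 0 := by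
    rw [isLE_iff]
    intro j hj
    refine ((ModuleCat.isZero_iff_subsingleton (M := (homologyFunctor (ModuleCat.{u} A) 0).obj (N⟦j⟧))).2 ?_).of_iso
      (((homologyFunctor (ModuleCat.{u} A) 0).shiftIso j 0 j (by omega)).app N).symm
    let e' : K⟦j⟧ ≅ (DCoh.tildeD (CommRingCat.of A)).obj (N⟦j⟧) :=
      (shiftFunctor _ j).mapIso eN.symm ≪≫ (((DCoh.tildeD (CommRingCat.of A)).commShiftIso j).app N).symm
    haveI : Subsingleton (DCoh.inD (Spec (CommRingCat.of A))
        (Coh.structureModule (Spec (CommRingCat.of A))) ⟶ K⟦j⟧) :=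
      ⟨fun a b => by rw [hvan j hj a, hvan j hj b]⟩
    exact (AddEquiv.ofBijective _ (bijective_evS e')).symm.toEquiv.subsingleton
  let eK := AddEquiv.ofBijective _ (bijective_evS eN.symm)
  let θ : (homologyFunctor (ModuleCat.{u} A) 0).obj N →ₗ[A] (homologyFunctor (ModuleCat.{u} A) 0).obj ω :=
    { toFun := fun x => Ψ (eK.symm x)
      map_add' := fun x y => by rw [map_add, map_add]
      map_smul' := fun r x => by
        rw [RingHom.id_apply, ← hΨ]
        refine congrArg Ψ ((AddEquiv.symm_apply_eq eK).2 ?_)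
        show _ = evS eN.symm _
        rw [evS_smul]
        exact congrArg (r • ·) (eK.apply_symm_apply x).symm }
  have key : ∀ (g : DCoh.inD (Spec (CommRingCat.of A)) (Coh.structureModule (Spec (CommRingCat.of A))) ⟶ K)
      (h : N ⟶ ω), evS e (g ≫ eN.inv ≫ (DCoh.tildeD (CommRingCat.of A)).map h ≫ e.inv) =
        ((homologyFunctor (ModuleCat.{u} A) 0).map h).hom (evS eN.symm g) := fun g h => by
    obtain ⟨a, rfl⟩ := exists_evS_lift eN.symm g
    rw [evS_map, ← ev1_comp, ← evS_map e (a ≫ h), Functor.map_comp]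
    simp
  obtain ⟨h, hh⟩ := (bijective_homologyMap (K := N) (L := ω) 0).2 (ModuleCat.ofHom θ)
  refine ⟨eN.inv ≫ (DCoh.tildeD (CommRingCat.of A)).map h ≫ e.inv, fun g => ?_, fun f hf => ?_⟩
  · rw [key, show (homologyFunctor (ModuleCat.{u} A) 0).map h = ModuleCat.ofHom θ from hh]
    exact congrArg Ψ (eK.symm_apply_apply g)
  · obtain ⟨h', hh'⟩ := (DCoh.tildeD (CommRingCat.of A)).map_surjective (eN.hom ≫ f ≫ e.hom)
    have hf' : f = eN.inv ≫ (DCoh.tildeD (CommRingCat.of A)).map h' ≫ e.inv := by rw [hh']; simp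
    suffices h' = h by rw [hf', this]
    apply (bijective_homologyMap (K := N) (L := ω) 0).1
    refine Eq.trans ?_ hh.symm
    ext x
    obtain ⟨g, rfl⟩ := eK.surjective x
    have := hf g
    rw [hf', key] at this
    exact this.trans (congrArg Ψ (eK.symm_apply_apply g)).symm

end Spec

end Groth.Agent.Dual3Lib
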