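import Groth.Agent.Dual3Lib.ExtHH
import Groth.Agent.Dual3Lib.EvalSpec
import Groth.Agent.KoszOrthLib.PnPC
import Groth.Agent.QRlimLib.Unbounded
import Groth.Agent.PerfBaseLib.RpushTor
import Groth.Prelude.Def_DDual2

/-!
# The trace on top cohomology
-/

set_option autoImplicit false
set_option linter.style.haveILetI false
set_option backward.isDefEq.respectTransparency false
set_option backward.isDefEq.respectTransparency.types false
set_option maxHeartbeats 1000000
set_option synthInstance.maxHeartbeats 200000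

universe u

open CategoryTheory CategoryTheory.Limits AlgebraicGeometry CategoryTheory.Abelian DerivedCategory

attribute [local instance] HasDerivedCategory.standard

noncomputable section

namespace Groth.Agent.Dual3Lib

section Y

variable {X : Scheme.{u}}

/-- The structure sheaf in degree zero. -/
abbrev uO (X : Scheme.{u}) : DCoh.D X := DCoh.inD X (Coh.structureModule X)

/-- A module placed in degree `-n`. -/
abbrev KX (M : X.Modules) (n : ℕ) : DCoh.D X := (DCoh.inD X M)⟦(n : ℤ)⟧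

/-- Maps of modules act on `KX`. -/
abbrev KXmap {M N : X.Modules} (φ : M ⟶ N) (n : ℕ) : KX M n ⟶ KX N n :=
  (shiftFunctor (DCoh.D X) (n : ℤ)).map ((singleFunctor X.Modules 0).map φ)

theorem single_comm (M : X.Modules) (n : ℕ) (a : Coh.Γtop X) (y : uO X ⟶ KX M n) :
    (singleFunctor X.Modules 0).map (sMod (Coh.structureModule X) a) ≫ y = y ≫ KXmap (sMod M a) n := by
  let e := singleFunctorIsoCompQ X.Modules 0
  let P := (HomologicalComplex.single X.Modules (ComplexShape.up ℤ) 0).obj M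
  let b : KX M n ≅ DerivedCategory.Q.obj (P⟦(n : ℤ)⟧) :=
    (shiftFunctor (DCoh.D X) (n : ℤ)).mapIso (e.app M) ≪≫ ((DerivedCategory.Q.commShiftIso (n : ℤ)).app P).symm
  have h1 := inD_sMod_comm (Coh.structureModule X) a (y ≫ b.hom)
  have h2 : b.hom ≫ DerivedCategory.Q.map (sCx (P⟦(n : ℤ)⟧) a) = KXmap (sMod M a) n ≫ b.hom := by
    have h3 : sCx (P⟦(n : ℤ)⟧) a = (sCx P a)⟦(n : ℤ)⟧' := HomologicalComplex.hom_ext _ _ fun i => rfl
    have h4 : (singleFunctor X.Modules 0).map (sMod M a) ≫ (e.app M).hom =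
        (e.app M).hom ≫ DerivedCategory.Q.map (sCx P a) := by
      rw [← single_map_sMod]
      exact e.hom.naturality (sMod M a)
    have h5 := (DerivedCategory.Q.commShiftIso (n : ℤ)).inv.naturality (sCx P a)
    rw [h3]
    simp only [b, Iso.trans_hom, Functor.mapIso_hom, Iso.symm_hom, Iso.app_inv, KXmap, Category.assoc]
    rw [← Functor.map_comp_assoc, h4, Functor.map_comp_assoc]
    exact congrArg _ h5.symm
  rw [← cancel_mono b.hom, Category.assoc, h1, Category.assoc, h2, Category.assoc]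

variable [HasExt.{u} X.Modules]

/-- `Hom(O, M[n]) = H^n(X, M)`. -/
def toY (M : X.Modules) (n : ℕ) : (uO X ⟶ KX M n) ≃+ Coh.HH X M n :=
  (Ext.homAddEquiv (X := Coh.structureModule X) (Y := M) (n := n)).symm.trans (extHHEquiv M n)

theorem toY_natural {M N : X.Modules} (φ : M ⟶ N) (n : ℕ) (y : uO X ⟶ KX M n) :
    toY N n (y ≫ KXmap φ n) =
      Sheaf.H.map ((SheafOfModules.toSheaf X.ringCatSheaf).map φ) n (toY M n y) := by
  refine Eq.trans ?_ (extHH_natural φ n (Ext.homAddEquiv.symm y))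
  refine congrArg (extHH N n) ((AddEquiv.symm_apply_eq _).2 ?_)
  show _ = ((Ext.homAddEquiv.symm y).comp (Ext.mk₀ φ) (add_zero n)).hom
  rw [Ext.comp_hom, Ext.mk₀_hom, ShiftedHom.comp_mk₀]
  exact congrArg (· ≫ _) (Ext.homAddEquiv.apply_symm_apply y).symm

theorem toY_smul (M : X.Modules) (n : ℕ) (a : Coh.Γtop X) (y : uO X ⟶ KX M n) :
    toY M n ((singleFunctor X.Modules 0).map (sMod (Coh.structureModule X) a) ≫ y) = a • toY M n y := by
  rw [single_comm, toY_natural]
  rfl

theorem subsingleton_hom_KX (M : X.Modules) (n : ℕ) [Subsingleton (Coh.HH X M n)] :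
    Subsingleton (uO X ⟶ KX M n) :=
  (toY M n).toEquiv.subsingleton

/-- The cohomology of `KX`. -/
def homKX (n : ℕ) (M : X.Modules) :
    (homologyFunctor X.Modules (-(n : ℤ))).obj (KX M n) ≅ M :=
  ((homologyFunctor X.Modules 0).shiftIso (n : ℤ) (-(n : ℤ)) 0 (by omega)).app (DCoh.inD X M) ≪≫
    (singleFunctorCompHomologyFunctorIso X.Modules 0).app M

theorem homKX_natural {M N : X.Modules} (φ : M ⟶ N) (n : ℕ) :
    (homologyFunctor X.Modules (-(n : ℤ))).map (KXmap φ n) = (homKX n M).hom ≫ φ ≫ (homKX n N).inv := by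
  rw [← Category.assoc, Iso.eq_comp_inv]
  show _ ≫ _ ≫ _ = (_ ≫ _) ≫ φ
  rw [← Category.assoc]
  erw [((homologyFunctor X.Modules 0).shiftIso (n : ℤ) (-(n : ℤ)) 0 (by omega)).hom.naturality
    ((singleFunctor X.Modules 0).map φ)]
  rw [Category.assoc, Category.assoc]
  exact congrArg _ ((singleFunctorCompHomologyFunctorIso X.Modules 0).hom.naturality φ)

theorem isLE_KX (M : X.Modules) (n : ℕ) : (KX M n).IsLE (-(n : ℤ)) :=
  TStructure.t.isLE_shift (DCoh.inD X M) 0 (n : ℤ) (-(n : ℤ)) (by omega)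

end Y

section Core

variable {A : Type u} [CommRing A] [PreservesFiniteLimits (tilde.functor (CommRingCat.of A))]
  {X : Scheme.{u}} [X.Over (Spec (CommRingCat.of A))]
  [QuasiCompact (X ↘ Spec (CommRingCat.of A))] [QuasiSeparated (X ↘ Spec (CommRingCat.of A))]
  [DCoh.HasRpush (X ↘ Spec (CommRingCat.of A))]
  (hf : DCoh.RpushPreservesQCoh (X ↘ Spec (CommRingCat.of A)))
  (a : DCoh.DQCoh (Spec (CommRingCat.of A)) ⥤ DCoh.DQCoh X)
  (adj : DCoh.RpushQ (X ↘ Spec (CommRingCat.of A)) hf ⊣ a)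

include adj in
/-- The cohomology in the lowest degree represents the dual of the top cohomology. -/
theorem exists_trace_zero (n : ℕ) (W : DCoh.DQCoh (Spec (CommRingCat.of A)))
    {ω : DerivedCategory (ModuleCat.{u} A)} (eW : W.obj ≅ (DCoh.tildeD (CommRingCat.of A)).obj ω) [ω.IsGE 0]
    (hge : (a.obj W).obj.IsGE (-(n : ℤ))) :
    ∃ t : Coh.HH X (DCoh.HD (a.obj W).obj (-(n : ℤ))) n →ₗ[A] (homologyFunctor (ModuleCat.{u} A) 0).obj ω,
      ∀ F : X.Modules, Coh.IsQCoh F → (∀ j : ℕ, n < j → Subsingleton (Coh.HH X F j)) →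
        ∀ ψ : Coh.HH X F n →ₗ[A] (homologyFunctor (ModuleCat.{u} A) 0).obj ω,
          ∃! φ : F ⟶ DCoh.HD (a.obj W).obj (-(n : ℤ)), ∀ x : Coh.HH X F n,
            ψ x = t (Sheaf.H.map ((SheafOfModules.toSheaf X.ringCatSheaf).map φ) n x) := by
  haveI : EnoughInjectives X.Modules := IsGrothendieckAbelian.enoughInjectives.{u}
  haveI : HasExt.{u} X.Modules := hasExt_of_enoughInjectives.{u} X.Modules
  haveI := hge
  let f := X ↘ Spec (CommRingCat.of A)
  let G := DCoh.HD (a.obj W).obj (-(n : ℤ))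
  have hG : Coh.IsQCoh G := (a.obj W).property _
  let Kq : ∀ M : X.Modules, Coh.IsQCoh M → DCoh.DQCoh X := fun M hM =>
    ⟨KX M n, KFlatLib.isQCohD_shift (PerfBaseLib.isQCohD_inD M hM) _⟩
  obtain ⟨η, hη⟩ := KoszOrthLib.exists_unit_rpush f
  let push : ∀ K : DCoh.D X, (uO X ⟶ K) ≃+ (uO (Spec (CommRingCat.of A)) ⟶ (DCoh.Rpush f).obj K) := fun K =>
    AddEquiv.ofBijective (AddMonoidHom.mk' (fun y => η ≫ (DCoh.Rpush f).map y)
      (fun y y' => by
        haveI : (DCoh.Rpush f).Additive := by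
          obtain ⟨_, _⟩ := QRlimLib.exists_isTriangulated_rpush f
          infer_instance
        rw [Functor.map_add, Preadditive.comp_add])) (hη K)
  have push_smul : ∀ (r : A) (K : DCoh.D X) (y : uO X ⟶ K),
      push K ((singleFunctor X.Modules 0).map (sMod (Coh.structureModule X) (Coh.toGlobal f r)) ≫ y) =
        sO r ≫ push K y := fun r K y =>
    (sMod_rpush_comm f ((Scheme.ΓSpecIso (CommRingCat.of A)).inv.hom r) (Coh.structureModule _)
      (Coh.structureModule X) η y).symm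
  -- the universal class
  haveI := isLE_KX G n
  obtain ⟨τ, hτ⟩ := (bijective_homologyMap (K := KX G n) (L := (a.obj W).obj) (-(n : ℤ))).2 (homKX n G).hom
  let ρ : (DCoh.RpushQ f hf).obj (Kq G hG) ⟶ W := (adj.homEquiv _ _).symm (ObjectProperty.homMk τ)
  let evL : (uO X ⟶ KX G n) →+ (homologyFunctor (ModuleCat.{u} A) 0).obj ω :=
    (evS eW).comp ((AddMonoidHom.mk' (fun g : uO _ ⟶ (DCoh.Rpush f).obj (KX G n) => g ≫ ρ.hom)
      (fun g g' => Preadditive.add_comp _ _ _ g g' ρ.hom)).comp (push _).toAddMonoidHom)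
  have smul_def : ∀ (M : X.Modules) (r : A) (x : Coh.HH X M n),
      (toY M n).symm (r • x) = (singleFunctor X.Modules 0).map
        (sMod (Coh.structureModule X) (Coh.toGlobal f r)) ≫ (toY M n).symm x := fun M r x => by
    rw [AddEquiv.symm_apply_eq, toY_smul, AddEquiv.apply_symm_apply]
    rfl
  refine ⟨{ toFun := fun x => evL ((toY G n).symm x)
            map_add' := fun x x' => by rw [map_add, map_add]
            map_smul' := fun r x => ?_ }, fun F hF hvanF ψ => ?_⟩
  · rw [RingHom.id_apply, smul_def]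
    show evS eW (push _ _ ≫ ρ.hom) = r • evS eW (push _ _ ≫ ρ.hom)
    rw [push_smul, Category.assoc, evS_smul]
  haveI := isLE_KX F n
  -- maps into the lowest cohomology
  have hbij : Function.Bijective fun φ : F ⟶ G =>
      ((adj.homEquiv (Kq F hF) W).symm (ObjectProperty.homMk (KXmap φ n ≫ τ))) := by
    refine (adj.homEquiv (Kq F hF) W).symm.bijective.comp ?_
    refine (show Function.Bijective fun g : KX F n ⟶ (a.obj W).obj => (ObjectProperty.homMk g : Kq F hF ⟶ a.obj W)
      from ⟨fun g g' h => congrArg (fun k => k.hom) h, fun k => ⟨k.hom, rfl⟩⟩).comp ?_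
    refine (Function.Bijective.of_comp_iff' (bijective_homologyMap (K := KX F n) (L := (a.obj W).obj) (-(n : ℤ))) _).1 ?_
    have : (fun g : KX F n ⟶ (a.obj W).obj => (homologyFunctor X.Modules (-(n : ℤ))).map g) ∘
        (fun φ : F ⟶ G => KXmap φ n ≫ τ) = fun φ => (homKX n F).hom ≫ φ := funext fun φ => by
      show (homologyFunctor X.Modules (-(n : ℤ))).map (KXmap φ n ≫ τ) = _
      rw [Functor.map_comp, homKX_natural, show (homologyFunctor X.Modules (-(n : ℤ))).map τ = (homKX n G).hom from hτ]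
      simp
    rw [this]
    exact KoszOrthLib.bijective_iso_comp (homKX n F) G
  have hcomp : ∀ (φ : F ⟶ G) (x : Coh.HH X F n),
      evL ((toY G n).symm (Sheaf.H.map ((SheafOfModules.toSheaf X.ringCatSheaf).map φ) n x)) =
        evS eW (push _ ((toY F n).symm x) ≫
          ((adj.homEquiv (Kq F hF) W).symm (ObjectProperty.homMk (KXmap φ n ≫ τ))).hom) := fun φ x => by
    have h0 : (toY G n).symm (Sheaf.H.map ((SheafOfModules.toSheaf X.ringCatSheaf).map φ) n x) =
        (toY F n).symm x ≫ KXmap φ n := by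
      rw [AddEquiv.symm_apply_eq, toY_natural, AddEquiv.apply_symm_apply]
    have h1 : ((adj.homEquiv (Kq F hF) W).symm (ObjectProperty.homMk (KXmap φ n ≫ τ))).hom =
        (DCoh.Rpush f).map (KXmap φ n) ≫ ρ.hom :=
      congrArg (fun k => k.hom) (adj.homEquiv_naturality_left_symm
        (ObjectProperty.homMk (KXmap φ n) : Kq F hF ⟶ Kq G hG) (ObjectProperty.homMk τ))
    rw [h1, h0]
    show evS eW ((η ≫ (DCoh.Rpush f).map _) ≫ ρ.hom) = evS eW ((η ≫ (DCoh.Rpush f).map _) ≫ _)
    simp only [Functor.map_comp, Category.assoc]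
  -- vanishing above
  have hvan : ∀ j : ℤ, 0 < j → ∀ g : uO (Spec (CommRingCat.of A)) ⟶ ((DCoh.Rpush f).obj (KX F n))⟦j⟧, g = 0 := by
    intro j hj g
    obtain ⟨m, rfl⟩ := Int.eq_ofNat_of_zero_le hj.le
    obtain ⟨_, _⟩ := QRlimLib.exists_isTriangulated_rpush f
    haveI := hvanF (n + m) (by omega)
    haveI := subsingleton_hom_KX F (n + m)
    let c : (DCoh.Rpush f).obj (KX F (n + m)) ≅ ((DCoh.Rpush f).obj (KX F n))⟦(m : ℤ)⟧ :=
      (DCoh.Rpush f).mapIso ((shiftFunctorAdd' (DCoh.D X) (n : ℤ) (m : ℤ) ((n + m : ℕ) : ℤ) (by omega)).app _) ≪≫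
        ((DCoh.Rpush f).commShiftIso (m : ℤ)).app _
    obtain ⟨y, hy⟩ := (push (KX F (n + m))).surjective (g ≫ c.inv)
    rw [← cancel_mono c.inv, ← hy, Subsingleton.elim y 0, map_zero, zero_comp]
  obtain ⟨f₀, hf₀, huniq⟩ := existsUnique_of_evS eW (hf _ (Kq F hF).property) hvan
    (ψ.toAddMonoidHom.comp ((toY F n).toAddMonoidHom.comp (push (KX F n)).symm.toAddMonoidHom))
    fun r g => by
      show ψ (toY F n ((push (KX F n)).symm (sO r ≫ g))) = r • ψ (toY F n ((push (KX F n)).symm g))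
      have : (push (KX F n)).symm (sO r ≫ g) = (singleFunctor X.Modules 0).map
          (sMod (Coh.structureModule X) (Coh.toGlobal f r)) ≫ (push (KX F n)).symm g := by
        rw [AddEquiv.symm_apply_eq, push_smul, AddEquiv.apply_symm_apply]
      rw [this, toY_smul]
      exact ψ.map_smul r _
  obtain ⟨φ, hφ⟩ := hbij.2 (ObjectProperty.homMk f₀)
  refine ⟨φ, fun x => ?_, fun φ' hφ' => hbij.1 ?_⟩
  · refine Eq.symm ((hcomp φ x).trans ?_)
    rw [show ((adj.homEquiv (Kq F hF) W).symm (ObjectProperty.homMk (KXmap φ n ≫ τ))).hom = f₀ from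
      congrArg (fun k => k.hom) hφ]
    refine (hf₀ _).trans ?_
    show ψ (toY F n ((push (KX F n)).symm (push (KX F n) _))) = _
    rw [AddEquiv.symm_apply_apply, AddEquiv.apply_symm_apply]
  · refine Eq.trans (ObjectProperty.hom_ext _ (huniq _ fun g => ?_)) hφ.symm
    obtain ⟨y, rfl⟩ := (push (KX F n)).surjective g
    obtain ⟨x, rfl⟩ := (toY F n).symm.surjective y
    refine ((hcomp φ' x).symm.trans (hφ' x).symm).trans ?_
    show _ = ψ (toY F n ((push (KX F n)).symm (push (KX F n) _)))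
    rw [AddEquiv.symm_apply_apply, AddEquiv.apply_symm_apply]

end Core

end Groth.Agent.Dual3Lib
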