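import Groth.Agent.Dual3Lib.HomField
import Groth.Agent.Dual3Lib.TopTrace
import Groth.Agent.HensSchLib.Flat
import Groth.Prelude.Def_KLin

/-!
# The trace of the dualizing complex over a field
-/

set_option autoImplicit false
set_option linter.style.haveILetI false
set_option backward.isDefEq.respectTransparency false
set_option backward.isDefEq.respectTransparency.types false
set_option maxHeartbeats 1000000
set_option synthInstance.maxHeartbeats 200000

universe u

open CategoryTheory CategoryTheory.Limits AlgebraicGeometry DerivedCategory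

attribute [local instance] HasDerivedCategory.standard

noncomputable section

namespace Groth.Agent.Dual3Lib

variable {k : Type u} [Field k]

instance : PreservesFiniteLimits (tilde.functor (CommRingCat.of k)) :=
  HensSchLib.tilde_preservesFiniteLimits (CommRingCat.of k)

/-- `H^0` of `k` in degree zero. -/
def fieldH0 (k : Type u) [Field k] :
    (homologyFunctor (ModuleCat.{u} k) 0).obj (Dual.inD k k) ≃ₗ[k] k :=
  ((singleFunctorCompHomologyFunctorIso (ModuleCat.{u} k) 0).app (ModuleCat.of k k)).toLinearEquiv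

/-- Maps into the structure sheaf of a field are detected on global sections. -/
theorem existsUnique_of_evS_field {L K : DCoh.D (Spec (CommRingCat.of k))}
    (e : L ≅ (DCoh.tildeD (CommRingCat.of k)).obj (Dual.inD k k)) (hK : DCoh.IsQCohD K)
    (Ψ : (uO (Spec (CommRingCat.of k)) ⟶ K) →+ k)
    (hΨ : ∀ (r : k) g, Ψ (sO r ≫ g) = r • Ψ g) :
    ∃! f : K ⟶ L, ∀ g, fieldH0 k (evS e (g ≫ f)) = Ψ g := by
  haveI := injective_field k
  obtain ⟨hF, hFa, hq⟩ := Groth.Agent.S0997.result (CommRingCat.of k)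
  obtain ⟨N, ⟨eN⟩⟩ := (hq K).1 hK
  let eK := AddEquiv.ofBijective _ (bijective_evS eN.symm)
  let θ : (homologyFunctor (ModuleCat.{u} k) 0).obj N →ₗ[k]
      (homologyFunctor (ModuleCat.{u} k) 0).obj (Dual.inD k k) :=
    (fieldH0 k).symm.toLinearMap.comp
    { toFun := fun x => Ψ (eK.symm x)
      map_add' := fun x y => by rw [map_add, map_add]
      map_smul' := fun r x => by
        rw [RingHom.id_apply, ← hΨ]
        refine congrArg Ψ ((AddEquiv.symm_apply_eq eK).2 ?_)
        show _ = evS eN.symm _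
        rw [evS_smul]
        exact congrArg (r • ·) (eK.apply_symm_apply x).symm }
  have key : ∀ (g : uO (Spec (CommRingCat.of k)) ⟶ K) (h : N ⟶ Dual.inD k k),
      evS e (g ≫ eN.inv ≫ (DCoh.tildeD (CommRingCat.of k)).map h ≫ e.inv) =
        ((homologyFunctor (ModuleCat.{u} k) 0).map h).hom (evS eN.symm g) := fun g h => by
    obtain ⟨a, rfl⟩ := exists_evS_lift eN.symm g
    rw [evS_map, ← ev1_comp, ← evS_map e (a ≫ h), Functor.map_comp]
    simp
  have hbij := bijective_homologyMap_injective (ModuleCat.of k k) N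
  obtain ⟨h, hh⟩ := hbij.2 (ModuleCat.ofHom θ)
  refine ⟨eN.inv ≫ (DCoh.tildeD (CommRingCat.of k)).map h ≫ e.inv, fun g => ?_, fun f hf => ?_⟩
  · rw [key, show (homologyFunctor (ModuleCat.{u} k) 0).map h = ModuleCat.ofHom θ from hh]
    exact ((fieldH0 k).apply_symm_apply _).trans (congrArg Ψ (eK.symm_apply_apply g))
  · obtain ⟨h', hh'⟩ := (DCoh.tildeD (CommRingCat.of k)).map_surjective (eN.hom ≫ f ≫ e.hom)
    have hf' : f = eN.inv ≫ (DCoh.tildeD (CommRingCat.of k)).map h' ≫ e.inv := by rw [hh']; simp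
    suffices h' = h by rw [hf', this]
    apply hbij.1
    refine Eq.trans ?_ hh.symm
    ext x
    obtain ⟨g, rfl⟩ := eK.surjective x
    have := hf g
    rw [hf', key] at this
    exact (fieldH0 k).injective ((this.trans (congrArg Ψ (eK.symm_apply_apply g)).symm).trans
      ((fieldH0 k).apply_symm_apply _).symm)

variable {X : Scheme.{u}} [X.Over (Spec (CommRingCat.of k))]
  [DCoh.HasRpush (X ↘ Spec (CommRingCat.of k))]
  (hf : DCoh.RpushPreservesQCoh (X ↘ Spec (CommRingCat.of k)))
  {a : DCoh.DQCoh (Spec (CommRingCat.of k)) ⥤ DCoh.DQCoh X}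
  (adj : DCoh.RpushQ (X ↘ Spec (CommRingCat.of k)) hf ⊣ a)
  (OY : DCoh.DQCoh (Spec (CommRingCat.of k)))

theorem over_smul_def (r : k) {K : DCoh.D X} (y : uO X ⟶ K) :
    r • y = (singleFunctor X.Modules 0).map
      (sMod (Coh.structureModule X) (Coh.toGlobal (X ↘ Spec (CommRingCat.of k)) r)) ≫ y := by
  have h : (singleFunctor X.Modules 0).map (r • 𝟙 (Coh.structureModule X)) = r • 𝟙 (uO X) := by
    rw [Functor.map_smul, CategoryTheory.Functor.map_id]
  rw [show sMod (Coh.structureModule X) (Coh.toGlobal (X ↘ Spec (CommRingCat.of k)) r) =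
    r • 𝟙 (Coh.structureModule X) from (KLin.smul_id _ r).symm]
  erw [h]
  rw [Linear.smul_comp, Category.id_comp]

include hf adj in
/-- The trace. -/
theorem exists_integral [QuasiCompact (X ↘ Spec (CommRingCat.of k))]
    [QuasiSeparated (X ↘ Spec (CommRingCat.of k))]
    (hOY : OY.obj ≅ DCoh.inD (Spec (CommRingCat.of k)) (Coh.structureModule (Spec (CommRingCat.of k)))) :
    ∃ t : (uO X ⟶ (a.obj OY).obj) →ₗ[k] k, ∀ M : DCoh.D X, DCoh.IsQCohD M →
      ∀ ψ : (uO X ⟶ M) →ₗ[k] k, ∃! φ : M ⟶ (a.obj OY).obj, ∀ x : uO X ⟶ M, t (x ≫ φ) = ψ x := by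
  let f := X ↘ Spec (CommRingCat.of k)
  let eW : OY.obj ≅ (DCoh.tildeD (CommRingCat.of k)).obj (Dual.inD k k) := hOY ≪≫ inDSpecIso.symm
  obtain ⟨η, hη⟩ := KoszOrthLib.exists_unit_rpush f
  haveI : (DCoh.Rpush f).Additive := by
    obtain ⟨_, _⟩ := QRlimLib.exists_isTriangulated_rpush f
    infer_instance
  let push : ∀ K : DCoh.D X, (uO X ⟶ K) ≃+ (uO (Spec (CommRingCat.of k)) ⟶ (DCoh.Rpush f).obj K) := fun K =>
    AddEquiv.ofBijective (AddMonoidHom.mk' (fun y => η ≫ (DCoh.Rpush f).map y)
      (fun y y' => by rw [Functor.map_add, Preadditive.comp_add])) (hη K)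
  have push_smul : ∀ (r : k) (K : DCoh.D X) (y : uO X ⟶ K), push K (r • y) = sO r ≫ push K y := fun r K y => by
    rw [over_smul_def]
    exact (sMod_rpush_comm f ((Scheme.ΓSpecIso (CommRingCat.of k)).inv.hom r) (Coh.structureModule _)
      (Coh.structureModule X) η y).symm
  let ρ : (DCoh.RpushQ f hf).obj (a.obj OY) ⟶ OY := adj.counit.app OY
  refine ⟨{ toFun := fun y => fieldH0 k (evS eW (push _ y ≫ ρ.hom))
            map_add' := fun y y' => by
              rw [map_add]
              erw [Preadditive.add_comp, map_add, map_add]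
            map_smul' := fun r y => by
              rw [push_smul]
              erw [Category.assoc, evS_smul, map_smul]
              rfl }, fun M hM ψ => ?_⟩
  obtain ⟨f₀, hf₀, huniq⟩ := existsUnique_of_evS_field eW (hf _ hM)
    (ψ.toAddMonoidHom.comp (push M).symm.toAddMonoidHom) fun r g => by
      show ψ ((push M).symm (sO r ≫ g)) = r • ψ ((push M).symm g)
      rw [← ψ.map_smul]
      refine congrArg ψ ((AddEquiv.symm_apply_eq _).2 ?_)
      rw [push_smul, AddEquiv.apply_symm_apply]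
  let Mq : DCoh.DQCoh X := ⟨M, hM⟩
  have hcomp : ∀ (φ : M ⟶ (a.obj OY).obj) (x : uO X ⟶ M), push _ (x ≫ φ) ≫ ρ.hom =
      push M x ≫ ((adj.homEquiv Mq OY).symm (ObjectProperty.homMk φ)).hom := fun φ x => by
    rw [show ((adj.homEquiv Mq OY).symm (ObjectProperty.homMk φ)).hom = (DCoh.Rpush f).map φ ≫ ρ.hom from
      (by rw [adj.homEquiv_counit]; rfl)]
    show (η ≫ (DCoh.Rpush f).map (x ≫ φ)) ≫ _ = (η ≫ (DCoh.Rpush f).map x) ≫ _
    simp only [Functor.map_comp, Category.assoc]
  let φ₀ := adj.homEquiv Mq OY (ObjectProperty.homMk f₀)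
  refine ⟨φ₀.hom, fun x => ?_, fun φ hφ => ?_⟩
  · show fieldH0 k (evS eW (push _ (x ≫ φ₀.hom) ≫ ρ.hom)) = ψ x
    rw [hcomp, show ObjectProperty.homMk φ₀.hom = φ₀ from rfl, Equiv.symm_apply_apply]
    refine (hf₀ _).trans ?_
    exact congrArg ψ ((push M).symm_apply_apply x)
  · have h : ((adj.homEquiv Mq OY).symm (ObjectProperty.homMk φ)).hom = f₀ := huniq _ fun g => by
      obtain ⟨x, rfl⟩ := (push M).surjective g
      rw [← hcomp]
      refine (hφ x).trans ?_
      exact (congrArg ψ ((push M).symm_apply_apply x)).symm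
    have h2 : (adj.homEquiv Mq OY).symm (ObjectProperty.homMk φ) = ObjectProperty.homMk f₀ :=
      ObjectProperty.hom_ext _ h
    exact congrArg (fun l => l.hom) ((Equiv.symm_apply_eq _).1 h2)

end Groth.Agent.Dual3Lib
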