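import Groth.Agent.Dual3Lib.SerreCx
import Groth.Agent.Dual3Lib.SerreIntegral
import Groth.Agent.TensorAssocLib.Derived
import Groth.Prelude.Def_SGA6
import Groth.Prelude.Def_KLin2

/-!
# The Serre functor of the category of perfect objects
-/

set_option autoImplicit false
set_option linter.style.haveILetI false
set_option backward.isDefEq.respectTransparency false
set_option backward.isDefEq.respectTransparency.types false
set_option maxHeartbeats 1000000

universe u

open CategoryTheory CategoryTheory.Limits AlgebraicGeometry HomologicalComplex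
open Groth.Agent.DerLib Groth.Agent.PerfDualLib

attribute [local instance] HasDerivedCategory.standard
attribute [local instance 2000] DCoh.additive_tensorBi_obj

noncomputable section

namespace Groth.Agent.Dual3Lib.Serre

variable {X : Scheme.{u}}

theorem isKFlat_unitCx (X : Scheme.{u}) : DCoh.IsKFlat (unitCx X) :=
  KFlatLib.isKFlat_of_isStrictlyPerfect (isStrictlyPerfect_unitCx X)

/-- Tensoring with the unit is the identity. -/
theorem nonempty_lTensor_unit (B : Cx X) [DCoh.HasLTensorCx B]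
    (e : DerivedCategory.Q.obj B ≅ DerivedCategory.Q.obj (unitCx X)) :
    Nonempty (DCoh.LTensorCx B ≅ 𝟭 (DCoh.D X)) := by
  haveI := KFlatLib.hasLTensorCx (unitCx X)
  obtain ⟨a⟩ := ProjFormLib.nonempty_lTensor_congr_iso e
  exact ⟨a ≪≫ Localization.liftNatIso DerivedCategory.Q
    (HomologicalComplex.quasiIso X.Modules (ComplexShape.up ℤ))
    (DerivedCategory.Q ⋙ DCoh.LTensorCx (unitCx X)) (DerivedCategory.Q ⋙ 𝟭 _) _ _
    (flatCnt' (unitCx X) (isKFlat_unitCx X) ≪≫ Functor.isoWhiskerRight unitNat DerivedCategory.Q ≪≫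
      Functor.leftUnitor _ ≪≫ (Functor.rightUnitor _).symm)⟩

/-- An adjoint of a quasi-isomorphism is one, for the unit. -/
theorem quasiIso_homEquiv_unit {U W J : Cx X} [J.IsKInjective] (hW : DCoh.IsKFlat W) (q : unitCx X ⟶ U)
    [QuasiIso q] (j : T2 W U ⟶ J) [QuasiIso j] :
    QuasiIso ((Gen.gAdj (Tb X) U).homEquiv W J j) := by
  let f := (Gen.gAdj (Tb X) U).homEquiv W J j
  haveI := quasiIso_gm q J
  suffices QuasiIso (f ≫ gm q J) from quasiIso_of_comp_right f (gm q J)
  let g : W ⟶ iG (unitCx X) J := f ≫ gm q J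
  have hg : Gen.adjunct g = mm (𝟙 W) q ≫ j := by
    show Gen.adjunct (f ≫ gm q J) = _
    rw [Gen.adjunct_comp_Gmap, show Gen.adjunct f = j from Equiv.symm_apply_apply _ j]
    rfl
  haveI : QuasiIso (mm (𝟙 W) q) := quasiIso_mm_right hW q
  haveI : QuasiIso (Gen.adjunct g) := by rw [hg]; exact quasiIso_comp _ _
  obtain ⟨-, h2⟩ := Gen.isIso_unit_counit (T := Tb X) (unitNat (X := X))
  haveI := h2
  haveI : QuasiIso ((Gen.tR (Tb X) (unitCx X)).map g) := by
    have : QuasiIso ((Gen.tR (Tb X) (unitCx X)).map g ≫ (Gen.gAdj (Tb X) (unitCx X)).counit.app J) := by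
      have e : Gen.adjunct g = (Gen.tR (Tb X) (unitCx X)).map g ≫ (Gen.gAdj (Tb X) (unitCx X)).counit.app J :=
        (Gen.gAdj (Tb X) (unitCx X)).homEquiv_counit W J g
      rw [← e]
      exact ‹QuasiIso (Gen.adjunct g)›
    exact quasiIso_of_comp_right _ ((Gen.gAdj (Tb X) (unitCx X)).counit.app J)
  have h := (unitNat (X := X)).hom.naturality g
  rw [Functor.id_map, ← IsIso.inv_comp_eq] at h
  show QuasiIso g
  rw [← h]
  infer_instance

variable (W : Cx X) [DCoh.HasLTensorCx W]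

/-- The computation of `- ⊗ W` on resolutions. -/
theorem nonempty_thetaW :
    Nonempty (DerivedCategory.Q ⋙ DCoh.LTensorCx W ≅
      KFlatLib.resP X ⋙ Gen.tL (Tb X) (Pr W) ⋙ DerivedCategory.Q) := by
  haveI := KFlatLib.hasLTensorCx (Pr W)
  obtain ⟨ω⟩ := PerfDualLib.nonempty_lTensor_congr (ψr W)
  refine ⟨TensorAssocLib.resIso (DCoh.LTensorCx W) ≪≫
    Functor.isoWhiskerLeft (KFlatLib.resP X) (Functor.isoWhiskerLeft DerivedCategory.Q ω.symm) ≪≫
    Functor.isoWhiskerLeft (KFlatLib.resP X) (flatCnt' (Pr W) (kFlat_Pr W)) ≪≫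
    Functor.isoWhiskerLeft (KFlatLib.resP X) (Functor.isoWhiskerRight ?_ DerivedCategory.Q)⟩
  exact NatIso.ofComponents (fun M => bX M (Pr W)) (fun {M N} f => bX_natural f (𝟙 (Pr W)))

theorem isPerfect_LTensor (hW : Perf W) {K : DCoh.D X} (hK : DCoh.IsPerfect K) :
    DCoh.IsPerfect ((DCoh.LTensorCx W).obj K) := by
  haveI := KFlatLib.hasLTensorCx (Pr W)
  obtain ⟨ω⟩ := PerfDualLib.nonempty_lTensor_congr (ψr W)
  exact PerfLib.isPerfect_of_iso (ω.app K) (KFlatLib.isPerfect_lTensor (Pr W) (kFlat_Pr W) (isPerfect_Pr hW) _ hK)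

theorem isPerfect_of_isInvertibleD {K : DCoh.D X} (h : Dual3.IsInvertibleD K) : DCoh.IsPerfect K := by
  refine isPerfect_of_local fun x => ?_
  obtain ⟨V, n, hx, ⟨e⟩⟩ := h x
  refine ⟨V, hx, PerfLib.isPerfect_of_iso e.symm (PerfLib.isPerfect_shift ?_ n)⟩
  exact PerfLib.isPerfect_of_iso ((DerivedCategory.singleFunctorIsoCompQ _ 0).app _).symm
    (isPerfect_of_local fun _ => ⟨⊤, trivial, isPerfect_restrict_unit _⟩)

section Linear

variable {k : Type u} [CommRing k] [X.Over (Spec (CommRingCat.of k))]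

theorem lTensor_map_smul {K L : DCoh.D X} (g : K ⟶ L) (r : k) :
    (DCoh.LTensorCx W).map (r • g) = r • (DCoh.LTensorCx W).map g := by
  haveI := KFlatLib.hasLTensorCx (Pr W)
  obtain ⟨ω⟩ := PerfDualLib.nonempty_lTensor_congr (ψr W)
  have h0 : ∀ A : Cx X, (DCoh.LTensorCx (Pr W)).map (r • 𝟙 (DerivedCategory.Q.obj A)) = r • 𝟙 _ := fun A => by
    rw [← CategoryTheory.Functor.map_id DerivedCategory.Q A, ← Functor.map_smul,
      ← cancel_mono ((flatCnt' (Pr W) (kFlat_Pr W)).hom.app A)]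
    refine ((flatCnt' (Pr W) (kFlat_Pr W)).hom.naturality (r • 𝟙 A)).trans ?_
    show _ ≫ DerivedCategory.Q.map ((Gen.tR (Tb X) (Pr W)).map (r • 𝟙 A)) = _
    rw [KiehlLib.tR_map_smul_id, Functor.map_smul, CategoryTheory.Functor.map_id, Linear.comp_smul,
      Linear.smul_comp]
    erw [Category.comp_id, Category.id_comp]
  have h1 : ∀ {K : DCoh.D X}, (DCoh.LTensorCx (Pr W)).map (r • 𝟙 K) = r • 𝟙 _ := fun {K} => by
    let e := DerivedCategory.Q.objObjPreimageIso K
    rw [show r • 𝟙 K = e.inv ≫ (r • 𝟙 _) ≫ e.hom by simp, Functor.map_comp, Functor.map_comp, h0]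
    simp [← Functor.map_comp]
  have h2 : (DCoh.LTensorCx W).map (r • 𝟙 K) = r • 𝟙 _ := by
    have := ω.hom.naturality (r • 𝟙 K)
    rw [h1, Linear.smul_comp, Category.id_comp] at this
    rw [← cancel_epi (ω.hom.app K), ← this, Linear.comp_smul, Category.comp_id]
  rw [show r • g = (r • 𝟙 K) ≫ g by simp, Functor.map_comp, h2, Linear.smul_comp, Category.id_comp]

end Linear

variable {k : Type u} [Field k] [X.Over (Spec (CommRingCat.of k))] [IsProper (X ↘ Spec (CommRingCat.of k))]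

/-- The inclusion on morphisms, linearly. -/
def subHom (A B : (SGA6.perfP X).FullSubcategory) : (A ⟶ B) ≃ₗ[k] (A.obj ⟶ B.obj) where
  toFun f := f.hom
  invFun g := ObjectProperty.homMk g
  map_add' _ _ := rfl
  map_smul' _ _ := rfl
  left_inv _ := rfl
  right_inv _ := rfl

/-- A chosen complex. -/
abbrev cx (K : (SGA6.perfP X).FullSubcategory) : Cx X := DerivedCategory.Q.objPreimage K.obj

/-- The chosen complex represents. -/
abbrev εc (K : (SGA6.perfP X).FullSubcategory) : DerivedCategory.Q.obj (cx K) ≅ K.obj :=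
  DerivedCategory.Q.objObjPreimageIso K.obj

theorem perf_cx (K : (SGA6.perfP X).FullSubcategory) : Perf (cx K) :=
  PerfLib.isPerfect_of_iso (εc K).symm K.property

variable {W}

section Assemble

variable (D : Data k X)
  (θ : DerivedCategory.Q ⋙ DCoh.LTensorCx W ≅
    KFlatLib.resP X ⋙ Gen.tL (Tb X) D.W₀ ⋙ DerivedCategory.Q)

/-- The transported functoriality. -/
def trans' {K' K : Cx X} (e : DerivedCategory.Q.obj K' ⟶ DerivedCategory.Q.obj K) :
    DerivedCategory.Q.obj (T2 D.W₀ (Pr K')) ⟶ DerivedCategory.Q.obj (T2 D.W₀ (Pr K)) :=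
  θ.inv.app K' ≫ (DCoh.LTensorCx W).map e ≫ θ.hom.app K

theorem trans'_qq {K' K : Cx X} (e : K' ⟶ K) : trans' D θ (qq e) = qq (mm (𝟙 D.W₀) (Pm e)) := by
  show θ.inv.app K' ≫ (DerivedCategory.Q ⋙ DCoh.LTensorCx W).map e ≫ _ = _
  rw [θ.hom.naturality e, Iso.inv_hom_id_app_assoc]
  rfl

theorem trans'_comp {A B C : Cx X} (e : DerivedCategory.Q.obj A ⟶ DerivedCategory.Q.obj B)
    (e' : DerivedCategory.Q.obj B ⟶ DerivedCategory.Q.obj C) :
    trans' D θ (e ≫ e') = trans' D θ e ≫ trans' D θ e' := by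
  simp only [trans', Functor.map_comp, Category.assoc]
  erw [Iso.hom_inv_id_app_assoc]

theorem trans'_id (A : Cx X) : trans' D θ (𝟙 (DerivedCategory.Q.obj A)) = 𝟙 _ := by
  simp only [trans', CategoryTheory.Functor.map_id]
  erw [Category.id_comp, Iso.inv_hom_id_app]
  rfl

theorem duality_precomp' {K K' L : Cx X} (hK : Perf K) (hK' : Perf K') (hL : Perf L)
    (e : DerivedCategory.Q.obj K' ⟶ DerivedCategory.Q.obj K)
    (f : DerivedCategory.Q.obj K ⟶ DerivedCategory.Q.obj L)
    (h : DerivedCategory.Q.obj L ⟶ DerivedCategory.Q.obj (T2 D.W₀ (Pr K'))) :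
    duality D hK' hL (e ≫ f) h = duality D hK hL f (h ≫ trans' D θ e) := by
  obtain ⟨Z, s, hs, φ, he⟩ := DerivedCategory.right_fac e
  have hZ : Perf Z := PerfLib.isPerfect_of_iso (asIso (qq s)).symm hK'
  have h1 : qq s ≫ e = qq φ := by rw [he]; exact IsIso.hom_inv_id_assoc _ _
  have a := duality_precomp D hK' hZ hL s (e ≫ f)
  have b := duality_precomp D hK hZ hL φ f
  haveI : IsSplitEpi (trans' D θ (qq s)) :=
    IsSplitEpi.mk' ⟨trans' D θ (inv (qq s)), by rw [← trans'_comp, IsIso.inv_hom_id, trans'_id]⟩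
  obtain ⟨h', rfl⟩ : ∃ h', h' ≫ trans' D θ (qq s) = h :=
    ⟨h ≫ trans' D θ (inv (qq s)), by rw [Category.assoc, ← trans'_comp, IsIso.inv_hom_id, trans'_id, Category.comp_id]⟩
  rw [Category.assoc, ← trans'_comp, h1, trans'_qq, trans'_qq, ← a, ← Category.assoc, h1, b]

/-- The comparison of the functor. -/
def σc (K : (SGA6.perfP X).FullSubcategory) :
    (DCoh.LTensorCx W).obj K.obj ≅ DerivedCategory.Q.obj (T2 D.W₀ (Pr (cx K))) :=
  (DCoh.LTensorCx W).mapIso (εc K).symm ≪≫ θ.app (cx K)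

theorem σc_natural {K' K : (SGA6.perfP X).FullSubcategory} (e : K'.obj ⟶ K.obj) :
    (DCoh.LTensorCx W).map e ≫ (σc D θ K).hom =
      (σc D θ K').hom ≫ trans' D θ ((εc K').hom ≫ e ≫ (εc K).inv) := by
  simp only [σc, trans', Iso.trans_hom, Iso.app_hom, Functor.mapIso_hom, Iso.symm_hom, Category.assoc]
  erw [Iso.hom_inv_id_app_assoc]
  rw [← Functor.map_comp_assoc, ← Functor.map_comp_assoc, Iso.inv_hom_id_assoc]

include θ in
/-- The Serre functor attached to an invertible twist. -/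
theorem exists_serreFunctor (hW : Perf W) (E : Cx X) [DCoh.HasLTensorCx E] (hE : Perf E)
    (u₁ : DCoh.LTensorCx W ⋙ DCoh.LTensorCx E ≅ 𝟭 _) (u₂ : DCoh.LTensorCx E ⋙ DCoh.LTensorCx W ≅ 𝟭 _) :
    ∃ σ : KLin.SerreFunctor k (SGA6.perfP X).FullSubcategory,
      Nonempty (σ.S.functor ⋙ ObjectProperty.ι (SGA6.perfP X) ≅
        ObjectProperty.ι (SGA6.perfP X) ⋙ DCoh.LTensorCx W) := by
  let F := ObjectProperty.lift (SGA6.perfP X) (ObjectProperty.ι (SGA6.perfP X) ⋙ DCoh.LTensorCx W)
    fun K => isPerfect_LTensor W hW K.property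
  let G := ObjectProperty.lift (SGA6.perfP X) (ObjectProperty.ι (SGA6.perfP X) ⋙ DCoh.LTensorCx E)
    fun K => isPerfect_LTensor E hE K.property
  let S : (SGA6.perfP X).FullSubcategory ≌ (SGA6.perfP X).FullSubcategory :=
    CategoryTheory.Equivalence.mk F G
      (NatIso.ofComponents (fun K => ObjectProperty.isoMk _ (u₁.app K.obj).symm)
        (fun {K L} f => ObjectProperty.hom_ext _ (u₁.inv.naturality f.hom)))
      (NatIso.ofComponents (fun K => ObjectProperty.isoMk _ (u₂.app K.obj))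
        (fun {K L} f => ObjectProperty.hom_ext _ (u₂.hom.naturality f.hom)))
  haveI hlin : S.functor.Linear k := ⟨fun f r => ObjectProperty.hom_ext _ (lTensor_map_smul W f.hom r)⟩
  let P : ∀ K L : (SGA6.perfP X).FullSubcategory, (K ⟶ L) ≃ₗ[k]
      (DerivedCategory.Q.obj (cx K) ⟶ DerivedCategory.Q.obj (cx L)) := fun K L =>
    (subHom K L).trans (Linear.homCongr k (εc K).symm (εc L).symm)
  let R : ∀ K L : (SGA6.perfP X).FullSubcategory, (L ⟶ S.functor.obj K) ≃ₗ[k]
      (DerivedCategory.Q.obj (cx L) ⟶ DerivedCategory.Q.obj (T2 D.W₀ (Pr (cx K)))) := fun K L =>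
    (subHom L (S.functor.obj K)).trans (Linear.homCongr k (εc L).symm (σc D θ K))
  have hP : ∀ (K L : (SGA6.perfP X).FullSubcategory) (f : K ⟶ L),
      P K L f = (εc K).hom ≫ f.hom ≫ (εc L).inv := fun K L f =>
    (Linear.homCongr_apply k (εc K).symm (εc L).symm f.hom).trans (Category.assoc _ _ _)
  have hR : ∀ (K L : (SGA6.perfP X).FullSubcategory) (h : L ⟶ S.functor.obj K),
      R K L h = (εc L).hom ≫ h.hom ≫ (σc D θ K).hom := fun K L f =>
    (Linear.homCongr_apply k (εc L).symm (σc D θ K) f.hom).trans (Category.assoc _ _ _)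
  refine ⟨⟨S, hlin, fun K L => (P K L).trans ((duality D (perf_cx K) (perf_cx L)).trans (R K L).dualMap),
    fun {K L L'} f g h => ?_, fun {K' K L} e f h => ?_⟩, ⟨NatIso.ofComponents (fun K => Iso.refl _)
      (fun f => (Category.comp_id _).trans (Category.id_comp _).symm)⟩⟩
  · show duality D (perf_cx K) (perf_cx L') (P K L' (f ≫ g)) (R K L' h) =
      duality D (perf_cx K) (perf_cx L) (P K L f) (R K L (g ≫ h))
    rw [show P K L' (f ≫ g) = P K L f ≫ P L L' g by
      simp only [hP, ObjectProperty.FullSubcategory.comp_hom, Category.assoc, Iso.inv_hom_id_assoc],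
      duality_comp D (perf_cx K) (perf_cx L) (perf_cx L')]
    refine congrArg _ ?_
    simp only [hP, hR, ObjectProperty.FullSubcategory.comp_hom, Category.assoc, Iso.inv_hom_id_assoc]
  · show duality D (perf_cx K') (perf_cx L) (P K' L (e ≫ f)) (R K' L h) =
      duality D (perf_cx K) (perf_cx L) (P K L f) (R K L (h ≫ S.functor.map e))
    rw [show P K' L (e ≫ f) = P K' K e ≫ P K L f by
      simp only [hP, ObjectProperty.FullSubcategory.comp_hom, Category.assoc, Iso.inv_hom_id_assoc],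
      duality_precomp' D θ (perf_cx K) (perf_cx K') (perf_cx L)]
    refine congrArg _ ?_
    simp only [hP, hR, ObjectProperty.FullSubcategory.comp_hom, Category.assoc]
    exact congrArg (fun t => (εc L).hom ≫ h.hom ≫ t) (σc_natural D θ e.hom).symm

end Assemble

end Groth.Agent.Dual3Lib.Serre
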