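import Groth.Agent.Dual3Lib.Vanish
import Groth.Agent.Dual3Lib.VanishCases
import Groth.Agent.Dual3Lib.Ten
import Groth.Agent.PerfDualLib.PseudoC
import Groth.Agent.LpullTildeLib.Main
import Groth.Agent.ProjFormLib.QCohClass

/-!
# `Rf_* RHom(E, aQ) ≅ RHom(Rf_*E, Q)` for perfect `E`
-/

set_option autoImplicit false
set_option linter.style.haveILetI false
set_option backward.isDefEq.respectTransparency false
set_option backward.isDefEq.respectTransparency.types false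
set_option maxHeartbeats 1000000

universe u

open CategoryTheory CategoryTheory.Limits AlgebraicGeometry CategoryTheory.Pretriangulated
open HomologicalComplex
open Groth.Agent.DerLib Groth.Agent.PerfDualLib Groth.Agent.ProjFormLib

attribute [local instance] HasDerivedCategory.standard

namespace Groth.Agent.Dual3Lib

variable {X Y : Scheme.{u}} (f : X ⟶ Y)

/-- The projection map is invertible on complexes with quasi-coherent cohomology. -/
theorem isIso_beta_of_qcoh [QuasiCompact f] [QuasiSeparated f] [DCoh.HasRpush f] {A : Cx Y} {I : Cx X}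
    [I.IsKInjective] (ψ : A ⟶ (pushC f).obj I) [QuasiIso ψ] (hA : DCoh.IsKFlat A)
    (hI : DCoh.IsQCohD (DerivedCategory.Q.obj I)) (F : Cx Y) (hF : DCoh.IsKFlat F)
    (hFq : DCoh.IsQCohD (DerivedCategory.Q.obj F)) : IsIso (beta f ψ F) := by
  obtain ⟨R, r, hR, hr⟩ := exists_res ((Gen.tL (Tb X) I).obj ((pullC f).obj F))
  refine isIso_beta_of_quasiIso f ψ r ((KFlatLib.quasiIso_iff_stalks _).2 fun x => ?_)
  obtain ⟨U, hU, hx, -⟩ := AlgebraicGeometry.exists_isAffineOpen_mem_and_subset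
    (X := Y) (x := x) (U := ⊤) trivial
  have hU' : DCoh.IsQCohD (DerivedCategory.Q.obj ((rC U).obj F)) :=
    KFlatLib.isQCohD_iso (DerivedCategory.Q.mapIso ((KFlatLib.restrictCxIso U).app F).symm)
      (isQCohD_pullCx_openImmersion U.ι F hFq)
  exact (pp_iff_flat f ψ hA hF (𝟙 F)).1 (pp_of_qcoh f ψ hA hI hU F hU') x hx R hR r hr

theorem bijective_iso_comp {C : Type*} [Category C] {A B : C} (e : A ≅ B) (E : C) :
    Function.Bijective fun φ : B ⟶ E => e.hom ≫ φ :=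
  (Iso.homFromEquiv e.symm).bijective

/-- A map along which composition is bijective from both ends is invertible. -/
theorem isIso_of_bijective_comp {C : Type*} [Category C] {A B : C} (φ : A ⟶ B)
    (hA : Function.Bijective fun y : A ⟶ A => y ≫ φ) (hB : Function.Bijective fun y : B ⟶ A => y ≫ φ) :
    IsIso φ := by
  obtain ⟨ψ, hψ⟩ := hB.2 (𝟙 B)
  exact ⟨ψ, hA.1 (by
    change (φ ≫ ψ) ≫ φ = 𝟙 A ≫ φ
    rw [Category.assoc, show ψ ≫ φ = 𝟙 B from hψ, Category.comp_id, Category.id_comp]), hψ⟩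

variable [CompactSpace X] [QuasiSeparatedSpace X] [CompactSpace Y] [QuasiSeparatedSpace Y]
  [QuasiCompact f] [QuasiSeparated f] [DCoh.HasRpush f]
  (hf : DCoh.RpushPreservesQCoh f) (a : DCoh.DQCoh Y ⥤ DCoh.DQCoh X) (adj : DCoh.RpushQ f hf ⊣ a)
  (Q : DCoh.DQCoh Y)

include adj in
omit [CompactSpace X] [QuasiSeparatedSpace X] [CompactSpace Y] [QuasiSeparatedSpace Y]
  [QuasiCompact f] [QuasiSeparated f] in
/-- Maps into `aQ` from quasi-coherent objects are maps from the direct image into `Q`. -/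
theorem exists_counit : ∃ κ : (DCoh.Rpush f).obj (a.obj Q).obj ⟶ Q.obj,
    ∀ T : DCoh.D X, DCoh.IsQCohD T →
      Function.Bijective fun g : T ⟶ (a.obj Q).obj => (DCoh.Rpush f).map g ≫ κ := by
  refine ⟨(adj.counit.app Q).hom, fun T hT => ?_⟩
  have h : (fun g : T ⟶ (a.obj Q).obj => (DCoh.Rpush f).map g ≫ (adj.counit.app Q).hom) =
      fun g => ((adj.homEquiv ⟨T, hT⟩ Q).symm (ObjectProperty.homMk g)).hom := funext fun g => by
    rw [Adjunction.homEquiv_counit]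
    rfl
  rw [h]
  let e₁ : (T ⟶ (a.obj Q).obj) ≃ ((⟨T, hT⟩ : DCoh.DQCoh X) ⟶ a.obj Q) :=
    ⟨fun g => ObjectProperty.homMk g, fun g => g.hom, fun _ => rfl, fun _ => rfl⟩
  let e₂ : ((DCoh.RpushQ f hf).obj ⟨T, hT⟩ ⟶ Q) ≃ ((DCoh.Rpush f).obj T ⟶ Q.obj) :=
    ⟨fun g => g.hom, fun g => ObjectProperty.homMk g, fun _ => rfl, fun _ => rfl⟩
  exact ((e₁.trans (adj.homEquiv ⟨T, hT⟩ Q).symm).trans e₂).bijective

include adj in
/-- `Rf_* RHom(I, aQ) ≅ RHom(A, Q)` when `Q A ≅ Rf_*Q I`. -/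
theorem nonempty_pushHom_of_qcoh (I : Cx X) [I.IsKInjective] [DCoh.HasLTensorCx I] [DCoh.HasRSheafHom I]
    (hIq : DCoh.IsQCohD (DerivedCategory.Q.obj I))
    (hW : DCoh.IsQCohD ((DCoh.RSheafHom I).obj (a.obj Q).obj)) (A : Cx Y) [DCoh.HasLTensorCx A] [DCoh.HasRSheafHom A]
    (ψ : A ⟶ (pushC f).obj I) [QuasiIso ψ] (hA : DCoh.IsKFlat A)
    (hD : DCoh.IsQCohD ((DCoh.RSheafHom A).obj Q.obj)) :
    Nonempty ((DCoh.Rpush f).obj ((DCoh.RSheafHom I).obj (a.obj Q).obj) ≅ (DCoh.RSheafHom A).obj Q.obj) := by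
  haveI := KFlatLib.hasLpull f
  let M := (a.obj Q).obj
  let W := (DCoh.RSheafHom I).obj M
  let C := (DCoh.Rpush f).obj W
  let D := (DCoh.RSheafHom A).obj Q.obj
  have hC : DCoh.IsQCohD C :=
    QRlimLib.isQCohD_rpush f hW
  obtain ⟨γX, hγX⟩ := exists_gamma I
  obtain ⟨γY, hγY⟩ := exists_gamma A
  obtain ⟨κ, hκ⟩ := exists_counit f hf a adj Q
  let adjf := KFlatLib.lpullRpushAdj f
  let G : ∀ (F : Cx Y), DCoh.IsKFlat F →
      ((DCoh.LTensorCx I).obj ((DCoh.Lpull f).obj (DerivedCategory.Q.obj F)) ≅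
        DerivedCategory.Q.obj ((Gen.tL (Tb X) I).obj ((pullC f).obj F))) := fun F hF =>
    (DCoh.LTensorCx I).mapIso (KFlatLib.lpullObjIso f F hF) ≪≫ γX _ (KFlatLib.isKFlat_pull f hF)
  have hG : ∀ (F F' : Cx Y) (hF : DCoh.IsKFlat F) (hF' : DCoh.IsKFlat F') (μ : F' ⟶ F),
      (G F' hF').inv ≫ (DCoh.LTensorCx I).map ((DCoh.Lpull f).map (DerivedCategory.Q.map μ)) =
        DerivedCategory.Q.map ((Gen.tL (Tb X) I).map ((pullC f).map μ)) ≫ (G F hF).inv := by
    intro F F' hF hF' μ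
    rw [Iso.inv_comp_eq, ← Category.assoc, Iso.eq_comp_inv]
    simp only [G, Iso.trans_hom, Functor.mapIso_hom, Category.assoc]
    rw [← Functor.map_comp_assoc, LpullTildeLib.lpullObjIso_natural f hF' hF μ, Functor.map_comp,
      Category.assoc]
    exact congrArg (_ ≫ ·) (hγX _ _ (KFlatLib.isKFlat_pull f hF') (KFlatLib.isKFlat_pull f hF) _)
  let toT : ∀ (F : Cx Y), DCoh.IsKFlat F → (DerivedCategory.Q.obj F ⟶ C) →
      (DerivedCategory.Q.obj ((Gen.tL (Tb X) I).obj ((pullC f).obj F)) ⟶ M) := fun F hF x =>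
    (G F hF).inv ≫ ((DCoh.RSheafHomAdj I).homEquiv _ _).symm ((adjf.homEquiv _ _).symm x)
  let Θ : ∀ (F : Cx Y), DCoh.IsKFlat F → (DerivedCategory.Q.obj F ⟶ C) →
      (DerivedCategory.Q.obj F ⟶ D) := fun F hF x =>
    (DCoh.RSheafHomAdj A).homEquiv _ _
      ((γY F hF).hom ≫ beta f ψ F ≫ (DCoh.Rpush f).map (toT F hF x) ≫ κ)
  have hnat : ∀ (F F' : Cx Y) (hF : DCoh.IsKFlat F) (hF' : DCoh.IsKFlat F') (μ : F' ⟶ F)
      (x : DerivedCategory.Q.obj F ⟶ C),
      Θ F' hF' (DerivedCategory.Q.map μ ≫ x) = DerivedCategory.Q.map μ ≫ Θ F hF x := by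
    intro F F' hF hF' μ x
    have h1 : toT F' hF' (DerivedCategory.Q.map μ ≫ x) =
        DerivedCategory.Q.map ((Gen.tL (Tb X) I).map ((pullC f).map μ)) ≫ toT F hF x := by
      simp only [toT]
      rw [Adjunction.homEquiv_naturality_left_symm, Adjunction.homEquiv_naturality_left_symm,
        ← Category.assoc, hG F F' hF hF' μ, Category.assoc]
    simp only [Θ]
    rw [← Adjunction.homEquiv_naturality_left, h1, Functor.map_comp, Category.assoc,
      ← Category.assoc (beta f ψ F'), ← beta_natural f ψ μ, Category.assoc]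
    exact congrArg _ ((reassoc_of% hγY F' F hF' hF μ) _).symm
  have hbij : ∀ (F : Cx Y) (hF : DCoh.IsKFlat F), DCoh.IsQCohD (DerivedCategory.Q.obj F) →
      Function.Bijective (Θ F hF) := by
    intro F hF hFq
    haveI := isIso_beta_of_qcoh f ψ hA hIq F hF hFq
    have hTq : DCoh.IsQCohD (DerivedCategory.Q.obj ((Gen.tL (Tb X) I).obj ((pullC f).obj F))) :=
      KFlatLib.isQCohD_iso (G F hF) (KFlatLib.isQCohD_lTensorCx I hIq _ (KFlatLib.isQCohD_lpull f _ hFq))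
    refine ((DCoh.RSheafHomAdj A).homEquiv _ _).bijective.comp
      ((bijective_iso_comp (γY F hF) _).comp
        ((bijective_iso_comp (asIso (beta f ψ F)) _).comp
          ((hκ _ hTq).comp ((bijective_iso_comp (G F hF).symm _).comp
            (((DCoh.RSheafHomAdj I).homEquiv _ _).symm.bijective.comp
              (adjf.homEquiv _ _).symm.bijective)))))
  obtain ⟨J, hJ, ⟨eJ⟩⟩ := KInjUse.exists_iso_Q_kInjective C
  haveI := hJ
  let F₀ := (KFlatLib.resP Y).obj J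
  have hF₀ : DCoh.IsKFlat F₀ := (KFlatLib.good_resP J).1
  haveI := KFlatLib.quasiIso_resψ (X := Y) J
  let j₀ : DerivedCategory.Q.obj F₀ ≅ C :=
    asIso (DerivedCategory.Q.map ((KFlatLib.resψ Y).app J)) ≪≫ eJ.symm
  let ξ : C ⟶ D := j₀.inv ≫ Θ F₀ hF₀ j₀.hom
  have key : ∀ P : DCoh.D Y, DCoh.IsQCohD P → Function.Bijective fun x : P ⟶ C => x ≫ ξ := by
    intro P hP
    let K := DerivedCategory.Q.objPreimage P
    let F₁ := (KFlatLib.resP Y).obj K
    have hF₁ : DCoh.IsKFlat F₁ := (KFlatLib.good_resP K).1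
    haveI := KFlatLib.quasiIso_resψ (X := Y) K
    let j₁ : DerivedCategory.Q.obj F₁ ≅ DerivedCategory.Q.obj K :=
      asIso (DerivedCategory.Q.map ((KFlatLib.resψ Y).app K))
    let eP : DerivedCategory.Q.obj F₁ ≅ P := j₁ ≪≫ DerivedCategory.Q.objObjPreimageIso P
    refine (bijective_map_of_iso eP ξ).2 ?_
    convert hbij F₁ hF₁ (KFlatLib.isQCohD_iso eP.symm hP) using 1
    funext x
    obtain ⟨m, hm⟩ := KInjUse.Q_map_surjective K J (j₁.inv ≫ x ≫ eJ.hom)
    let μ : F₁ ⟶ F₀ := (KFlatLib.resP Y).map m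
    have hμ : DerivedCategory.Q.map μ ≫ j₀.hom = x := by
      have hn := congrArg DerivedCategory.Q.map ((KFlatLib.resψ Y).naturality m)
      rw [Functor.map_comp, Functor.map_comp] at hn
      simp only [j₀, Iso.trans_hom, Iso.symm_hom, asIso_hom]
      rw [← Category.assoc, Iso.comp_inv_eq]
      refine hn.trans ((congrArg (j₁.hom ≫ ·) hm).trans ?_)
      exact Iso.hom_inv_id_assoc _ _
    change x ≫ ξ = Θ F₁ hF₁ x
    rw [← hμ, hnat F₀ F₁ hF₀ hF₁ μ, Category.assoc]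
    exact congrArg (_ ≫ ·) (Iso.hom_inv_id_assoc _ _)
  haveI := isIso_of_bijective_comp ξ (key C hC) (key D hD)
  exact ⟨asIso ξ⟩

include adj in
/-- `Rf_* RHom(I, aQ) ≅ RHom(A, Q)` when `Q A ≅ Rf_*Q I`. -/
theorem nonempty_pushHom (I : Cx X) [I.IsKInjective] [DCoh.HasLTensorCx I] [DCoh.HasRSheafHom I]
    (hI : DCoh.IsPerfect (DerivedCategory.Q.obj I)) (A : Cx Y) [DCoh.HasLTensorCx A] [DCoh.HasRSheafHom A]
    (ψ : A ⟶ (pushC f).obj I) [QuasiIso ψ] (hA : DCoh.IsKFlat A)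
    (hD : DCoh.IsQCohD ((DCoh.RSheafHom A).obj Q.obj)) :
    Nonempty ((DCoh.Rpush f).obj ((DCoh.RSheafHom I).obj (a.obj Q).obj) ≅ (DCoh.RSheafHom A).obj Q.obj) := by
  exact nonempty_pushHom_of_qcoh f hf a adj Q I (KoszOrthLib.isQCohD_of_isPerfect hI)
    (isQCohD_rSheafHom_of_isPerfect I hI (a.obj Q).obj (a.obj Q).property) A ψ hA hD

end Groth.Agent.Dual3Lib
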