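import Groth.Agent.Dual3Lib.LpullTensorNat
import Groth.Agent.Dual3Lib.RightAdjTensorIso
import Groth.Agent.KoszOrthLib.DQCohCoprod
import Groth.Agent.QRlimLib.Unbounded
import Groth.Agent.KFlatLib.QCohTensor
import Groth.Agent.PerfDualLib.Props
import Groth.Prelude.Def_DualFM

/-!
# Adjoints of Fourier–Mukai functors
-/

set_option autoImplicit false
set_option linter.style.haveILetI false
set_option backward.isDefEq.respectTransparency false
set_option backward.isDefEq.respectTransparency.types false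
set_option maxHeartbeats 1000000
set_option synthInstance.maxHeartbeats 200000

universe u

open CategoryTheory CategoryTheory.Limits AlgebraicGeometry HomologicalComplex
open Groth.Agent.DerLib Groth.Agent.PerfDualLib Groth.Agent.ProjFormLib

attribute [local instance] HasDerivedCategory.standard

namespace Groth.Agent.Dual3Lib

/-- Restrict an adjunction to full subcategories. -/
noncomputable def restrictAdj {C D : Type*} [Category C] [Category D] {P : ObjectProperty C}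
    {Q : ObjectProperty D} {L : C ⥤ D} {R : D ⥤ C} (adj : L ⊣ R) (hL : ∀ M, P M → Q (L.obj M))
    (hR : ∀ N, Q N → P (R.obj N)) :
    Q.lift (P.ι ⋙ L) (fun M => hL M.obj M.property) ⊣ P.lift (Q.ι ⋙ R) (fun N => hR N.obj N.property) :=
  adj.restrictFullyFaithful P.fullyFaithfulι Q.fullyFaithfulι
    (ObjectProperty.liftCompιIso _ _ _).symm (ObjectProperty.liftCompιIso _ _ _).symm

theorem nonempty_lpull_congr_nat {X Y : Scheme.{u}} {f f' : X ⟶ Y} (h : f = f') [hf : DCoh.HasLpull f]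
    [hf' : DCoh.HasLpull f'] : Nonempty (DCoh.Lpull f ≅ DCoh.Lpull f') := by
  subst h
  exact ⟨Iso.refl _⟩

theorem nonempty_rpush_congr_nat {X Y : Scheme.{u}} {f f' : X ⟶ Y} (h : f = f') [hf : DCoh.HasRpush f]
    [hf' : DCoh.HasRpush f'] : Nonempty (DCoh.Rpush f ≅ DCoh.Rpush f') := by
  subst h
  exact ⟨Iso.refl _⟩

section Swap

variable {S X Y : Scheme.{u}} (a : X ⟶ S) (b : Y ⟶ S)
  [DCoh.HasLpull (pullbackSymmetry b a).hom] [DCoh.HasLpull (pullback.fst b a)]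
  [DCoh.HasLpull (pullback.snd a b)] [DCoh.HasRpush (pullback.snd b a)] [DCoh.HasRpush (pullback.fst a b)]

/-- A Fourier–Mukai functor from `Y` to `X`, written on `X ×_S Y`. -/
theorem nonempty_phi_swap (K' : Cx (pullback b a)) [DCoh.HasLTensorCx K'] :
    ∃ (N : Cx (pullback a b)) (_ : DCoh.HasLTensorCx N),
      Nonempty (FMK.phi b a K' ≅ DCoh.Lpull (pullback.snd a b) ⋙ DCoh.LTensorCx N ⋙ DCoh.Rpush (pullback.fst a b)) ∧
      ∀ M : DCoh.D (pullback a b), Nonempty (DCoh.toD _ K' ≅ (DCoh.Lpull (pullbackSymmetry b a).hom).obj M) →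
        Nonempty (DCoh.toD _ N ≅ M) := by
  let σ := pullbackSymmetry b a
  haveI := DCohRestrLib.hasRpush σ.hom
  haveI := DCohRestrLib.hasRpush (σ.hom ≫ pullback.fst a b)
  haveI := KFlatLib.hasLpull σ.inv
  haveI := KFlatLib.hasLpull (pullback.fst a b)
  haveI := KFlatLib.hasLpull (σ.hom ≫ pullback.fst a b)
  haveI := KFlatLib.hasLpull (σ.hom ≫ pullback.snd a b)
  obtain ⟨N, hN, -, ⟨eN⟩, hN'⟩ := nonempty_conj_lTensor σ K'
  obtain ⟨eL⟩ := KFlatLib.lpull_comp σ.hom (pullback.snd a b)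
  obtain ⟨eL'⟩ := nonempty_lpull_congr_nat (pullbackSymmetry_hom_comp_snd b a)
  obtain ⟨eR⟩ := KFlatLib.rpush_comp σ.hom (pullback.fst a b)
  obtain ⟨eR'⟩ := nonempty_rpush_congr_nat (pullbackSymmetry_hom_comp_fst b a)
  refine ⟨N, hN, ⟨?_⟩, fun M ⟨eM⟩ => ?_⟩
  · exact Functor.isoWhiskerRight (eL ≪≫ eL').symm _ ≪≫
      Functor.isoWhiskerLeft (DCoh.Lpull (pullback.snd a b) ⋙ DCoh.Lpull σ.hom)
        (Functor.isoWhiskerLeft (DCoh.LTensorCx K') (eR ≪≫ eR').symm) ≪≫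
      Functor.associator _ _ _ ≪≫
      Functor.isoWhiskerLeft (DCoh.Lpull (pullback.snd a b))
        ((Functor.isoWhiskerLeft (DCoh.Lpull σ.hom) (Functor.associator _ _ _).symm) ≪≫
          (Functor.associator _ _ _).symm ≪≫ Functor.isoWhiskerRight eN _)
  · obtain ⟨e₁⟩ := hN'
    obtain ⟨e₂⟩ := nonempty_lpull_iso_comp σ
    exact ⟨e₁ ≪≫ (DCoh.Lpull σ.inv).mapIso eM ≪≫ e₂.app M⟩

end Swap

section RightAdjoint

variable {T Y : Scheme.{u}} (q : T ⟶ Y) [CompactSpace T] [QuasiSeparatedSpace T] [CompactSpace Y]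
  [QuasiSeparatedSpace Y] [QuasiCompact q] [QuasiSeparated q] [DCoh.HasRpush q]
  (hR : DCoh.RpushPreservesQCoh q) [DCoh.HasShriek q hR] [DCoh.HasLpull q]
  (hperf : ∀ K : DCoh.D T, DCoh.IsPerfect K → DCoh.IsPerfect ((DCoh.Rpush q).obj K))
  (K : Cx T) (hK : DCoh.IsPerfect (DCoh.toD T K)) [DCoh.HasLTensorCx K] [DCoh.HasRSheafHom K]
  (OY : DCoh.DQCoh Y) (hOY : Nonempty (OY.obj ≅ DCoh.inD Y (Coh.structureModule Y)))

include hperf hK hOY in
/-- `RHom(K, q^!(-))` is a twist of `Lq^*`. -/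
theorem nonempty_rSheafHom_shriek :
    ∃ (G : Cx T) (_ : DCoh.HasLTensorCx G),
      Nonempty (DCoh.toD T G ≅ (DCoh.RSheafHom K).obj (DCoh.dualizingCx q hR OY)) ∧
      Nonempty (DCoh.shriek q hR ⋙ (DCoh.IsQCohD (X := T)).ι ⋙ DCoh.RSheafHom K ≅
        (DCoh.IsQCohD (X := Y)).ι ⋙ DCoh.Lpull q ⋙ DCoh.LTensorCx G) := by
  let ω := DCoh.dualizingCx q hR OY
  let E₀ : Cx T := DerivedCategory.Q.objPreimage ω
  let eω₀ : DerivedCategory.Q.obj E₀ ≅ ω := DerivedCategory.Q.objObjPreimageIso ω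
  let E := (KFlatLib.resP T).obj E₀
  haveI : QuasiIso ((KFlatLib.resψ T).app E₀) := KFlatLib.quasiIso_resψ E₀
  let eω : DerivedCategory.Q.obj E ≅ ω := asIso (DerivedCategory.Q.map ((KFlatLib.resψ T).app E₀)) ≪≫ eω₀
  haveI := KFlatLib.hasLTensorCx E
  obtain ⟨θ⟩ := nonempty_rightAdjoint_iso_tensor q hR (DCoh.shriek q hR) (DCoh.shriekAdj q hR)
    (KoszOrthLib.preservesCoproducts_rightAdjoint q hR hperf (DCoh.shriek q hR) (DCoh.shriekAdj q hR))
    OY hOY E ⟨eω⟩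
  obtain ⟨D₀, _, ⟨α₀⟩⟩ := nonempty_lTensor_iso_rSheafHom K hK
  let D := (KFlatLib.resP T).obj D₀
  haveI : QuasiIso ((KFlatLib.resψ T).app D₀) := KFlatLib.quasiIso_resψ D₀
  haveI := KFlatLib.hasLTensorCx D
  let qD : D ⟶ D₀ := (KFlatLib.resψ T).app D₀
  haveI : QuasiIso qD := KFlatLib.quasiIso_resψ D₀
  obtain ⟨ωD⟩ := nonempty_lTensor_congr qD
  let α := ωD ≪≫ α₀
  haveI := KFlatLib.hasLTensorCx (((DCoh.tensorCx (X := T)).obj E).obj D)
  obtain ⟨c⟩ := TensorAssocLib.nonempty_lTensor_comp E D (KFlatLib.good_resP D₀).1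
  obtain ⟨e₁⟩ := KFlatLib.exists_lTensorCxObjIso D E (KFlatLib.good_resP E₀).1
  refine ⟨((DCoh.tensorCx (X := T)).obj E).obj D, inferInstance,
    ⟨e₁.symm ≪≫ α.app _ ≪≫ (DCoh.RSheafHom K).mapIso eω⟩, ⟨?_⟩⟩
  exact (Functor.associator _ _ _).symm ≪≫ Functor.isoWhiskerRight θ _ ≪≫ Functor.associator _ _ _ ≪≫
    Functor.isoWhiskerLeft _ (Functor.associator _ _ _ ≪≫
      Functor.isoWhiskerLeft _ (Functor.isoWhiskerLeft _ α.symm ≪≫ c))

end RightAdjoint

section Main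

variable {S X Y : Scheme.{u}} (a : X ⟶ S) (b : Y ⟶ S) (K : Cx (pullback a b))
  [CompactSpace (pullback a b : Scheme.{u})] [QuasiSeparatedSpace (pullback a b : Scheme.{u})]
  [QuasiCompact (pullback.fst a b)] [QuasiSeparated (pullback.fst a b)]
  [DCoh.HasLpull (pullback.fst a b)] [DCoh.HasLTensorCx K] [DCoh.HasRpush (pullback.snd a b)]
  [DCoh.HasRpush (pullback.fst a b)] [DCoh.HasRSheafHom K]
  (hR : DCoh.RpushPreservesQCoh (pullback.snd a b)) [DCoh.HasShriek (pullback.snd a b) hR]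
  (h : ∀ M : DCoh.D X, DCoh.IsQCohD M → DCoh.IsQCohD ((FMK.phi a b K).obj M))

omit [CompactSpace (pullback a b : Scheme.{u})] [QuasiSeparatedSpace (pullback a b : Scheme.{u})] in
/-- The right adjoint of a Fourier–Mukai functor with perfect kernel. -/
theorem nonempty_phiOn_adjunction (hK : DCoh.IsPerfect (DCoh.toD _ K)) (hKq : DCoh.IsQCohD (DCoh.toD _ K)) :
    ∃ R₀ : DCoh.DQCoh Y ⥤ DCoh.DQCoh X, Nonempty (FMK.phiOn a b K DCoh.IsQCohD DCoh.IsQCohD h ⊣ R₀) ∧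
      Nonempty (R₀ ⋙ (DCoh.IsQCohD (X := X)).ι ≅
        (DCoh.shriek (pullback.snd a b) hR ⋙ (DCoh.IsQCohD (X := pullback a b)).ι ⋙ DCoh.RSheafHom K) ⋙
          DCoh.Rpush (pullback.fst a b)) := by
  let A₁ := restrictAdj (P := DCoh.IsQCohD) (Q := DCoh.IsQCohD) (KFlatLib.lpullRpushAdj (pullback.fst a b))
    (fun M hM => KFlatLib.isQCohD_lpull _ M hM) (fun N hN => QRlimLib.isQCohD_rpush (pullback.fst a b) hN)
  let A₂ := restrictAdj (P := DCoh.IsQCohD) (Q := DCoh.IsQCohD) (DCoh.RSheafHomAdj K)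
    (fun M hM => KFlatLib.isQCohD_lTensorCx K hKq M hM)
    (fun N hN => PerfDualLib.isQCohD_rSheafHom_of_isPerfect K hK N hN)
  let A := (A₁.comp A₂).comp (DCoh.shriekAdj (pullback.snd a b) hR)
  refine ⟨_, ⟨A.ofNatIsoLeft ?_⟩, ⟨?_⟩⟩
  · exact NatIso.ofComponents (fun M => ObjectProperty.isoMk _ (Iso.refl _)) fun g => by
      apply ObjectProperty.hom_ext
      exact (Category.comp_id _).trans (Category.id_comp _).symm
  · exact NatIso.ofComponents (fun N => Iso.refl _) fun g =>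
      (Category.comp_id _).trans (Category.id_comp _).symm

end Main

end Groth.Agent.Dual3Lib
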