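import Groth.Agent.ProjFormLib.PushCoprod
import Groth.Agent.ProjFormLib.QCohMain

/-!
# A natural projection map
-/

set_option autoImplicit false
set_option backward.isDefEq.respectTransparency false
set_option backward.isDefEq.respectTransparency.types false
set_option maxHeartbeats 1000000
set_option linter.style.haveILetI false

universe u

open CategoryTheory CategoryTheory.Limits AlgebraicGeometry HomologicalComplex
open Groth.Agent.DerLib Groth.Agent.PerfDualLib Groth.Agent.ProjFormLib

attribute [local instance] HasDerivedCategory.standard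

namespace Groth.Agent.Dual3Lib

variable {X Y : Scheme.{u}} (f : X ⟶ Y) [DCoh.HasRpush f]

/-- The comparison `f_* ⟶ Rf_*` on complexes. -/
noncomputable def pushQ (T : Cx X) :
    DerivedCategory.Q.obj ((pushC f).obj T) ⟶ (DCoh.Rpush f).obj (DerivedCategory.Q.obj T) :=
  (DerivedCategory.quotientCompQhIso Y.Modules).inv.app ((pushC f).obj T) ≫
    (DCohRestrLib.pushUnit f).app ((HomotopyCategory.quotient X.Modules (ComplexShape.up ℤ)).obj T) ≫
      (DCoh.Rpush f).map ((DerivedCategory.quotientCompQhIso X.Modules).hom.app T)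

theorem isIso_pushQ (R : Cx X) [R.IsKInjective] : IsIso (pushQ f R) := by
  haveI := DCohRestrLib.isIso_pushUnit f R
  exact IsIso.comp_isIso' inferInstance (IsIso.comp_isIso' this inferInstance)

theorem pushQ_natural {T T' : Cx X} (e : T ⟶ T') :
    DerivedCategory.Q.map ((pushC f).map e) ≫ pushQ f T' =
      pushQ f T ≫ (DCoh.Rpush f).map (DerivedCategory.Q.map e) := by
  have h₁ := (DerivedCategory.quotientCompQhIso Y.Modules).inv.naturality ((pushC f).map e)
  have h₂ := (DCohRestrLib.pushUnit f).naturality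
    ((HomotopyCategory.quotient X.Modules (ComplexShape.up ℤ)).map e)
  have h₃ := (DerivedCategory.quotientCompQhIso X.Modules).hom.naturality e
  simp only [pushQ]
  rw [← Category.assoc, h₁]
  simp only [Category.assoc]
  refine congrArg (_ ≫ ·) ?_
  rw [← Functor.map_comp, ← h₃, Functor.map_comp]
  exact (Category.assoc _ _ _).symm.trans
    ((congrArg (· ≫ _) h₂).trans (Category.assoc _ _ _))

variable {A : Cx Y} {I : Cx X} (ψ : A ⟶ (pushC f).obj I)

/-- The derived projection map. -/
noncomputable def beta (F : Cx Y) :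
    DerivedCategory.Q.obj (Gen.t2 (Tb Y) A F) ⟶
      (DCoh.Rpush f).obj (DerivedCategory.Q.obj ((Gen.tL (Tb X) I).obj ((pullC f).obj F))) :=
  DerivedCategory.Q.map (proj f ψ F) ≫ pushQ f _

theorem beta_natural {F F' : Cx Y} (κ : F ⟶ F') :
    DerivedCategory.Q.map ((Gen.tL (Tb Y) A).map κ) ≫ beta f ψ F' =
      beta f ψ F ≫ (DCoh.Rpush f).map
        (DerivedCategory.Q.map ((Gen.tL (Tb X) I).map ((pullC f).map κ))) := by
  simp only [beta, Category.assoc]
  rw [← pushQ_natural]
  exact (Category.assoc _ _ _).symm.trans ((congrArg (· ≫ pushQ f _)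
    ((DerivedCategory.Q.map_comp _ _).symm.trans ((congrArg DerivedCategory.Q.map
      (proj_natural f ψ κ)).trans (DerivedCategory.Q.map_comp _ _)))).trans (Category.assoc _ _ _))

theorem isIso_beta_of_quasiIso {F : Cx Y} {R : Cx X} [R.IsKInjective]
    (r : (Gen.tL (Tb X) I).obj ((pullC f).obj F) ⟶ R) [QuasiIso r]
    (h : QuasiIso (proj f ψ F ≫ (pushC f).map r)) : IsIso (beta f ψ F) := by
  have key : beta f ψ F ≫ (DCoh.Rpush f).map (DerivedCategory.Q.map r) =
      DerivedCategory.Q.map (proj f ψ F ≫ (pushC f).map r) ≫ pushQ f R := by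
    rw [beta, Category.assoc, ← pushQ_natural, Functor.map_comp, Category.assoc]
  haveI := isIso_pushQ f R
  haveI := h
  haveI : IsIso (beta f ψ F ≫ (DCoh.Rpush f).map (DerivedCategory.Q.map r)) := by
    rw [key]
    infer_instance
  exact IsIso.of_isIso_comp_right (beta f ψ F) ((DCoh.Rpush f).map (DerivedCategory.Q.map r))

variable (hA : DCoh.IsKFlat A)
include hA

/-- The projection map is invertible on perfect complexes. -/
theorem isIso_beta_of_isPerfect [I.IsKInjective] [QuasiIso ψ] (F : Cx Y) (hF : DCoh.IsKFlat F)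
    (hperf : DCoh.IsPerfect (DerivedCategory.Q.obj F)) : IsIso (beta f ψ F) := by
  obtain ⟨R, r, hR, hr⟩ := exists_res ((Gen.tL (Tb X) I).obj ((pullC f).obj F))
  refine isIso_beta_of_quasiIso f ψ r ((KFlatLib.quasiIso_iff_stalks _).2 fun x => ?_)
  obtain ⟨U, hx, E, a, b, hv, hf, ⟨e⟩⟩ := exists_free_nbhd hperf x
  have h := (pp_iff_flat f ψ hA hF (𝟙 F)).1 ((loc_pp f ψ hA U).prop_of_iso F E a b hv hf e)
  exact h x hx R hR r hr

end Groth.Agent.Dual3Lib
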