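import Groth.Agent.Dual3Lib.Transform
import Groth.Agent.RpushLib.Finite

/-!
# Coherence from twisted direct images, over a Noetherian base
-/

set_option autoImplicit false
set_option linter.style.haveILetI false
set_option backward.isDefEq.respectTransparency false
set_option backward.isDefEq.respectTransparency.types false
set_option maxHeartbeats 1000000
set_option synthInstance.maxHeartbeats 200000

universe u

open CategoryTheory CategoryTheory.Limits AlgebraicGeometry CategoryTheory.Pretriangulated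
open scoped ZeroObject

attribute [local instance] HasDerivedCategory.standard

namespace Groth.Agent.Dual3Lib

variable {X Y : Scheme.{u}}

/-- `M` is coherent when all `Rf_*(M ⊗ E)`, `E` perfect, are. -/
theorem isCohD_of_test [IsNoetherian Y] (f : X ⟶ Y) [IsProper f] [DCoh.HasRpush f]
    {M : DCoh.D X} (hM : DCoh.IsQCohD M)
    (htest : ∀ E : DCoh.D X, DCoh.IsPerfect E → DCoh.IsCohD ((DCoh.Rpush f).obj (ten M E))) :
    DCoh.IsCohD M := by
  haveI : IsLocallyNoetherian X := LocallyOfFiniteType.isLocallyNoetherian f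
  haveI : CompactSpace X := QuasiCompact.compactSpace_of_compactSpace f
  haveI : IsNoetherian X := ⟨⟩
  refine isCohD_of_restrict M fun x => ?_
  obtain ⟨V, hV, hxV, -⟩ := exists_isAffineOpen_mem_and_subset (x := f x) (U := ⊤) trivial
  let U := f ⁻¹ᵁ V
  refine ⟨U, hxV, ?_⟩
  haveI : IsNoetherianRing Γ(Y, V) := IsLocallyNoetherian.component_noetherian ⟨V, hV⟩
  haveI : IsProper (f ∣_ V) := MorphismProperty.of_isPullback
    (isPullback_morphismRestrict f V).flip inferInstance
  let fV := RpushLib.overW f hV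
  haveI : IsProper fV := inferInstanceAs (IsProper ((f ∣_ V) ≫ hV.isoSpec.hom))
  haveI : IsLocallyNoetherian (U : Scheme.{u}) := inferInstance
  haveI := DCohRestrLib.hasRpush (f ∣_ V)
  haveI := DCohRestrLib.hasRpush hV.isoSpec.hom
  haveI := DCohRestrLib.hasRpush fV
  haveI := DCohRestrLib.hasRpush ((f ∣_ V) ≫ hV.isoSpec.hom)
  obtain ⟨r⟩ := DCohRestrLib.nonempty_restrictD_Rpush f V
  let MU := (DCoh.restrictD U.ι).obj M
  have hMU : DCoh.IsQCohD MU := KoszOrthLib.isQCohD_restrictD U.ι hM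
  have htestU : ∀ E : DCoh.D (U : Scheme.{u}), DCoh.IsPerfect E →
      DCoh.IsCohD ((DCoh.Rpush fV).obj (ten MU E)) := fun E hE => by
    obtain ⟨R, -, ik, pk, hR, -, hip, -⟩ := Groth.Agent.S1098.result X U
      (TopologicalSpace.NoetherianSpace.isCompact _) Set.univ isClosed_univ (by simp) (0 : DCoh.D X)
      (fun i => (KoszOrthLib.isQCohD_of_isPerfect (PerfLib.isPerfect_of_isZero (isZero_zero _)) i))
      E hE (fun _ _ _ => Set.mem_univ _) 0
    obtain ⟨t⟩ := ten_restrict U M R
    obtain ⟨s₁⟩ := ten_comm MU ((DCoh.restrictD U.ι).obj R)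
    obtain ⟨s₂⟩ := ten_comm E MU
    let F := DCoh.LTensorCx (rep MU) ⋙ DCoh.Rpush (f ∣_ V)
    have h1 : DCoh.IsCohD ((DCoh.Rpush (f ∣_ V)).obj (ten MU ((DCoh.restrictD U.ι).obj R))) :=
      isCohD_of_iso (r.app _ ≪≫ (DCoh.Rpush (f ∣_ V)).mapIso t) fun i => QCohLib.isCoh_of_iso
        (DCohRestrLib.restrictHDIso V.ι _ i).symm (CohGenLib.isCoh_restrict V.ι (htest R hR i))
    haveI : IsLocallyNoetherian (V : Scheme.{u}) := inferInstance
    have h2 : DCoh.IsCohD ((DCoh.Rpush (f ∣_ V)).obj (ten E MU)) :=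
      isCohD_of_retract (F.map ik) (F.map pk) (by rw [← F.map_comp, hip]; exact F.map_id E)
        (isCohD_of_iso ((DCoh.Rpush (f ∣_ V)).mapIso s₁) h1)
    obtain ⟨c⟩ := nonempty_rpush_comp (f ∣_ V) hV.isoSpec.hom (ten MU E)
    obtain ⟨c'⟩ := nonempty_rpush_congr (show (f ∣_ V) ≫ hV.isoSpec.hom = fV from rfl) (ten MU E)
    exact isCohD_of_iso (c ≪≫ c') (KiehlLib.isCohD_rpush_proper hV.isoSpec.hom _
      (isCohD_of_iso ((DCoh.Rpush (f ∣_ V)).mapIso s₂) h2))
  refine isCohD_of_restrict MU fun u => ?_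
  obtain ⟨W, hW, hu, -⟩ := exists_isAffineOpen_mem_and_subset (x := u) (U := ⊤) trivial
  exact ⟨W, hu, isCohD_restrict_of_test fV hMU htestU W hW⟩

end Groth.Agent.Dual3Lib
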