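import Groth.Agent.Dual3Lib.PnCoh
import Groth.Agent.Dual3Lib.PushCoh
import Groth.Agent.Dual3Lib.Detect2
import Groth.Agent.KiehlLib.ExtFin
import Groth.Agent.KoszOrthLib.Detect
import Groth.Agent.TildeDerLib.Affine

/-!
# Coherence from finiteness of Hom out of perfect objects, over a field
-/

set_option autoImplicit false
set_option linter.style.haveILetI false
set_option backward.isDefEq.respectTransparency false
set_option backward.isDefEq.respectTransparency.types false
set_option maxHeartbeats 1000000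
set_option synthInstance.maxHeartbeats 200000

universe u

open CategoryTheory CategoryTheory.Limits AlgebraicGeometry
open Groth.Agent.DerLib Groth.Agent.PerfDualLib

attribute [local instance] HasDerivedCategory.standard
attribute [local instance 2000] DCoh.additive_tensorBi_obj

namespace Groth.Agent.Dual3Lib.PerfTest

/-- Twisting commutes with shifts. -/
theorem ten_shift {X : Scheme.{u}} (A B : DCoh.D X) (i : ℤ) :
    Nonempty (ten A (B⟦i⟧) ≅ (ten A B)⟦i⟧) := by
  obtain ⟨e₁⟩ := ten_cx (rep A) ((rep B)⟦i⟧) (rep_kFlat A) (repIso A)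
    ((DerivedCategory.Q.commShiftIso i).app (rep B) ≪≫ (shiftFunctor _ i).mapIso (repIso B))
  obtain ⟨e₂⟩ := ten_cx (rep A) (rep B) (rep_kFlat A) (repIso A) (repIso B)
  exact ⟨e₁ ≪≫ DerivedCategory.Q.mapIso
      (CochainComplex.mapBifunctorShift₂Iso (rep A) (rep B) DCoh.tensorBi i) ≪≫
    (DerivedCategory.Q.commShiftIso i).app _ ≪≫ (shiftFunctor _ i).mapIso e₂.symm⟩

section Hom

variable {A : Type u} [CommRing A] {X : Scheme.{u}} [X.Over (Spec (CommRingCat.of A))]

/-- Finiteness passes along `Hom(K, I) ≅ Hom(O, Hom(K, I))`. -/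
theorem finite_iG_of_hom {K : Cx X} (hK : DCoh.IsKFlat K) (I : Cx X) [I.IsKInjective]
    [Module.Finite A (DerivedCategory.Q.obj K ⟶ DerivedCategory.Q.obj I)] :
    Module.Finite A (DerivedCategory.Q.obj (unitCx X) ⟶ DerivedCategory.Q.obj (iG K I)) := by
  haveI := isKInjective_iG hK I
  let κ : (Gen.tR (Tb X) K).obj (unitCx X) ≅ K := bX (unitCx X) K ≪≫ unitNat.app K
  haveI : (Gen.tR (Tb X) K).Additive := KFlatLib.additive_bimap₁ (Tb X) K
  let Φ : (unitCx X ⟶ iG K I) →ₗ[A] (DerivedCategory.Q.obj K ⟶ DerivedCategory.Q.obj I) :=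
    { toFun := fun ψ => DerivedCategory.Q.map (κ.inv ≫ Gen.adjunct ψ)
      map_add' := fun ψ ψ' => by
        rw [← Functor.map_add, ← Preadditive.comp_add]
        congr 2
        exact map_add ((Gen.gAdj (Tb X) K).homAddEquiv _ _).symm ψ ψ'
      map_smul' := fun a ψ => by
        have h1 : a • ψ = (a • 𝟙 (unitCx X)) ≫ ψ := by rw [Linear.smul_comp, Category.id_comp]
        rw [h1, Gen.adjunct_comp, KiehlLib.tR_map_smul_id, Linear.smul_comp, Category.id_comp,
          Linear.comp_smul, Functor.map_smul]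
        rfl }
  let P : (unitCx X ⟶ iG K I) →ₗ[A] (DerivedCategory.Q.obj (unitCx X) ⟶ DerivedCategory.Q.obj (iG K I)) :=
    DerivedCategory.Q.mapLinearMap A
  have hP : Function.Surjective P := KInjUse.Q_map_surjective _ _
  have hΦ : Function.Surjective Φ := fun g => by
    obtain ⟨g', rfl⟩ := KInjUse.Q_map_surjective _ _ g
    refine ⟨(Gen.gAdj (Tb X) K).homEquiv _ _ (κ.hom ≫ g'), ?_⟩
    change DerivedCategory.Q.map (κ.inv ≫ Gen.adjunct _) = _
    rw [Gen.adjunct, Equiv.symm_apply_apply, Iso.inv_hom_id_assoc]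
  have hker : LinearMap.ker Φ ≤ LinearMap.ker P := fun ψ hψ => by
    have h0 : DerivedCategory.Q.map (Gen.adjunct ψ) = 0 := by
      have h1 : DerivedCategory.Q.map (κ.inv ≫ Gen.adjunct ψ) = 0 := LinearMap.mem_ker.1 hψ
      rw [← cancel_epi (DerivedCategory.Q.map κ.inv), ← Functor.map_comp, h1, comp_zero]
    obtain ⟨hh⟩ := Gen.nonempty_null_of_adjunct ψ (HomotopyCategory.homotopyOfEq _ 0
      ((KInjUse.quotient_eq_zero_of_Q h0).trans ((HomotopyCategory.quotient _ _).map_zero _ _).symm))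
    exact LinearMap.mem_ker.2 (KInjUse.Q_map_zero_of_quotient
      ((HomotopyCategory.eq_of_homotopy _ _ hh).trans ((HomotopyCategory.quotient _ _).map_zero _ _)))
  haveI : Module.Finite A ((unitCx X ⟶ iG K I) ⧸ LinearMap.ker Φ) :=
    Module.Finite.equiv (Φ.quotKerEquivOfSurjective hΦ).symm
  refine Module.Finite.of_surjective (Submodule.liftQ _ P hker) fun g => ?_
  obtain ⟨g', rfl⟩ := hP g
  exact ⟨Submodule.Quotient.mk g', rfl⟩

/-- `Hom(O, M ⊗ E)` is finite when `Hom(F, M)` is for all perfect `F`. -/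
theorem finite_hom_unit_ten {M : DCoh.D X}
    (h : ∀ F : DCoh.D X, DCoh.IsPerfect F → Module.Finite A (F ⟶ M))
    {E : DCoh.D X} (hE : DCoh.IsPerfect E) :
    Module.Finite A (DerivedCategory.Q.obj (unitCx X) ⟶ ten M E) := by
  obtain ⟨I, _, hT, hH, hIp, hIso⟩ := exists_dual hE
  haveI := hT
  haveI := hH
  obtain ⟨J, hJ, ⟨eJ⟩⟩ := KInjUse.exists_iso_Q_kInjective M
  haveI := hJ
  obtain ⟨e₀⟩ := hIso M
  obtain ⟨e₁⟩ := nonempty_rSheafHom_iso I J eJ.symm
  obtain ⟨P, hP, ⟨eP⟩⟩ := exists_kFlat_model (DerivedCategory.Q.obj I)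
  obtain ⟨e₂⟩ := nonempty_iG_congr eP J
  haveI := h (DerivedCategory.Q.obj P) (PerfLib.isPerfect_of_iso eP.symm hIp)
  haveI : Module.Finite A (DerivedCategory.Q.obj P ⟶ DerivedCategory.Q.obj J) :=
    KiehlLib.finite_homCongr (Iso.refl _) eJ
  haveI := finite_iG_of_hom (A := A) hP J
  exact KiehlLib.finite_homCongr (Iso.refl _) (e₂ ≪≫ e₁.symm ≪≫ e₀)

end Hom

section Base

variable {k : Type u} [Field k]

noncomputable local instance overSelf : (Spec (CommRingCat.of k)).Over (Spec (CommRingCat.of k)) :=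
  ⟨𝟙 _⟩

/-- Finiteness passes along `Hom(O_X, Z) ≅ Hom(O, Rf_* Z)`. -/
theorem finite_hom_rpush {X : Scheme.{u}} [X.Over (Spec (CommRingCat.of k))]
    (f : X ⟶ Spec (CommRingCat.of k)) [f.IsOver (Spec (CommRingCat.of k))] (Z : DCoh.D X)
    [DCoh.HasLpull f] [DCoh.HasRpush f]
    [Module.Finite k (DerivedCategory.Q.obj (unitCx X) ⟶ Z)] :
    Module.Finite k (DerivedCategory.Q.obj (unitCx (Spec (CommRingCat.of k))) ⟶ (DCoh.Rpush f).obj Z) := by
  obtain ⟨_, _⟩ := QRlimLib.exists_isTriangulated_rpush f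
  let adj := KFlatLib.lpullRpushAdj f
  haveI : (DCoh.Lpull f).Additive := adj.left_adjoint_additive
  let u := DerivedCategory.Q.obj (unitCx (Spec (CommRingCat.of k)))
  let e := KiehlLib.lpullUnitIso f
  let l : (u ⟶ (DCoh.Rpush f).obj Z) →ₗ[k] (DerivedCategory.Q.obj (unitCx X) ⟶ Z) :=
    { toFun := fun ψ => e.inv ≫ (DCoh.Lpull f).map ψ ≫ adj.counit.app Z
      map_add' := fun ψ ψ' => by simp
      map_smul' := fun a ψ => by
        have h1 : a • ψ = (a • 𝟙 u) ≫ ψ := by rw [Linear.smul_comp, Category.id_comp]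
        rw [h1, Functor.map_comp,
          KiehlLib.lpull_map_smul_id f _
            (KFlatLib.isKFlat_of_isStrictlyPerfect (isStrictlyPerfect_unitCx _))]
        simp [Linear.smul_comp, Linear.comp_smul] }
  exact Module.Finite.of_injective l fun ψ ψ' hh =>
    (adj.homEquiv u Z).symm.injective (by
      rw [Adjunction.homEquiv_counit, Adjunction.homEquiv_counit]
      exact (cancel_epi e.inv).1 hh)

/-- Over a field, finite dimensional sections force coherence. -/
theorem isCoh_of_finite_hom (M : (Spec (CommRingCat.of k)).Modules) [Coh.IsQCoh M]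
    (h : Module.Finite k (Coh.structureModule (Spec (CommRingCat.of k)) ⟶ M)) : Coh.IsCoh M := by
  let S := Spec (CommRingCat.of k)
  refine ⟨inferInstance, QCohLib.isFT_of_finite fun p => ⟨⊤, isAffineOpen_top S, trivial, ?_⟩⟩
  let τ : k →+* Γ(S, ⊤) := Coh.toGlobal (S ↘ Spec (CommRingCat.of k))
  let ev : (Coh.structureModule S ⟶ M) →ₛₗ[τ] Γ(M, ⊤) :=
    { toFun := fun φ => KFlatLib.unitSecEquiv M φ
      map_add' := fun φ ψ => rfl
      map_smul' := fun a φ => by
        change KFlatLib.unitSecEquiv M (a • φ) = τ a • KFlatLib.unitSecEquiv M φ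
        have h1 : a • φ = φ ≫ (a • 𝟙 M) := by rw [Linear.comp_smul, Category.comp_id]
        rw [h1, KFlatLib.unitSecEquiv_comp]
        refine (KLin.smul_app_apply a (𝟙 M) ⊤ _).trans ?_
        simp [τ, S]
        rfl }
  haveI : RingHomSurjective τ := ⟨fun r => ⟨(Scheme.ΓSpecIso (CommRingCat.of k)).hom.hom r, by
    simp [τ, Coh.toGlobal, S, show (S ↘ Spec (CommRingCat.of k)) = 𝟙 _ from rfl]⟩⟩
  exact Module.Finite.of_surjective ev (KFlatLib.unitSecEquiv M).surjective

/-- The structure sheaf is the tilde of the ring, in the derived category. -/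
noncomputable def genIso (R : CommRingCat.{u}) [PreservesFiniteLimits (tilde.functor R)] :
    KiehlLib.uD (Spec R) ≅ (DCoh.tildeD R).obj (TildeDerLib.gen R 0) :=
  ((tilde.functor R).mapDerivedCategoryFactors.app _ ≪≫
    DerivedCategory.Q.mapIso ((HomologicalComplex.singleMapHomologicalComplex
      (tilde.functor R) (ComplexShape.up ℤ) 0).app (ModuleCat.of R R)) ≪≫
    ((DerivedCategory.singleFunctorIsoCompQ (Spec R).Modules 0).app _).symm ≪≫
    (DerivedCategory.singleFunctor (Spec R).Modules 0).mapIso tildeSelf).symm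

/-- On an affine scheme cohomology of quasi-coherent objects is seen by maps out of `O`. -/
theorem homology_map_surjective (R : CommRingCat.{u}) [PreservesFiniteLimits (tilde.functor R)]
    {V : DCoh.D (Spec R)} (hV : DCoh.IsQCohD V) :
    Function.Surjective (fun f : KiehlLib.uD (Spec R) ⟶ V =>
      (DerivedCategory.homologyFunctor (Spec R).Modules 0).map f) := fun t => by
  obtain ⟨N, ⟨eN⟩⟩ := (TildeDerLib.isQCohD_iff R V).1 hV
  let H := DerivedCategory.homologyFunctor (Spec R).Modules 0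
  let ν := ExactHomology.homologyIso (tilde.functor R) (0 : ℤ)
  let eg := genIso R
  obtain ⟨t', ht'⟩ := (tilde.functor R).map_surjective
    ((ν.app (TildeDerLib.gen R 0)).inv ≫ H.map eg.inv ≫ t ≫ H.map eN.inv ≫ (ν.app N).hom)
  obtain ⟨g, hg⟩ := (TildeDerLib.bijective_ev 0 N).2 ((TildeDerLib.genH R 0).hom ≫ t')
  refine ⟨eg.hom ≫ (DCoh.tildeD R).map g ≫ eN.hom, ?_⟩
  have h1 : (DerivedCategory.homologyFunctor (ModuleCat.{u} R) 0).map g = t' :=
    (cancel_epi (TildeDerLib.genH R 0).hom).1 hg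
  have h2 : H.map ((DCoh.tildeD R).map g) =
      (ν.app (TildeDerLib.gen R 0)).hom ≫ (tilde.functor R).map t' ≫ (ν.app N).inv := by
    rw [← h1]
    exact (NatIso.naturality_2 ν g).symm
  change H.map (eg.hom ≫ (DCoh.tildeD R).map g ≫ eN.hom) = t
  rw [Functor.map_comp, Functor.map_comp, h2, ht']
  simp [H]
  erw [Category.id_comp]
  simp [← Functor.map_comp]

/-- Over a field, coherence is finiteness of maps out of `O`. -/
theorem isCohD_of_finite_hom [PreservesFiniteLimits (tilde.functor (CommRingCat.of k))]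
    (W : DCoh.D (Spec (CommRingCat.of k))) (hW : DCoh.IsQCohD W)
    (h : ∀ i : ℤ, Module.Finite k
      (DerivedCategory.Q.obj (unitCx (Spec (CommRingCat.of k))) ⟶ W⟦i⟧)) : DCoh.IsCohD W := by
  intro i
  let S := Spec (CommRingCat.of k)
  let V : DCoh.D S := W⟦i⟧
  have hV : DCoh.IsQCohD V := KFlatLib.isQCohD_shift hW i
  let H := DerivedCategory.homologyFunctor S.Modules 0
  let ι := DerivedCategory.singleFunctorCompHomologyFunctorIso S.Modules (0 : ℤ)
  let Ω := Coh.structureModule S
  haveI := h i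
  let eu : DerivedCategory.Q.obj (unitCx S) ≅ KiehlLib.uD S :=
    ((DerivedCategory.singleFunctorIsoCompQ S.Modules 0).app _).symm
  haveI : Module.Finite k (KiehlLib.uD S ⟶ V) :=
    KiehlLib.finite_homCongr (A := k) eu (Iso.refl (W⟦i⟧))
  let l : (KiehlLib.uD S ⟶ V) →ₗ[k] (Ω ⟶ H.obj V) :=
    { toFun := fun f => ι.inv.app Ω ≫ H.map f
      map_add' := fun f g => by rw [Functor.map_add, Preadditive.comp_add]
      map_smul' := fun a f => by
        have h1 : a • f = (DerivedCategory.singleFunctor S.Modules 0).map (a • 𝟙 Ω) ≫ f := by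
          rw [Functor.map_smul, CategoryTheory.Functor.map_id, Linear.smul_comp, Category.id_comp]
        have h2 := ι.inv.naturality (a • 𝟙 Ω)
        rw [h1, Functor.map_comp, ← Category.assoc]
        refine (congrArg (· ≫ H.map f) h2.symm).trans ?_
        simp [Linear.smul_comp] }
  have hl : Function.Surjective l := fun t => by
    obtain ⟨f, hf⟩ := homology_map_surjective (CommRingCat.of k) hV (ι.hom.app Ω ≫ t)
    exact ⟨f, by change ι.inv.app Ω ≫ H.map f = t; rw [show H.map f = _ from hf, Iso.inv_hom_id_app_assoc]⟩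
  have hfin : Module.Finite k (Ω ⟶ H.obj V) := Module.Finite.of_surjective l hl
  haveI : Coh.IsQCoh (H.obj V) := hV 0
  exact QCohLib.isCoh_of_iso
    (((DerivedCategory.homologyFunctor S.Modules 0).shiftIso i 0 i (by simp)).app W)
    (isCoh_of_finite_hom (H.obj V) hfin)

end Base

/-- Coherence is detected by finiteness of Hom out of perfect objects. -/
theorem isCohD_of_finite_hom_perfect {k : Type u} [Field k] {X : Scheme.{u}}
    [X.Over (Spec (CommRingCat.of k))] [IsProper (X ↘ Spec (CommRingCat.of k))]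
    {K : DCoh.D X} (hK : DCoh.IsQCohD K)
    (h : ∀ E : DCoh.D X, DCoh.IsPerfect E → ∀ i : ℤ, Module.Finite k (E ⟶ K⟦i⟧)) :
    DCoh.IsCohD K := by
  let S := Spec (CommRingCat.of k)
  letI : S.Over S := ⟨𝟙 _⟩
  let f : X ⟶ S := X ↘ S
  haveI : f.IsOver S := ⟨Category.comp_id _⟩
  haveI : IsLocallyNoetherian X := LocallyOfFiniteType.isLocallyNoetherian f
  haveI : CompactSpace ↥X := QuasiCompact.compactSpace_of_compactSpace f
  haveI : IsNoetherian X := ⟨⟩
  haveI := DCohRestrLib.hasRpush f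
  haveI := KFlatLib.hasLpull f
  haveI : PreservesFiniteLimits (tilde.functor (CommRingCat.of k)) :=
    Groth.Agent.ProjFormLib.preservesFiniteLimits_tilde _
  refine isCohD_of_test f hK fun E hE => ?_
  have hq : DCoh.IsQCohD (ten K E) := ten_isQCohD hK (KoszOrthLib.isQCohD_of_isPerfect hE)
  refine isCohD_of_finite_hom _ (QRlimLib.isQCohD_rpush f hq) fun i => ?_
  obtain ⟨_, _⟩ := QRlimLib.exists_isTriangulated_rpush f
  haveI := finite_hom_unit_ten (A := k) (M := K)
    (fun F hF => by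
      haveI := h F hF 0
      exact KiehlLib.finite_homCongr (Iso.refl F) ((shiftFunctorZero (DCoh.D X) ℤ).app K))
    (PerfLib.isPerfect_shift hE i)
  haveI := finite_hom_rpush f (ten K (E⟦i⟧))
  obtain ⟨s⟩ := ten_shift K E i
  exact KiehlLib.finite_homCongr (Iso.refl _)
    ((DCoh.Rpush f).mapIso s ≪≫ ((DCoh.Rpush f).commShiftIso i).app (ten K E))

end Groth.Agent.Dual3Lib.PerfTest
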