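import Groth.Agent.CohLib.ModExtH
import Groth.Agent.RpushLib.Compare
import Groth.Agent.Dual3Lib.ScalarD

/-!
# `Ext(O, M)` is the sheaf cohomology, naturally and linearly
-/

set_option autoImplicit false
set_option linter.style.haveILetI false
set_option backward.isDefEq.respectTransparency false
set_option backward.isDefEq.respectTransparency.types false

set_option maxHeartbeats 1000000

universe u

open CategoryTheory CategoryTheory.Limits AlgebraicGeometry CategoryTheory.Abelian

noncomputable section

namespace Groth.Agent.Dual3Lib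

variable {X : Scheme.{u}} [HasExt.{u} X.Modules]

theorem subsingleton_HH_of_injective (I : X.Modules) [Injective I] (n : ℕ) :
    Subsingleton (Coh.HH X I (n + 1)) := by
  haveI : TopCat.Sheaf.IsFlasque ((QCohLib.toAbF X).obj I : TopCat.Sheaf AddCommGrpCat.{u} X.toTopCat) :=
    ⟨fun {U V} i => (AddCommGrpCat.epi_iff_surjective _).mpr
      (RpushLib.surjective_map_injective I (V := V.unop) (U := U.unop) i.unop.le)⟩
  haveI := @QCohLib.subsingleton_of_isFlasque _ n ((QCohLib.toAbF X).obj I) inferInstance ⊤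
  exact (QCohLib.hEquiv ((QCohLib.toAbF X).obj I) (n + 1)).toEquiv.subsingleton

/-- The section one of the structure sheaf. -/
def oneConst : ((constantSheaf (Opens.grothendieckTopology X) AddCommGrpCat.{u}).obj
      (AddCommGrpCat.of (ULift.{u} ℤ))) ⟶
    (QCohLib.toAbF X).obj (Coh.structureModule X) :=
  CohLib.unitConstEquiv X.ringCatSheaf (SheafOfModules.unit X.ringCatSheaf) (𝟙 _)

/-- The comparison `Ext(O, M) → H(X, M)`. -/
def extHH (M : X.Modules) (n : ℕ) : Ext (Coh.structureModule X) M n →+ Coh.HH X M n :=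
  AddMonoidHom.mk' (fun x => (Ext.mk₀ (oneConst.{u} (X := X))).comp
      (x.mapExactFunctor (QCohLib.toAbF X)) (zero_add n))
    (fun x y => by rw [Ext.mapExactFunctor_add, Ext.comp_add])

theorem extHH_apply (M : X.Modules) (n : ℕ) (x : Ext (Coh.structureModule X) M n) :
    extHH M n x = (Ext.mk₀ (oneConst.{u} (X := X))).comp
      (x.mapExactFunctor (QCohLib.toAbF X)) (zero_add n) := rfl

theorem extHH_natural {M N : X.Modules} (φ : M ⟶ N) (n : ℕ) (x : Ext (Coh.structureModule X) M n) :
    extHH N n (x.comp (Ext.mk₀ φ) (add_zero n)) =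
      Sheaf.H.map ((SheafOfModules.toSheaf X.ringCatSheaf).map φ) n (extHH M n x) := by
  show _ = Ext.comp (extHH M n x) (Ext.mk₀ _) (add_zero n)
  rw [extHH_apply, extHH_apply, Ext.mapExactFunctor_comp, Ext.mapExactFunctor_mk₀,
    Ext.comp_assoc_of_third_deg_zero]

theorem bijective_extHH_zero (M : X.Modules) : Function.Bijective (extHH M 0) := by
  have h : ∀ y : Coh.structureModule X ⟶ M,
      extHH M 0 (Ext.mk₀ y) = Ext.mk₀ (CohLib.unitConstEquiv X.ringCatSheaf M y) := fun y => by
    rw [extHH_apply, Ext.mapExactFunctor_mk₀, Ext.mk₀_comp_mk₀]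
    refine congrArg Ext.mk₀ ?_
    have := CohLib.unitConstEquiv_comp X.ringCatSheaf y (𝟙 _)
    rw [Category.id_comp] at this
    exact this.symm
  constructor
  · intro a b hab
    obtain ⟨f, rfl⟩ := (Ext.mk₀_bijective _ M).2 a
    obtain ⟨g, rfl⟩ := (Ext.mk₀_bijective _ M).2 b
    rw [h, h] at hab
    rw [(CohLib.unitConstEquiv X.ringCatSheaf M).injective ((Ext.mk₀_bijective _ _).1 hab)]
  · intro x
    obtain ⟨g, rfl⟩ := (Ext.mk₀_bijective _ _).2 x
    exact ⟨Ext.mk₀ ((CohLib.unitConstEquiv X.ringCatSheaf M).symm g), by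
      rw [h, AddEquiv.apply_symm_apply]⟩

theorem extHH_delta {S : ShortComplex X.Modules} (hS : S.ShortExact) (n : ℕ)
    (y : Ext (Coh.structureModule X) S.X₃ n) :
    extHH S.X₁ (n + 1) (y.comp hS.extClass rfl) =
      Ext.comp (extHH S.X₃ n y) (hS.map_of_exact (QCohLib.toAbF X)).extClass rfl := by
  rw [extHH_apply, extHH_apply, Ext.mapExactFunctor_comp, Ext.mapExactFunctor_extClass]
  exact (Ext.comp_assoc _ _ _ (zero_add n) rfl (by omega)).symm

theorem bijective_extHH (M : X.Modules) (n : ℕ) : Function.Bijective (extHH M n) := by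
  induction n generalizing M with
  | zero => exact bijective_extHH_zero M
  | succ n ih =>
    let φ := QCohLib.toAbF X
    haveI : EnoughInjectives X.Modules := IsGrothendieckAbelian.enoughInjectives.{u}
    have hS : (ShortComplex.mk (Injective.ι M) (cokernel.π (Injective.ι M)) (cokernel.condition _)).ShortExact :=
      { exact := ShortComplex.exact_cokernel _, mono_f := inferInstance, epi_g := inferInstance }
    constructor
    · refine (injective_iff_map_eq_zero _).2 fun x hx => ?_
      obtain ⟨y, rfl⟩ := Ext.covariant_sequence_exact₁ _ hS x (Ext.eq_zero_of_injective _) rfl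
      rw [extHH_delta hS] at hx
      obtain ⟨z, hz⟩ := Ext.covariant_sequence_exact₃ _ (hS.map_of_exact φ) (extHH _ n y) rfl hx
      obtain ⟨w, rfl⟩ := (ih (Injective.under M)).2 z
      have : y = w.comp (Ext.mk₀ (cokernel.π (Injective.ι M))) (add_zero n) :=
        (ih _).1 ((extHH_natural _ n w).trans hz).symm
      rw [this, Ext.comp_assoc_of_second_deg_zero]
      erw [hS.comp_extClass]
      rw [Ext.comp_zero]
    · intro x
      haveI := subsingleton_HH_of_injective (Injective.under M) n
      have hx : x.comp (Ext.mk₀ (φ.map (Injective.ι M))) (add_zero (n + 1)) = 0 := Subsingleton.elim _ _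
      obtain ⟨z, rfl⟩ := Ext.covariant_sequence_exact₁ _ (hS.map_of_exact φ) x hx rfl
      obtain ⟨y, rfl⟩ := (ih _).2 z
      exact ⟨y.comp hS.extClass rfl, extHH_delta hS n y⟩

/-- `Ext(O, M) = H(X, M)`. -/
def extHHEquiv (M : X.Modules) (n : ℕ) : Ext (Coh.structureModule X) M n ≃+ Coh.HH X M n :=
  AddEquiv.ofBijective _ (bijective_extHH M n)

end Groth.Agent.Dual3Lib
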