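import Groth.Agent.Dual3Lib.DualizingShriek
import Groth.Agent.ShriekRingLib.FlatSelf
import Groth.Agent.FibDimLib.Pure

/-!
# Dualizing complexes of proper schemes over a field
-/

set_option autoImplicit false
set_option linter.style.haveILetI false
set_option backward.isDefEq.respectTransparency false
set_option backward.isDefEq.respectTransparency.types false
set_option maxHeartbeats 1000000
set_option synthInstance.maxHeartbeats 200000

universe u

open CategoryTheory CategoryTheory.Limits AlgebraicGeometry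
open Groth.Agent.DualCxLib
open DTenLib.Point (hH sg)

attribute [local instance] HasDerivedCategory.standard

noncomputable section

namespace Groth.Agent.Dual3Lib

theorem isDualizing_of_isField (A : Type u) [CommRing A] (hA : IsField A) :
    Dual.IsDualizing A (Dual.inD A A) := by
  letI := hA.toField
  exact ShriekRingLib.isDualizing_field A

theorem subsingleton_ext_of_isField (A : Type u) [CommRing A] (hA : IsField A) (I : Ideal A)
    (i : ℤ) (hi : i ≠ 0) : Subsingleton (Dual.inD A (A ⧸ I) ⟶ (Dual.inD A A)⟦i⟧) := by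
  letI := hA.toField
  rcases Ideal.eq_bot_or_top I with rfl | rfl
  · haveI : Subsingleton ((hH A i).obj (Dual.inD A A)) :=
      ModuleCat.subsingleton_of_isZero (DTenLib.Point.isZero_sg (N := ModuleCat.of A A) hi)
    have h : Subsingleton (Dual.inD A A ⟶ (Dual.inD A A)⟦i⟧) := (extHL (Dual.inD A A) i).toEquiv.subsingleton
    exact (Iso.homFromEquiv ((DerivedCategory.singleFunctor (ModuleCat.{u} A) 0).mapIso
      (Submodule.quotEquivOfEqBot (⊥ : Ideal A) rfl).toModuleIso)).subsingleton
  · haveI : Subsingleton (A ⧸ (⊤ : Ideal A)) := Submodule.Quotient.subsingleton_iff.2 rfl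
    have h : IsZero (Dual.inD A (A ⧸ (⊤ : Ideal A))) :=
      (DerivedCategory.singleFunctor (ModuleCat.{u} A) 0).map_isZero
        (ModuleCat.isZero_of_subsingleton (ModuleCat.of A (A ⧸ (⊤ : Ideal A))))
    exact ⟨fun x y => h.eq_of_src x y⟩

theorem natCast_le_withBot {a b : ℕ} (h : a ≤ b) : (a : WithBot ℕ∞) ≤ (b : WithBot ℕ∞) :=
  Nat.cast_le.2 h

section Chains

attribute [local instance] specializationOrder

theorem topologicalKrullDim_le_of_chains {A : Type*} [TopologicalSpace A] [T0Space A] [QuasiSober A] (n : ℕ)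
    (h : ∀ (m : ℕ) (c : Fin (m + 1) → A), FibDimLib.IsSpecChain c → m ≤ n) :
    topologicalKrullDim A ≤ (n : WithBot ℕ∞) := by
  rw [FibDimLib.topologicalKrullDim_eq_krullDim']
  refine iSup_le fun l => ?_
  have h' := h l.length (fun j => l j.rev) ⟨l.strictMono.injective.comp Fin.rev_injective,
    fun i j hij => show l i.rev ⤳ l j.rev from l.monotone (Fin.rev_le_rev.2 hij)⟩
  exact natCast_le_withBot h'

end Chains

variable [∀ (U V : Scheme.{u}) (j : U ⟶ V) [IsOpenImmersion j], PreservesFiniteLimits (Scheme.Modules.restrictFunctor j)]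
  [∀ (R : CommRingCat.{u}), PreservesFiniteLimits (tilde.functor R)]

section Base

variable {k : Type u} [Field k]

theorem isField_globalSections : IsField Γ(Spec (CommRingCat.of k), ⊤) :=
  MulEquiv.isField (Field.toIsField k)
    (Scheme.ΓSpecIso (CommRingCat.of k)).commRingCatIsoToRingEquiv.toMulEquiv

/-- The structure sheaf of a point is dualizing. -/
theorem exists_base_point {K : DCoh.D (Spec (CommRingCat.of k))}
    (e : K ≅ DCoh.inD (Spec (CommRingCat.of k)) (Coh.structureModule (Spec (CommRingCat.of k)))) :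
    Nonempty ((DCoh.restrictD (isAffineOpen_top (Spec (CommRingCat.of k))).fromSpec).obj K ≅
      (DCoh.tildeD Γ(Spec (CommRingCat.of k), ⊤)).obj
        (Dual.inD Γ(Spec (CommRingCat.of k), ⊤) Γ(Spec (CommRingCat.of k), ⊤))) ∧
      Dual2.IsDualizingSch (Spec (CommRingCat.of k)) K := by
  let hV := isAffineOpen_top (Spec (CommRingCat.of k))
  let e' := (DCoh.restrictD hV.fromSpec).mapIso e ≪≫ restrictInDUnit hV.fromSpec ≪≫
    (tildeInDSelf Γ(Spec (CommRingCat.of k), ⊤)).symm
  refine ⟨⟨e'⟩, isDualizingSch_of_cover (ι := PUnit.{u+1}) (fun _ => Γ(Spec (CommRingCat.of k), ⊤))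
    (fun _ => hV.fromSpec) (fun x => ⟨⟨⟩, by
      show x ∈ Set.range hV.fromSpec
      rw [hV.range_fromSpec]
      exact Set.mem_univ _⟩)
    fun _ => ⟨_, isDualizing_of_isField _ isField_globalSections, ⟨e'⟩⟩⟩

end Base

section Main

variable {k : Type u} [Field k] {X : Scheme.{u}} (f : X ⟶ Spec (CommRingCat.of k)) [IsProper f]
  [DCoh.HasRpush f] (hf : DCoh.RpushPreservesQCoh f)
  (a : DCoh.DQCoh (Spec (CommRingCat.of k)) ⥤ DCoh.DQCoh X) (adj : DCoh.RpushQ f hf ⊣ a)
  (O : DCoh.DQCoh (Spec (CommRingCat.of k)))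
  (eO : O.obj ≅ DCoh.inD (Spec (CommRingCat.of k)) (Coh.structureModule (Spec (CommRingCat.of k))))

include adj eO in
theorem deg_maximal_eq_zero [IsLocallyNoetherian X] {U : X.Opens} (hU : IsAffineOpen U)
    {ω : Dual.D Γ(X, U)} (hω : Dual.IsDualizing Γ(X, U) ω)
    (e : (DCoh.restrictD hU.fromSpec).obj (a.obj O).obj ≅ (DCoh.tildeD Γ(X, U)).obj ω) :
    haveI := IsLocallyNoetherian.component_noetherian ⟨U, hU⟩
    ∀ p : PrimeSpectrum Γ(X, U), p.asIdeal.IsMaximal → deg hω p = 0 := by
  haveI := IsLocallyNoetherian.component_noetherian ⟨U, hU⟩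
  intro p hp
  obtain ⟨⟨e₀⟩, hK⟩ := exists_base_point eO
  obtain ⟨c', hge⟩ := exists_isGE_chart f hf a adj O hK hU e
  obtain ⟨d, hd0, hd1, hvan, -⟩ := exists_ext_chart f hf a adj O hK
    (isAffineOpen_top (Spec (CommRingCat.of k))) hU le_top
    (isDualizing_of_isField _ isField_globalSections) e₀ (a₀ := 0) (b₀ := 0)
    (fun I i hi => subsingleton_ext_of_isField _ isField_globalSections I i (by omega)) e hge p.asIdeal
  obtain rfl : d = 0 := le_antisymm hd1 hd0
  by_contra hne
  exact (isDeg_deg hω p).2 (@van_of_subsingleton _ _ p.asIdeal _ _ _ _ (hvan _ hne))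

include adj eO in
/-- Bounds at a point where the cohomology does not vanish. -/
theorem deg_bounds [IsLocallyNoetherian X] (d : ℕ) (hd : topologicalKrullDim X ≤ d) {U : X.Opens}
    (hU : IsAffineOpen U) {ω : Dual.D Γ(X, U)} (hω : Dual.IsDualizing Γ(X, U) ω)
    (e : (DCoh.restrictD hU.fromSpec).obj (a.obj O).obj ≅ (DCoh.tildeD Γ(X, U)).obj ω) (i : ℤ) :
    haveI := IsLocallyNoetherian.component_noetherian ⟨U, hU⟩
    ∀ p : PrimeSpectrum Γ(X, U), Nontrivial (LocalizedModule p.asIdeal.primeCompl (Dual.HD Γ(X, U) ω i)) →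
      i ≤ deg hω p ∧ -(d : ℤ) ≤ i ∧ ∀ q, deg hω q ≤ 0 := by
  haveI := IsLocallyNoetherian.component_noetherian ⟨U, hU⟩
  intro p hnt
  have hle : ∀ q, deg hω q ≤ 0 ∧ -(d : ℤ) ≤ deg hω q := fun q => by
    obtain ⟨l, m, -, hm, hlen⟩ := exists_series hω q
    rw [deg_maximal_eq_zero f hf a adj O eO hU hω e m hm] at hlen
    have h1 : (l.length : WithBot ℕ∞) ≤ (d : WithBot ℕ∞) := by
      refine (Order.LTSeries.length_le_krullDim l).trans ?_
      show ringKrullDim Γ(X, U) ≤ _
      rw [← PrimeSpectrum.topologicalKrullDim_eq_ringKrullDim]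
      exact (Topology.IsInducing.topologicalKrullDim_le hU.fromSpec.isOpenEmbedding.isInducing).trans hd
    have h2 : l.length ≤ d := by exact_mod_cast h1
    omega
  have hnv := (nontrivial_localized_iff (extHL ω i)).1 hnt
  refine ⟨not_lt.1 fun h => hnv (van_of_gt hω p i h), not_lt.1 fun h => hnv (van_of_lt hω p i
    fun q _ _ => by have := (hle q).2; omega), fun q => (hle q).1⟩

include adj eO in
theorem amplitude (d : ℕ) (hd : topologicalKrullDim X ≤ d) :
    Dual2.IsDualizingSch X (a.obj O).obj ∧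
      (∀ i : ℤ, (i < -(d : ℤ) ∨ 0 < i) → IsZero (DCoh.HD (a.obj O).obj i)) ∧
      ∀ (i : ℤ) (n : ℕ), (n : ℤ) = -i →
        topologicalKrullDim {x : X | Nontrivial ((DCoh.HD (a.obj O).obj i).presheaf.stalk x)} ≤
          (n : WithBot ℕ∞) := by
  obtain ⟨-, hK⟩ := exists_base_point eO
  haveI : IsLocallyNoetherian X := LocallyOfFiniteType.isLocallyNoetherian f
  haveI : CompactSpace X := QuasiCompact.compactSpace_of_compactSpace f
  haveI : IsNoetherian X := ⟨⟩
  have hω' := isDualizingSch_rightAdjoint f hf a adj O hK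
  refine ⟨hω', fun i hi => ?_, fun i n hn => ?_⟩
  · refine (DCohRestrLib.isZero_iff_subsingleton_stalks _).2 fun x => ?_
    obtain ⟨U, hU, hxU, -⟩ := exists_isAffineOpen_mem_and_subset (x := x) (U := ⊤) trivial
    haveI := IsLocallyNoetherian.component_noetherian ⟨U, hU⟩
    obtain ⟨ω, hω, ⟨e⟩⟩ := hω' Γ(X, U) hU.fromSpec
    obtain ⟨p, rfl⟩ : x ∈ Set.range hU.fromSpec := by rwa [hU.range_fromSpec]
    by_contra hs
    have hnt : Nontrivial (LocalizedModule p.asIdeal.primeCompl (Dual.HD Γ(X, U) ω i)) :=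
      not_subsingleton_iff_nontrivial.1 fun h => hs (stalkHD hU.fromSpec e p i).subsingleton
    obtain ⟨h1, h2, h3⟩ := deg_bounds f hf a adj O eO d hd hU hω e i p hnt
    have := h3 p
    omega
  · let S : Set X := {x : X | Nontrivial ((DCoh.HD (a.obj O).obj i).presheaf.stalk x)}
    have hS : S = CohB1.support (DCoh.HD (a.obj O).obj i) :=
      Set.ext fun x => (not_subsingleton_iff_nontrivial).symm
    have hcl : IsClosed S := hS ▸ QCohLib.isClosed_support _ (isCohD_of_isDualizingSch hω' i).2
    haveI : QuasiSober S := hcl.isClosedEmbedding_subtypeVal.quasiSober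
    refine topologicalKrullDim_le_of_chains n fun m c hc => ?_
    obtain ⟨U, hU, hxU, -⟩ := exists_isAffineOpen_mem_and_subset (x := (c (Fin.last m)).1) (U := ⊤) trivial
    haveI := IsLocallyNoetherian.component_noetherian ⟨U, hU⟩
    obtain ⟨ω, hω, ⟨e⟩⟩ := hω' Γ(X, U) hU.fromSpec
    have hmem : ∀ j, ∃ p : PrimeSpectrum Γ(X, U), hU.fromSpec p = (c j).1 := fun j => by
      show (c j).1 ∈ Set.range hU.fromSpec
      rw [hU.range_fromSpec]
      exact Specializes.mem_open (Specializes.map (hc.2 j _ (Fin.le_last j)) continuous_subtype_val) U.2 hxU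
    choose q hq using hmem
    have hord : ∀ b b', b < b' → q b < q b' := fun b b' hbb => by
      refine lt_of_le_of_ne ?_ fun he => hbb.ne (hc.1 (Subtype.ext ((hq b).symm.trans ((congrArg (fun p => hU.fromSpec p) he).trans (hq b')))))
      rw [PrimeSpectrum.le_iff_specializes]
      refine hU.fromSpec.isOpenEmbedding.isInducing.specializes_iff.1 ?_
      rw [hq b, hq b']
      exact Specializes.map (hc.2 b b' hbb.le) continuous_subtype_val
    let L : LTSeries (PrimeSpectrum Γ(X, U)) := LTSeries.mk m q fun b b' hbb => hord b b' hbb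
    have hnt : Nontrivial (LocalizedModule L.head.asIdeal.primeCompl (Dual.HD Γ(X, U) ω i)) :=
      not_subsingleton_iff_nontrivial.1 fun h => not_subsingleton_iff_nontrivial.2
        (show hU.fromSpec L.head ∈ S from (hq _).symm ▸ (c _).2)
        (stalkHD hU.fromSpec e L.head i).subsingleton
    obtain ⟨h1, h2, h3⟩ := deg_bounds f hf a adj O eO d hd hU hω e i _ hnt
    have h4 := length_le_deg_sub hω L
    have h5 := h3 L.last
    have h6 : L.length = m := rfl
    omega

end Main

end Groth.Agent.Dual3Lib
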