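import Groth.Agent.Dual3Lib.EvalSpec
import Mathlib.Algebra.Category.ModuleCat.Injective
import Mathlib.Algebra.Homology.HomotopyCategory.KInjective

/-!
# Maps into the field in degree zero
-/

set_option autoImplicit false
set_option linter.style.haveILetI false
set_option backward.isDefEq.respectTransparency false
set_option backward.isDefEq.respectTransparency.types false
set_option maxHeartbeats 1000000

universe w v u

open CategoryTheory CategoryTheory.Limits DerivedCategory

noncomputable section

namespace Groth.Agent.Dual3Lib

section General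

variable {C : Type u} [Category.{v} C] [Abelian C] [HasDerivedCategory.{w} C] (M : C) [Injective M]

/-- Nothing in positive degrees maps to an injective in degree zero. -/
theorem hom_single_eq_zero {Z : DerivedCategory C} [Z.IsGE 1] (g : Z ⟶ (singleFunctor C 0).obj M) : g = 0 := by
  obtain ⟨P, hP, ⟨e⟩⟩ := exists_iso_Q_obj_of_isGE Z 1
  haveI := hP
  let L := (HomologicalComplex.single C (ComplexShape.up ℤ) 0).obj M
  haveI : ∀ n, Injective (L.X n) := fun n => by
    by_cases h : n = 0
    · subst h
      exact Injective.of_iso (HomologicalComplex.singleObjXSelf (ComplexShape.up ℤ) 0 M).symm inferInstance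
    · exact (HomologicalComplex.isZero_single_obj_X (ComplexShape.up ℤ) 0 M n h).injective
  haveI : CochainComplex.IsKInjective L := CochainComplex.isKInjective_of_injective L 0
  let s := (singleFunctorIsoCompQ C 0).app M
  obtain ⟨φ, hφ⟩ := DerLib.KInjUse.Q_map_surjective P L (e.inv ≫ g ≫ s.hom)
  have : φ = 0 := HomologicalComplex.hom_ext _ _ fun n => by
    by_cases h : n = 0
    · subst h
      exact (CochainComplex.isZero_of_isStrictlyGE P 1 0 (by omega)).eq_of_src _ _
    · exact (HomologicalComplex.isZero_single_obj_X (ComplexShape.up ℤ) 0 M n h).eq_of_tgt _ _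
  rw [this, Functor.map_zero] at hφ
  rw [← cancel_epi e.inv, ← cancel_mono s.hom, Category.assoc, ← hφ, comp_zero, zero_comp]

/-- Maps into an injective in degree zero are maps of the cohomology in degree zero. -/
theorem bijective_homologyMap_injective (N : DerivedCategory C) :
    Function.Bijective fun f : N ⟶ (singleFunctor C 0).obj M => (homologyFunctor C 0).map f := by
  let L := (singleFunctor C 0).obj M
  let T := (TStructure.t.triangleLTGE 1).obj N
  have hT : T ∈ Pretriangulated.distinguishedTriangles := TStructure.t.triangleLTGE_distinguished 1 N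
  let ι : (TStructure.t.truncLT 1).obj N ⟶ N := (TStructure.t.truncLTι 1).app N
  haveI : IsIso ((homologyFunctor C 0).map ι) := DerLib.Ghost.isIso_homologyMap_truncLTι N 1 0 (by omega)
  haveI : ((TStructure.t.truncLT 1).obj N).IsLE 0 := TStructure.t.isLE_truncLT_obj N 1 0 (by omega)
  haveI : L.IsGE 0 := inferInstance
  haveI h3 : T.obj₃.IsGE 1 := TStructure.t.isGE_truncGE_obj N 1 1 (by omega)
  have hb := bijective_homologyMap (K := (TStructure.t.truncLT 1).obj N) (L := L) 0
  refine ⟨fun f g h => ?_, fun ψ => ?_⟩
  · rw [← sub_eq_zero]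
    have h0 : ι ≫ (f - g) = 0 := by
      refine hb.1 ?_
      show (homologyFunctor C 0).map (ι ≫ (f - g)) = (homologyFunctor C 0).map 0
      rw [Functor.map_comp, Functor.map_sub, show (homologyFunctor C 0).map f = (homologyFunctor C 0).map g from h,
        sub_self, comp_zero, Functor.map_zero]
    obtain ⟨g', hg'⟩ := Pretriangulated.Triangle.yoneda_exact₂ T hT (f - g) h0
    rw [hg', hom_single_eq_zero M g', comp_zero]
  · obtain ⟨g, hg⟩ := hb.2 ((homologyFunctor C 0).map ι ≫ ψ)
    have hT' := Pretriangulated.inv_rot_of_distTriang _ hT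
    haveI : T.invRotate.obj₁.IsGE 1 := by
      haveI : (T.obj₃⟦(-1 : ℤ)⟧).IsGE 2 := TStructure.t.isGE_shift T.obj₃ 1 (-1) 2 (by omega)
      exact TStructure.t.isGE_of_ge (T.obj₃⟦(-1 : ℤ)⟧) 1 2 (by omega)
    obtain ⟨f, hf⟩ := Pretriangulated.Triangle.yoneda_exact₂ T.invRotate hT' g (hom_single_eq_zero M _)
    refine ⟨f, ?_⟩
    rw [← cancel_epi ((homologyFunctor C 0).map ι)]
    refine Eq.trans ?_ hg
    show (homologyFunctor C 0).map ι ≫ (homologyFunctor C 0).map f = _
    rw [← Functor.map_comp, hf]
    rfl

end General

attribute [local instance] HasDerivedCategory.standard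

/-- A field is injective over itself. -/
theorem injective_field (k : Type u) [Field k] : Injective (ModuleCat.of k k) := by
  haveI : Module.Injective k k := ⟨fun X Y _ _ _ _ f hf g => by
    obtain ⟨r, hr⟩ := f.exists_leftInverse_of_injective (LinearMap.ker_eq_bot.2 hf)
    exact ⟨g.comp r, fun x => congrArg g congr($hr x)⟩⟩
  exact Module.injective_object_of_injective_module k k

end Groth.Agent.Dual3Lib
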