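import Groth.Agent.Dual3Lib.TopTraceShift
import Groth.Agent.Dual3Lib.AmplitudeField
import Groth.Agent.CurvLib.SupportVanish
import Groth.Agent.HensSchLib.Flat
import Groth.Agent.DCohRestrLib.MV
import Groth.Agent.S1766

/-!
# The dualizing module of a proper scheme over a field
-/

set_option autoImplicit false
set_option linter.style.haveILetI false
set_option backward.isDefEq.respectTransparency false
set_option backward.isDefEq.respectTransparency.types false
set_option maxHeartbeats 1000000
set_option synthInstance.maxHeartbeats 200000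

universe u

open CategoryTheory CategoryTheory.Limits AlgebraicGeometry DerivedCategory

attribute [local instance] HasDerivedCategory.standard

noncomputable section

namespace Groth.Agent.Dual3Lib

theorem exists_dualizing_module (k : Type u) [Field k] (X : Scheme.{u}) [X.Over (Spec (CommRingCat.of k))]
    [IsProper (X ↘ Spec (CommRingCat.of k))] (d : ℕ) (hd : topologicalKrullDim X = d) :
    ∃ (ω : X.Modules) (t : Coh.HH X ω d →ₗ[k] k), Coh.IsCoh ω ∧ ∀ (F : X.Modules), Coh.IsQCoh F →
      ∀ ψ : Coh.HH X F d →ₗ[k] k, ∃! φ : F ⟶ ω,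
        ∀ x : Coh.HH X F d, ψ x = t (Sheaf.H.map ((SheafOfModules.toSheaf X.ringCatSheaf).map φ) d x) := by
  haveI : ∀ (R : CommRingCat.{u}), PreservesFiniteLimits (tilde.functor R) := fun R =>
    HensSchLib.tilde_preservesFiniteLimits R
  haveI : ∀ (U V : Scheme.{u}) (j : U ⟶ V) [IsOpenImmersion j],
      PreservesFiniteLimits (Scheme.Modules.restrictFunctor j) := fun U V j _ => inferInstance
  let f := X ↘ Spec (CommRingCat.of k)
  haveI : IsLocallyNoetherian X := LocallyOfFiniteType.isLocallyNoetherian f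
  haveI : CompactSpace X := QuasiCompact.compactSpace_of_compactSpace f
  haveI : IsNoetherian X := ⟨⟩
  haveI : DCoh.HasRpush f := DCohRestrLib.hasRpush f
  have hf : DCoh.RpushPreservesQCoh f := fun K hK => QRlimLib.isQCohD_rpush f hK
  haveI := Groth.Agent.S1766.result X (Spec (CommRingCat.of k)) f hf
  let O : DCoh.DQCoh (Spec (CommRingCat.of k)) :=
    ⟨DCoh.inD _ (Coh.structureModule _), PerfBaseLib.isQCohD_inD _ QCohLib.isQCoh_unit⟩
  let F := DCoh.RpushQ f hf
  let adj := Adjunction.ofIsLeftAdjoint F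
  obtain ⟨hdual, hzero, -⟩ := amplitude f hf _ adj O (Iso.refl _) d hd.le
  have hge : ((F.rightAdjoint).obj O).obj.IsGE (-(d : ℤ)) :=
    (isGE_iff _ _).2 fun i hi => hzero i (Or.inl hi)
  obtain ⟨t, ht⟩ := exists_trace hf _ adj d 0 (-(d : ℤ)) (by omega) O (ω := Dual.inD k k) inDSpecIso.symm hge
  let β : (homologyFunctor (ModuleCat.{u} k) 0).obj (Dual.inD k k) ≃ₗ[k] k :=
    ((singleFunctorCompHomologyFunctorIso (ModuleCat.{u} k) 0).app (ModuleCat.of k k)).toLinearEquiv
  refine ⟨_, β.toLinearMap.comp t, isCohD_of_isDualizingSch hdual _, fun G hG ψ => ?_⟩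
  obtain ⟨φ, hφ, huniq⟩ := ht G hG (fun j hj => CurvLib.subsingleton_HH_of_dim_le G hd.le j hj)
    (β.symm.toLinearMap.comp ψ)
  exact ⟨φ, fun x => β.symm_apply_eq.1 (hφ x), fun φ' hφ' => huniq φ' fun x => β.symm_apply_eq.2 (hφ' x)⟩

end Groth.Agent.Dual3Lib
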