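import Groth.Agent.KoszOrthLib.Aff
import Groth.Agent.PerfHomLib.Retract
import Mathlib.Algebra.Homology.DerivedCategory.KProjective

/-!
# Maps out of bounded above complexes of vector bundles on affine schemes
-/

set_option autoImplicit false
set_option linter.style.haveILetI false
set_option backward.isDefEq.respectTransparency false
set_option backward.isDefEq.respectTransparency.types false
set_option maxHeartbeats 1000000

universe w' w v' v u' u

open CategoryTheory CategoryTheory.Limits AlgebraicGeometry

attribute [local instance] HasDerivedCategory.standard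

noncomputable section

namespace Groth.Agent.Dual3Lib

open KoszOrthLib (AX tX tD)

section General

variable {C : Type u} [Category.{v} C] {D : Type u'} [Category.{v'} D] [Preadditive C] [Preadditive D]
  {ι : Type*} {c : ComplexShape ι}

/-- A complex with terms in the image of a fully faithful functor lifts. -/
theorem exists_lift_cx (F : C ⥤ D) [F.Additive] [F.Full] [F.Faithful] (K : HomologicalComplex D c)
    (h : ∀ i, ∃ M : C, Nonempty (F.obj M ≅ K.X i)) :
    ∃ L : HomologicalComplex C c, Nonempty ((F.mapHomologicalComplex c).obj L ≅ K) := by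
  choose M e using h
  let e := fun i => (e i).some
  let L : HomologicalComplex C c :=
    { X := M
      d := fun i j => F.preimage ((e i).hom ≫ K.d i j ≫ (e j).inv)
      shape := fun i j hij => F.map_injective (by simp [K.shape i j hij])
      d_comp_d' := fun i j k _ _ => F.map_injective (by simp) }
  exact ⟨L, ⟨HomologicalComplex.Hom.isoOfComponents e (fun i j _ => by simp [L])⟩⟩

end General

variable (X : Scheme.{u}) [IsAffine X]

/-- The ring of functions as a ring object. -/
abbrev AR : CommRingCat.{u} := CommRingCat.of (AX X)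

/-- Restriction along an isomorphism, as an equivalence. -/
def resEquiv : (Spec (AR X)).Modules ≌ X.Modules :=
  CategoryTheory.Equivalence.mk (Scheme.Modules.restrictFunctor X.isoSpec.hom)
    (Scheme.Modules.restrictFunctor X.isoSpec.inv)
    (Scheme.Modules.restrictFunctorId.symm ≪≫
      Scheme.Modules.restrictFunctorCongr X.isoSpec.inv_hom_id.symm ≪≫
      Scheme.Modules.restrictFunctorComp X.isoSpec.inv X.isoSpec.hom)
    ((Scheme.Modules.restrictFunctorComp X.isoSpec.hom X.isoSpec.inv).symm ≪≫
      Scheme.Modules.restrictFunctorCongr X.isoSpec.hom_inv_id ≪≫ Scheme.Modules.restrictFunctorId)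

/-- Restriction to `X`. -/
abbrev resF : (Spec (AR X)).Modules ⥤ X.Modules :=
  Scheme.Modules.restrictFunctor X.isoSpec.hom

/-- Modules over `Γ(X, ⊤)` as modules on `X`. -/
abbrev psi : ModuleCat.{u} (AX X) ⥤ X.Modules :=
  tilde.functor (AR X) ⋙ resF X

instance full_res : (resF X).Full := (resEquiv X).fullyFaithfulFunctor.full

instance faithful_res : (resF X).Faithful := (resEquiv X).fullyFaithfulFunctor.faithful

instance full_psi : (psi X).Full :=
  haveI : (tilde.functor (AR X)).Full := (tilde.adjunction (R := AR X)).fullyFaithfulLOfIsIsoUnit.full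
  Functor.Full.comp _ _

instance faithful_psi : (psi X).Faithful :=
  haveI : (tilde.functor (AR X)).Faithful :=
    (tilde.adjunction (R := AR X)).fullyFaithfulLOfIsIsoUnit.faithful
  Functor.Faithful.comp _ _

/-- `psi` on derived categories is `tX`. -/
def psiFactors : (psi X).mapHomotopyCategory (ComplexShape.up ℤ) ⋙ DerivedCategory.Qh ≅
    DerivedCategory.Qh ⋙ tX X :=
  NatIso.ofComponents (fun K =>
      ((Scheme.Modules.restrictFunctor X.isoSpec.hom).mapDerivedCategoryFactorsh.symm.app
          (((tilde.functor (AR X)).mapHomotopyCategory (ComplexShape.up ℤ)).obj K) ≪≫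
        (DCoh.restrictD X.isoSpec.hom).mapIso
          ((tilde.functor (AR X)).mapDerivedCategoryFactorsh.symm.app K)))
    (fun {K L} φ => by
      obtain ⟨φ, rfl⟩ := (HomotopyCategory.quotient _ _).map_surjective φ
      have h := NatTrans.naturality ((Functor.whiskerLeft _
        (Scheme.Modules.restrictFunctor X.isoSpec.hom).mapDerivedCategoryFactorsh.inv) ≫
        (Functor.whiskerRight (tilde.functor (AR X)).mapDerivedCategoryFactorsh.inv
          (DCoh.restrictD X.isoSpec.hom))) ((HomotopyCategory.quotient _ _).map φ)
      exact h)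

theorem bijective_Qh_psi (P : CochainComplex (ModuleCat.{u} (AX X)) ℤ) [P.IsKProjective]
    (N : CochainComplex (ModuleCat.{u} (AX X)) ℤ) :
    Function.Bijective (fun φ : (HomotopyCategory.quotient X.Modules (ComplexShape.up ℤ)).obj
        (((psi X).mapHomologicalComplex (ComplexShape.up ℤ)).obj P) ⟶
      (HomotopyCategory.quotient X.Modules (ComplexShape.up ℤ)).obj
        (((psi X).mapHomologicalComplex (ComplexShape.up ℤ)).obj N) => DerivedCategory.Qh.map φ) := by
  let q := HomotopyCategory.quotient (ModuleCat.{u} (AX X)) (ComplexShape.up ℤ)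
  let F := (psi X).mapHomotopyCategory (ComplexShape.up ℤ)
  have h1 : Function.Bijective fun φ : q.obj P ⟶ q.obj N => F.map φ :=
    ⟨fun a b h => F.map_injective h, fun b => F.map_surjective b⟩
  refine (Function.Bijective.of_comp_iff
    (fun φ : F.obj (q.obj P) ⟶ F.obj (q.obj N) => DerivedCategory.Qh.map φ) h1).1 ?_
  have h2 : Function.Bijective fun g : DerivedCategory.Qh.obj (q.obj P) ⟶ DerivedCategory.Qh.obj (q.obj N) =>
      (tX X).map g := ⟨fun a b h => (tX X).map_injective h, fun b => (tX X).map_surjective b⟩
  have h3 := (((psiFactors X).app (q.obj P)).symm.homCongr ((psiFactors X).app (q.obj N)).symm).bijective.comp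
    (h2.comp (CochainComplex.IsKProjective.Qh_map_bijective P (q.obj N)))
  convert h3 using 1
  funext φ
  simp only [Function.comp_apply, Iso.homCongr_apply, Iso.symm_inv, Iso.symm_hom]
  exact ((Iso.eq_comp_inv _).2 ((psiFactors X).hom.naturality φ)).trans (Category.assoc _ _ _)

variable {X}

theorem exists_psi_iso (M : X.Modules) [Coh.IsQCoh M] : ∃ N, Nonempty ((psi X).obj N ≅ M) := by
  let M' := (resEquiv X).inverse.obj M
  haveI : Coh.IsQCoh M' := by
    haveI := KFlatLib.isQCoh_pullback X.isoSpec.inv M
    exact QCohLib.isQCoh_of_iso ((Scheme.Modules.restrictFunctorIsoPullback X.isoSpec.inv).app M).symm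
  haveI := KFlatLib.isIso_counit_of_qcoh (R := AR X) M' inferInstance
  exact ⟨moduleSpecΓFunctor.obj M', ⟨(resEquiv X).functor.mapIso
    (asIso ((tilde.adjunction (R := AR X)).counit.app M')) ≪≫ (resEquiv X).counitIso.app M⟩⟩

theorem projective_of_psi_iso {N : ModuleCat.{u} (AX X)} {M : X.Modules} (e : (psi X).obj N ≅ M)
    (hM : FlatMod.IsFinLocFree M) : Projective N := by
  let g : (tilde.functor (AR X)).obj N ≅ (resEquiv X).inverse.obj M :=
    (resEquiv X).unitIso.app _ ≪≫ (resEquiv X).inverse.mapIso e
  have h1 : FlatMod.IsFinLocFree ((tilde.functor (AR X)).obj N) :=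
    PerfLib.isFinLocFree_of_iso g.symm (PerfLib.isFinLocFree_res X.isoSpec.inv hM)
  have h2 := (PerfHomLib.projective_finite_sections h1).2
  have h3 : Projective (moduleSpecΓFunctor.obj ((tilde.functor (AR X)).obj N)) :=
    @ModuleCat.projective_of_categoryTheory_projective _ _ _ h2
  exact Projective.of_iso (asIso ((tilde.adjunction (R := AR X)).unit.app N)).symm h3

/-- Maps in `K` out of a bounded above complex of vector bundles into a quasi-coherent complex are
maps in `D`, on an affine scheme. -/
theorem bijective_Qh_of_locFree (E F : CochainComplex X.Modules ℤ) (b : ℤ)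
    (hEb : ∀ i : ℤ, b < i → IsZero (E.X i)) (hE : ∀ i : ℤ, FlatMod.IsFinLocFree (E.X i))
    (hF : ∀ i : ℤ, Coh.IsQCoh (F.X i)) :
    Function.Bijective (fun φ : (HomotopyCategory.quotient X.Modules (ComplexShape.up ℤ)).obj E ⟶
      (HomotopyCategory.quotient X.Modules (ComplexShape.up ℤ)).obj F => DerivedCategory.Qh.map φ) := by
  obtain ⟨P, ⟨eE⟩⟩ := exists_lift_cx (psi X) E fun i =>
    haveI := FinLFAnn.isQCoh_of_isFinLocFree (hE i)
    exists_psi_iso (E.X i)
  obtain ⟨N, ⟨eF⟩⟩ := exists_lift_cx (psi X) F fun i =>
    haveI := hF i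
    exists_psi_iso (F.X i)
  haveI : ∀ i, Projective (P.X i) := fun i =>
    projective_of_psi_iso ((HomologicalComplex.eval X.Modules _ i).mapIso eE) (hE i)
  haveI : CochainComplex.IsStrictlyLE P b := (CochainComplex.isStrictlyLE_iff P b).2 fun i hi => by
    rw [IsZero.iff_id_eq_zero]
    refine (psi X).map_injective ?_
    exact ((hEb i hi).of_iso ((HomologicalComplex.eval X.Modules _ i).mapIso eE)).eq_of_src _ _
  haveI := CochainComplex.isKProjective_of_projective P b
  let QE := (HomotopyCategory.quotient X.Modules (ComplexShape.up ℤ)).mapIso eE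
  let QF := (HomotopyCategory.quotient X.Modules (ComplexShape.up ℤ)).mapIso eF
  refine (Function.Bijective.of_comp_iff _ (QE.homCongr QF).bijective).1 ?_
  have h := ((DerivedCategory.Qh.mapIso QE).homCongr (DerivedCategory.Qh.mapIso QF)).bijective.comp
    (bijective_Qh_psi X P N)
  convert h using 1
  funext φ
  simp [Iso.homCongr_apply]

end Groth.Agent.Dual3Lib
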