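import Groth.Agent.Dual3Lib.VanishCases
import Groth.Agent.KoszOrthLib.Adj
import Groth.Agent.QRlimLib.Push

/-!
# The right adjoint of `Rf_*` over an open of the base
-/

set_option autoImplicit false
set_option linter.style.haveILetI false
set_option backward.isDefEq.respectTransparency false
set_option backward.isDefEq.respectTransparency.types false
set_option maxHeartbeats 1000000
set_option synthInstance.maxHeartbeats 200000

universe u

open CategoryTheory CategoryTheory.Limits AlgebraicGeometry CategoryTheory.Pretriangulated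

attribute [local instance] HasDerivedCategory.standard

namespace Groth.Agent.Dual3Lib

variable {X Y : Scheme.{u}}

/-- A retraction criterion for the unit of a reflection. -/
theorem isIso_of_rightOrth {C : Type*} [Category C] [Preadditive C] [HasZeroObject C] [HasShift C ℤ]
    [∀ n : ℤ, (shiftFunctor C n).Additive] [Pretriangulated C] {L E F : C} (ι : L ⟶ E) (η : E ⟶ F)
    (d : F ⟶ L⟦(1 : ℤ)⟧) (hT : Triangle.mk ι η d ∈ distTriang C)
    (h₁ : ∀ φ : L ⟶ E, φ = 0) (h₂ : ∀ φ : L⟦(1 : ℤ)⟧ ⟶ F, φ = 0) : IsIso η := by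
  obtain ⟨s, hs⟩ := Triangle.coyoneda_exact₁ _ hT (𝟙 (L⟦(1 : ℤ)⟧)) (by
    show 𝟙 _ ≫ ι⟦(1 : ℤ)⟧' = 0
    rw [h₁ ι, Functor.map_zero, comp_zero])
  have hz : IsZero L := by
    have h : 𝟙 (L⟦(1 : ℤ)⟧) = 0 := by
      rw [hs, h₂ s]
      exact zero_comp
    rw [IsZero.iff_id_eq_zero]
    apply (shiftFunctor C (1 : ℤ)).map_injective
    rw [CategoryTheory.Functor.map_id, h, Functor.map_zero]
  exact (Triangle.isZero₁_iff_isIso₂ _ hT).1 hz

variable [IsNoetherian Y] (f : X ⟶ Y) [IsProper f] [DCoh.HasRpush f]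
  (hf : DCoh.RpushPreservesQCoh f) (a : DCoh.DQCoh Y ⥤ DCoh.DQCoh X) (adj : DCoh.RpushQ f hf ⊣ a)

include adj in
/-- Maps into `a Q`, over the preimage of an open, are maps out of the direct image. -/
theorem exists_homEquiv (Q : DCoh.DQCoh Y) (c : ℤ) [Q.obj.IsGE c] (V : Y.Opens)
    [DCoh.HasRpush (f ∣_ V)] :
    ∃ Φ : ∀ E : DCoh.D (f ⁻¹ᵁ V : Scheme.{u}), DCoh.IsQCohD E →
        ((E ⟶ (DCoh.restrictD (f ⁻¹ᵁ V).ι).obj (a.obj Q).obj) ≃+
          ((DCoh.Rpush (f ∣_ V)).obj E ⟶ (DCoh.restrictD V.ι).obj Q.obj)),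
      ∀ (E E' : DCoh.D (f ⁻¹ᵁ V : Scheme.{u})) (hE : DCoh.IsQCohD E) (hE' : DCoh.IsQCohD E') (u : E' ⟶ E)
        (φ : E ⟶ (DCoh.restrictD (f ⁻¹ᵁ V).ι).obj (a.obj Q).obj),
          Φ E' hE' (u ≫ φ) = (DCoh.Rpush (f ∣_ V)).map u ≫ Φ E hE φ := by
  haveI : IsLocallyNoetherian X := LocallyOfFiniteType.isLocallyNoetherian f
  haveI : CompactSpace X := QuasiCompact.compactSpace_of_compactSpace f
  haveI : IsNoetherian X := ⟨⟩
  let W := f ⁻¹ᵁ V
  haveI : CompactSpace (V : Scheme.{u}) :=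
    isCompact_iff_compactSpace.mp (TopologicalSpace.NoetherianSpace.isCompact _)
  haveI : CompactSpace (W : Scheme.{u}) :=
    isCompact_iff_compactSpace.mp (TopologicalSpace.NoetherianSpace.isCompact _)
  haveI : QuasiCompact V.ι := quasiCompact_of_compactSpace _
  haveI : QuasiCompact W.ι := quasiCompact_of_compactSpace _
  haveI := DCohRestrLib.hasRpush V.ι
  haveI := DCohRestrLib.hasRpush W.ι
  let rV := DCoh.restrictD V.ι
  let rW := DCoh.restrictD W.ι
  let adjV := KoszOrthLib.restrictRpushAdj V.ι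
  let adjW := KoszOrthLib.restrictRpushAdj W.ι
  haveI := KoszOrthLib.isIso_counit W.ι adjW
  obtain ⟨r⟩ := DCohRestrLib.nonempty_restrictD_Rpush f V
  obtain ⟨_, _⟩ := QRlimLib.exists_isTriangulated_rpush f
  haveI : (DCoh.RpushQ f hf).IsTriangulated :=
    ObjectProperty.isTriangulated_lift _ ((DCoh.IsQCohD (X := X)).ι ⋙ DCoh.Rpush f) _
  letI := adj.rightAdjointCommShift ℤ
  haveI := adj.commShift_of_leftAdjoint ℤ
  haveI : a.IsTriangulated := adj.isTriangulated_rightAdjoint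
  let Q₁ : DCoh.DQCoh Y := ⟨(DCoh.Rpush V.ι).obj (rV.obj Q.obj),
    QRlimLib.isQCohD_rpush V.ι (KoszOrthLib.isQCohD_restrictD V.ι Q.property)⟩
  let η : Q ⟶ Q₁ := ObjectProperty.homMk (adjV.unit.app Q.obj)
  haveI h1 : IsIso (rV.map η.hom) := KoszOrthLib.isIso_restrictD_unit V.ι adjV Q.obj
  haveI hge₁ : Q₁.obj.IsGE c := by
    haveI : (rV.obj Q.obj).IsGE c := (DerivedCategory.isGE_iff _ c).2 fun i hi =>
      ((Scheme.Modules.restrictFunctor V.ι).map_isZero (DerivedCategory.isZero_of_isGE Q.obj c i hi)).of_iso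
        (DCohRestrLib.restrictHDIso V.ι Q.obj i)
    exact QRlimLib.rpush_isGE V.ι _ c
  -- over `f⁻¹V` the two right adjoints agree
  obtain ⟨C, g, d, hT⟩ := distinguished_cocone_triangle η
  haveI hQ' : DerivedCategory.TStructure.t.IsGE Q.obj c := ‹_›
  haveI hQ₁' : DerivedCategory.TStructure.t.IsGE Q₁.obj c := hge₁
  haveI hQs : DerivedCategory.TStructure.t.IsGE (Q.obj⟦(1 : ℤ)⟧) (c - 1) :=
    DerivedCategory.TStructure.t.isGE_shift Q.obj c 1 (c - 1) (by omega)
  haveI : C.obj.IsGE (c - 1) :=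
    @Triangulated.TStructure.isGE₂ _ _ _ _ _ _ _ DerivedCategory.TStructure.t _
      (rot_of_distTriang _ ((DCoh.IsQCohD (X := Y)).ι.map_distinguished _ hT)) (c - 1)
      (@Triangulated.TStructure.isGE_of_ge _ _ _ _ _ _ _ DerivedCategory.TStructure.t Q₁.obj (c - 1) c (by omega) hQ₁')
      hQs
  have hCV : IsZero (rV.obj C.obj) :=
    ((rV.mapTriangle.obj ((DCoh.IsQCohD (X := Y)).ι.mapTriangle.obj (Triangle.mk η g d))).isZero₃_iff_isIso₁
      (rV.map_distinguished _ ((DCoh.IsQCohD (X := Y)).ι.map_distinguished _ hT))).2 h1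
  have haC : IsZero (rW.obj (a.obj C).obj) := (isZero_restrictD_iff_restrict _ _).2
    (isZero_restrict_rightAdjoint f hf a adj C
      (rHomQCoh_of_pseudoCoherent f C (c - 1) fun G hG m => isPC_rpush_of_isPerfect f hG m) V
      ((isZero_restrictD_iff_restrict _ _).1 hCV))
  haveI hη : IsIso (rW.map (a.map η).hom) :=
    ((rW.mapTriangle.obj ((DCoh.IsQCohD (X := X)).ι.mapTriangle.obj (a.mapTriangle.obj (Triangle.mk η g d)))).isZero₃_iff_isIso₁
      (rW.map_distinguished _ ((DCoh.IsQCohD (X := X)).ι.map_distinguished _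
        (a.map_distinguished _ hT)))).1 haC
  -- `a Q₁` is the direct image of its restriction
  let E₁ := (a.obj Q₁).obj
  have horth : ∀ (P : DCoh.D X), DCoh.IsQCohD P → IsZero (rW.obj P) → ∀ φ : P ⟶ E₁, φ = 0 := by
    intro P hP hPW φ
    have hz : IsZero (rV.obj ((DCoh.Rpush f).obj P)) :=
      (DCohRestrLib.isZero_Rpush (f ∣_ V) hPW).of_iso (r.app P)
    let P' : DCoh.DQCoh X := ⟨P, hP⟩
    have h0 : ((adj.homEquiv P' Q₁).symm (ObjectProperty.homMk φ)).hom = 0 :=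
      (adjV.homEquiv _ _).symm.injective (hz.eq_of_src _ _)
    have h2 : (adj.homEquiv P' Q₁).symm (ObjectProperty.homMk φ) = (adj.homEquiv P' Q₁).symm 0 :=
      (ObjectProperty.hom_ext _ h0).trans (by
        haveI : (DCoh.RpushQ f hf).Additive := inferInstance
        exact (adj.homAddEquiv P' Q₁).symm.map_zero.symm)
    exact congrArg (fun z : P' ⟶ a.obj Q₁ => z.hom) ((adj.homEquiv P' Q₁).symm.injective h2)
  haveI hu : IsIso (adjW.unit.app E₁) := by
    obtain ⟨L, ι, d', hL⟩ := distinguished_cocone_triangle₁ (adjW.unit.app E₁)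
    have hLW : IsZero (rW.obj L) :=
      ((rW.mapTriangle.obj (Triangle.mk ι (adjW.unit.app E₁) d')).isZero₁_iff_isIso₂
        (rW.map_distinguished _ hL)).2 (KoszOrthLib.isIso_restrictD_unit W.ι adjW E₁)
    have hLq : DCoh.IsQCohD L := KFlatLib.isQCohD₂ (inv_rot_of_distTriang _ hL)
      (KFlatLib.isQCohD_shift (QRlimLib.isQCohD_rpush W.ι
        (KoszOrthLib.isQCohD_restrictD W.ι (a.obj Q₁).property)) (-1)) (a.obj Q₁).property
    refine isIso_of_rightOrth ι _ d' hL (horth L hLq hLW) fun φ => ?_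
    exact (adjW.homEquiv _ _).symm.injective
      ((((shiftFunctor _ (1 : ℤ)).map_isZero hLW).of_iso ((rW.commShiftIso (1 : ℤ)).app L)).eq_of_src _ _)
  let eI : (DCoh.Rpush W.ι).obj (rW.obj (a.obj Q).obj) ≅ E₁ :=
    (DCoh.Rpush W.ι).mapIso (asIso (rW.map (a.map η).hom)) ≪≫ (asIso (adjW.unit.app E₁)).symm
  let cE : ∀ E : DCoh.D (W : Scheme.{u}), rV.obj ((DCoh.Rpush f).obj ((DCoh.Rpush W.ι).obj E)) ≅
      (DCoh.Rpush (f ∣_ V)).obj E := fun E =>
    r.app _ ≪≫ (DCoh.Rpush (f ∣_ V)).mapIso ((asIso adjW.counit).app E)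
  let P : ∀ E : DCoh.D (W : Scheme.{u}), DCoh.IsQCohD E → DCoh.DQCoh X := fun E hE =>
    ⟨(DCoh.Rpush W.ι).obj E, QRlimLib.isQCohD_rpush W.ι hE⟩
  haveI : (DCoh.Rpush W.ι).Full := adjW.fullyFaithfulROfIsIsoCounit.full
  haveI : (DCoh.Rpush W.ι).Faithful := adjW.fullyFaithfulROfIsIsoCounit.faithful
  haveI : (DCoh.RpushQ f hf).Additive := inferInstance
  haveI : rV.Additive := inferInstance
  haveI : (DCoh.Rpush W.ι).Additive := adjW.right_adjoint_additive
  refine ⟨fun E hE =>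
    { toFun := fun φ => (cE E).inv ≫ (adjV.homEquiv _ _).symm
        ((adj.homEquiv (P E hE) Q₁).symm (ObjectProperty.homMk ((DCoh.Rpush W.ι).map φ ≫ eI.hom))).hom
      invFun := fun ψ => (DCoh.Rpush W.ι).preimage ((adj.homEquiv (P E hE) Q₁
        (ObjectProperty.homMk (adjV.homEquiv _ _ ((cE E).hom ≫ ψ)))).hom ≫ eI.inv)
      left_inv := fun φ => ?_
      right_inv := fun ψ => ?_
      map_add' := fun φ φ' => ?_ }, fun E E' hE hE' u φ => ?_⟩
  · apply (DCoh.Rpush W.ι).map_injective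
    simp only [Functor.map_preimage]
    rw [Iso.comp_inv_eq]
    exact (congrArg (fun z : P E hE ⟶ a.obj Q₁ => z.hom) ((congrArg (adj.homEquiv (P E hE) Q₁)
      (ObjectProperty.hom_ext _ (show adjV.homEquiv _ _ ((cE E).hom ≫ (cE E).inv ≫ (adjV.homEquiv _ _).symm
        ((adj.homEquiv (P E hE) Q₁).symm (ObjectProperty.homMk ((DCoh.Rpush W.ι).map φ ≫ eI.hom))).hom) = _ by
          rw [Iso.hom_inv_id_assoc]; exact Equiv.apply_symm_apply _ _))).trans (Equiv.apply_symm_apply _ _)))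
  · simp only [Functor.map_preimage, Category.assoc, Iso.inv_hom_id, Category.comp_id]
    refine (congrArg (fun z => (cE E).inv ≫ (adjV.homEquiv _ _).symm z)
      (congrArg (fun z : (DCoh.RpushQ f hf).obj (P E hE) ⟶ Q₁ => z.hom)
        (Equiv.symm_apply_apply (adj.homEquiv (P E hE) Q₁) _))).trans ?_
    exact (congrArg ((cE E).inv ≫ ·) (Equiv.symm_apply_apply (adjV.homEquiv _ _) _)).trans
      (Iso.inv_hom_id_assoc _ _)
  · rw [Functor.map_add, Preadditive.add_comp]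
    refine Eq.trans ?_ (Preadditive.comp_add _ _ _ _ _ _)
    refine congrArg ((cE E).inv ≫ ·) ?_
    refine Eq.trans ?_ ((adjV.homAddEquiv _ _).symm.map_add _ _)
    exact congrArg (adjV.homEquiv _ _).symm
      (congrArg (fun z : (DCoh.RpushQ f hf).obj (P E hE) ⟶ Q₁ => z.hom)
        ((adj.homAddEquiv (P E hE) Q₁).symm.map_add (ObjectProperty.homMk _) (ObjectProperty.homMk _)))
  · let u' : P E' hE' ⟶ P E hE := ObjectProperty.homMk ((DCoh.Rpush W.ι).map u)
    show (cE E').inv ≫ _ = (DCoh.Rpush (f ∣_ V)).map u ≫ (cE E).inv ≫ _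
    have hnat : rV.map ((DCoh.Rpush f).map ((DCoh.Rpush W.ι).map u)) ≫ (cE E).hom =
        (cE E').hom ≫ (DCoh.Rpush (f ∣_ V)).map u := by
      simp only [cE, Iso.trans_hom, Functor.mapIso_hom, Iso.app_hom, asIso_hom, Category.assoc]
      rw [← Functor.map_comp]
      refine (reassoc_of% (r.hom.naturality ((DCoh.Rpush W.ι).map u))) _ |>.trans ?_
      refine congrArg (_ ≫ ·) ?_
      exact ((DCoh.Rpush (f ∣_ V)).map_comp _ _).symm.trans
        (congrArg _ (adjW.counit.naturality u))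
    rw [show ObjectProperty.homMk ((DCoh.Rpush W.ι).map (u ≫ φ) ≫ eI.hom) =
        u' ≫ (ObjectProperty.homMk ((DCoh.Rpush W.ι).map φ ≫ eI.hom) : P E hE ⟶ a.obj Q₁) from
      ObjectProperty.hom_ext _ (by simp [u']), Adjunction.homEquiv_naturality_left_symm]
    rw [Iso.inv_comp_eq, ← Category.assoc, ← hnat, Category.assoc, Iso.hom_inv_id_assoc]
    exact adjV.homEquiv_naturality_left_symm _ _

end Groth.Agent.Dual3Lib
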