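import Groth.Agent.Dual3Lib.Ten
import Groth.Agent.PerfDualLib.Dual
import Groth.Agent.ProjFormLib.QCohMain

/-!
# `RHom(K, -) ≅ - ⊗^L K^∨`, naturally
-/

set_option autoImplicit false
set_option linter.style.haveILetI false
set_option backward.isDefEq.respectTransparency false
set_option backward.isDefEq.respectTransparency.types false
set_option maxHeartbeats 1000000

universe u

open CategoryTheory CategoryTheory.Limits AlgebraicGeometry HomologicalComplex
open Groth.Agent.DerLib Groth.Agent.PerfDualLib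

attribute [local instance] HasDerivedCategory.standard
attribute [local instance 2000] DCoh.additive_tensorBi_obj

namespace Groth.Agent.Dual3Lib

variable {X : Scheme.{u}}

section Generic

variable {C D : Type*} [Category C] [Category D] {Qf : C ⥤ D} {t g : C ⥤ C} (a : t ⊣ g)
  {L R : D ⥤ D} (A : L ⊣ R) (c : Qf ⋙ L ≅ t ⋙ Qf) (I : C)

/-- The comparison map of two right adjoints. -/
def cmpGen : Qf.obj (g.obj I) ⟶ R.obj (Qf.obj I) :=
  A.homEquiv _ _ (c.hom.app (g.obj I) ≫ Qf.map (a.counit.app I))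

theorem symm_cmp {P : C} (φ : P ⟶ g.obj I) :
    (A.homEquiv _ _).symm (Qf.map φ ≫ cmpGen a A c I) =
      c.hom.app P ≫ Qf.map ((a.homEquiv P I).symm φ) := by
  rw [cmpGen, A.homEquiv_naturality_left_symm, Equiv.symm_apply_apply, a.homEquiv_counit, Functor.map_comp]
  exact c.hom.naturality_assoc φ _

include a A c in
theorem isIso_cmp [Qf.EssSurj]
    (hsurj : ∀ (P : C) (u : Qf.obj (t.obj P) ⟶ Qf.obj I), ∃ ψ, Qf.map ψ = u)
    (hfull : ∀ (P : C) (u : Qf.obj P ⟶ Qf.obj (g.obj I)), ∃ φ, Qf.map φ = u)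
    (hinj : ∀ (P : C) (φ φ' : P ⟶ g.obj I),
      Qf.map ((a.homEquiv P I).symm φ) = Qf.map ((a.homEquiv P I).symm φ') → Qf.map φ = Qf.map φ') :
    IsIso (cmpGen a A c I) := by
  obtain ⟨e⟩ : Nonempty (Qf.obj (Qf.objPreimage (R.obj (Qf.obj I))) ≅ R.obj (Qf.obj I)) :=
    ⟨Qf.objObjPreimageIso _⟩
  obtain ⟨ψ, hψ⟩ := hsurj _ (c.inv.app _ ≫ (A.homEquiv _ _).symm e.hom)
  let φ₀ := a.homEquiv _ _ ψ
  let c₀ := cmpGen a A c I
  have h0 : Qf.map φ₀ ≫ c₀ = e.hom := by
    apply (A.homEquiv _ _).symm.injective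
    rw [symm_cmp, Equiv.symm_apply_apply, hψ]
    exact c.hom_inv_id_app_assoc _ _
  refine ⟨e.inv ≫ Qf.map φ₀, ?_, by rw [Category.assoc]; exact (congrArg (e.inv ≫ ·) h0).trans e.inv_hom_id⟩
  obtain ⟨φ₁, hφ₁⟩ := hfull _ (c₀ ≫ e.inv ≫ Qf.map φ₀)
  change c₀ ≫ e.inv ≫ Qf.map φ₀ = 𝟙 _
  rw [← hφ₁, ← Qf.map_id]
  refine hinj _ _ _ ?_
  rw [← cancel_epi (c.hom.app (g.obj I))]
  refine (symm_cmp a A c I _).symm.trans (Eq.trans ?_ (symm_cmp a A c I _))
  rw [hφ₁, Qf.map_id, Category.id_comp]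
  change (A.homEquiv _ _).symm ((c₀ ≫ e.inv ≫ Qf.map φ₀) ≫ c₀) = _
  simp only [Category.assoc, h0, e.inv_hom_id]
  erw [Category.comp_id]

end Generic

/-- The computation of `- ⊗^L K`, in the form used by the internal hom. -/
noncomputable def flatCnt' (K : Cx X) [DCoh.HasLTensorCx K] (hK : DCoh.IsKFlat K) :
    DerivedCategory.Q ⋙ DCoh.LTensorCx K ≅ Gen.tR (Tb X) K ⋙ DerivedCategory.Q :=
  TensorAssocLib.flatCnt K hK

/-- The comparison of the internal hom of complexes with the derived one is invertible. -/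
theorem exists_cmp {K : Cx X} [DCoh.HasLTensorCx K] [DCoh.HasRSheafHom K]
    (hK : DCoh.IsKFlat K) (I : Cx X) [I.IsKInjective] :
    ∃ c₀ : DerivedCategory.Q.obj (iG K I) ⟶ (DCoh.RSheafHom K).obj (DerivedCategory.Q.obj I),
      IsIso c₀ ∧ ∀ (P : Cx X) (φ : P ⟶ iG K I),
        ((DCoh.RSheafHomAdj K).homEquiv _ _).symm (DerivedCategory.Q.map φ ≫ c₀) =
          (flatCnt' K hK).hom.app P ≫ DerivedCategory.Q.map (Gen.adjunct φ) := by
  haveI := isKInjective_iG hK I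
  refine ⟨cmpGen (Gen.gAdj (Tb X) K) (DCoh.RSheafHomAdj K) (flatCnt' K hK) I, ?_,
    fun P φ => symm_cmp (Gen.gAdj (Tb X) K) (DCoh.RSheafHomAdj K) (flatCnt' K hK) I φ⟩
  refine isIso_cmp (Gen.gAdj (Tb X) K) (DCoh.RSheafHomAdj K) (flatCnt' K hK) I
    (fun P u => KInjUse.Q_map_surjective _ _ u) (fun P u => KInjUse.Q_map_surjective _ _ u) fun P φ φ' h => ?_
  have hadd : Gen.adjunct (φ - φ') = Gen.adjunct φ - Gen.adjunct φ' := by
    haveI : (Gen.tR (Tb X) K).Additive := KFlatLib.additive_bimap₁ (Tb X) K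
    simp only [Gen.adjunct, Adjunction.homEquiv_counit, Functor.map_sub, Preadditive.sub_comp]
  have h0 : DerivedCategory.Q.map (Gen.adjunct (φ - φ')) = 0 := by
    rw [hadd, Functor.map_sub, sub_eq_zero]
    exact h
  obtain ⟨H⟩ := Gen.nonempty_null_of_adjunct (φ - φ')
    (HomotopyCategory.homotopyOfEq _ 0 ((KInjUse.quotient_eq_zero_of_Q h0).trans
      ((HomotopyCategory.quotient _ _).map_zero _ _).symm))
  rw [← sub_eq_zero, ← Functor.map_sub]
  exact KInjUse.Q_map_zero_of_quotient ((HomotopyCategory.eq_of_homotopy _ 0 H).trans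
    ((HomotopyCategory.quotient _ _).map_zero _ _))

/-- `R ⋙ Q`, for the resolution functor `R`. -/
noncomputable abbrev RQ (X : Scheme.{u}) : Cx X ⥤ DCoh.D X := KFlatLib.resP X ⋙ DerivedCategory.Q

/-- Tensoring on the right, natural in the right factor. -/
noncomputable def tRMap {L L' : Cx X} (u : L ⟶ L') :
    KFlatLib.resP X ⋙ TensorAssocLib.tR L ⋙ DerivedCategory.Q ⟶
      KFlatLib.resP X ⋙ TensorAssocLib.tR L' ⋙ DerivedCategory.Q :=
  Functor.whiskerLeft (KFlatLib.resP X)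
    (Functor.whiskerRight ((DCoh.tensorCx (X := X)).flip.map u) DerivedCategory.Q)

theorem tRMap_app {L L' : Cx X} (u : L ⟶ L') (M : Cx X) : (tRMap u).app M =
    DerivedCategory.Q.map ((Gen.tL (Tb X) ((KFlatLib.resP X).obj M)).map u) := rfl

theorem isIso_tRMap {L L' : Cx X} (u : L ⟶ L') [QuasiIso u] : IsIso (tRMap u) := by
  haveI : ∀ M, IsIso ((tRMap u).app M) := fun M => by
    haveI : QuasiIso ((Gen.tL (Tb X) ((KFlatLib.resP X).obj M)).map u) :=
      quasiIso_tL_of_kFlat (KFlatLib.good_resP M).1 u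
    exact inferInstanceAs (IsIso (DerivedCategory.Q.map ((Gen.tL (Tb X) ((KFlatLib.resP X).obj M)).map u)))
  exact NatIso.isIso_of_isIso_app _

variable (K D J : Cx X) [DCoh.HasLTensorCx K] [DCoh.HasLTensorCx D] (hK : DCoh.IsKFlat K)

/-- The first half of the evaluation. -/
noncomputable def stepA :
    KFlatLib.resP X ⋙ DerivedCategory.Q ⋙ DCoh.LTensorCx D ⋙ DCoh.LTensorCx K ⟶
      KFlatLib.resP X ⋙ TensorAssocLib.tR (Gen.t2 (Tb X) D K) ⋙ DerivedCategory.Q :=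
  Functor.whiskerLeft (KFlatLib.resP X)
    (Functor.whiskerRight (TensorAssocLib.cnt D) (DCoh.LTensorCx K) ≫
      Functor.whiskerLeft (TensorAssocLib.tR D) (flatCnt' K hK).hom ≫
        Functor.whiskerRight (TensorAssocLib.tRAssoc D K).hom DerivedCategory.Q)

variable {J} in
/-- The second half of the evaluation. -/
noncomputable def stepB (q : unitCx X ⟶ J) [QuasiIso q] :
    KFlatLib.resP X ⋙ TensorAssocLib.tR J ⋙ DerivedCategory.Q ⟶ DerivedCategory.Q :=
  haveI := isIso_tRMap q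
  inv (tRMap q) ≫ Functor.whiskerLeft (KFlatLib.resP X) (Functor.whiskerRight unitNat.hom DerivedCategory.Q) ≫
    Functor.whiskerRight (KFlatLib.resψ X) DerivedCategory.Q

theorem stepA_app (M : Cx X) : (stepA K D hK).app M =
    (DCoh.LTensorCx K).map ((TensorAssocLib.cnt D).app ((KFlatLib.resP X).obj M)) ≫
      (flatCnt' K hK).hom.app _ ≫
      DerivedCategory.Q.map ((Gen.assoc (aX X) ((KFlatLib.resP X).obj M) D K).hom) :=
  rfl

variable {J} in
theorem stepB_app (q : unitCx X ⟶ J) [QuasiIso q] (M : Cx X)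
    [IsIso (DerivedCategory.Q.map ((Gen.tL (Tb X) ((KFlatLib.resP X).obj M)).map q))] :
    (stepB q).app M =
      inv (DerivedCategory.Q.map ((Gen.tL (Tb X) ((KFlatLib.resP X).obj M)).map q)) ≫
      DerivedCategory.Q.map (unitNat.hom.app ((KFlatLib.resP X).obj M)) ≫
      DerivedCategory.Q.map ((KFlatLib.resψ X).app M) := by
  haveI := isIso_tRMap q
  simp only [stepB, NatTrans.comp_app, NatIso.isIso_inv_app]
  rfl

/-- A transformation defined on resolutions descends to the derived category. -/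
theorem exists_lift_resP (G : DCoh.D X ⥤ DCoh.D X)
    (τ₀ : KFlatLib.resP X ⋙ DerivedCategory.Q ⋙ G ⟶ DerivedCategory.Q) :
    ∃ ε : G ⟶ 𝟭 _, ∀ M : Cx X,
      G.map (DerivedCategory.Q.map ((KFlatLib.resψ X).app M)) ≫ ε.app (DerivedCategory.Q.obj M) =
        τ₀.app M := by
  refine ⟨Localization.liftNatTrans DerivedCategory.Q
    (HomologicalComplex.quasiIso X.Modules (ComplexShape.up ℤ))
    (DerivedCategory.Q ⋙ G) (DerivedCategory.Q ⋙ 𝟭 _) G (𝟭 _)
    ((TensorAssocLib.resIso G).hom ≫ τ₀ ≫ (Functor.rightUnitor _).inv), fun M => ?_⟩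
  haveI := KFlatLib.quasiIso_resψ M
  simp only [Localization.liftNatTrans_app]
  change G.map _ ≫ 𝟙 _ ≫ (G.map (inv (DerivedCategory.Q.map ((KFlatLib.resψ X).app M))) ≫
    τ₀.app M ≫ 𝟙 _) ≫ 𝟙 _ = _
  rw [Category.id_comp, Category.comp_id, Category.comp_id, ← Functor.map_comp_assoc,
    IsIso.hom_inv_id, CategoryTheory.Functor.map_id, Category.id_comp]

variable {K D J}

include hK in
/-- The adjunct of the evaluation is invertible. -/
theorem isIso_adjunct_eval [DCoh.HasRSheafHom K] [J.IsKInjective]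
    (hKp : DCoh.IsPerfect (DerivedCategory.Q.obj K))
    (d : D ⟶ iG K J) [QuasiIso d] (q : unitCx X ⟶ J) [QuasiIso q]
    (ε : DCoh.LTensorCx D ⋙ DCoh.LTensorCx K ⟶ 𝟭 _) (M : Cx X)
    (hε : (DCoh.LTensorCx D ⋙ DCoh.LTensorCx K).map
        (DerivedCategory.Q.map ((KFlatLib.resψ X).app M)) ≫ ε.app (DerivedCategory.Q.obj M) =
      (stepA K D hK).app M ≫
        (tRMap (Gen.m2 (T := Tb X) d (𝟙 K) ≫ Gen.ev (Tb X) K J)).app M ≫ (stepB q).app M) :
    IsIso ((DCoh.RSheafHomAdj K).homEquiv _ _ (ε.app (DerivedCategory.Q.obj M))) := by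
  obtain ⟨I, hI, ⟨eI⟩⟩ := KInjUse.exists_iso_Q_kInjective (DerivedCategory.Q.obj M)
  haveI := hI
  haveI : QuasiIso ((KFlatLib.resψ X).app M) := KFlatLib.quasiIso_resψ M
  let P := (KFlatLib.resP X).obj M
  have hP : DCoh.IsKFlat P := (KFlatLib.good_resP M).1
  haveI : QuasiIso ((Gen.tL (Tb X) P).map q) := quasiIso_tL_of_kFlat hP q
  haveI hc : IsIso ((TensorAssocLib.cnt D).app P) := TensorAssocLib.isIso_cnt_of_kFlat D _ hP
  let A := DCoh.RSheafHomAdj K
  rw [stepA_app, stepB_app, tRMap_app, Functor.map_comp, Functor.map_comp] at hε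
  let u := inv (DerivedCategory.Q.map ((Gen.tL (Tb X) P).map q)) ≫
      DerivedCategory.Q.map (unitNat.hom.app P) ≫
      DerivedCategory.Q.map ((KFlatLib.resψ X).app M) ≫ eI.hom
  obtain ⟨f₀, hf₀⟩ := KInjUse.Q_map_surjective (Gen.t2 (Tb X) P J) I u
  haveI : QuasiIso f₀ := (DerivedCategory.isIso_Q_map_iff_quasiIso _ f₀).1 (by
    rw [hf₀]
    exact inferInstanceAs (IsIso (inv (DerivedCategory.Q.map ((Gen.tL (Tb X) P).map q)) ≫
      DerivedCategory.Q.map (unitNat.app P).hom ≫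
      DerivedCategory.Q.map ((KFlatLib.resψ X).app M) ≫ eI.hom)))
  haveI := quasiIso_eval₁ hP f₀ hKp
  haveI : QuasiIso ((Gen.tL (Tb X) P).map d) := quasiIso_tL_of_kFlat hP d
  let φ : Gen.t2 (Tb X) P D ⟶ iG K I := (Gen.tL (Tb X) P).map d ≫ Gen.eval₁ (aX X) f₀ K
  haveI : QuasiIso φ := quasiIso_comp _ _
  let ev' : Gen.t2 (Tb X) D K ⟶ J := Gen.m2 (T := Tb X) d (𝟙 K) ≫ Gen.ev (Tb X) K J
  have hφ : Gen.adjunct φ = (Gen.assoc (aX X) P D K).hom ≫ (Gen.tL (Tb X) P).map ev' ≫ f₀ := by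
    have h := Gen.assoc_natural (Tb X) (aX X) (𝟙 P) d (𝟙 K)
    simp only [φ, Gen.eval₁, Gen.adjunct_comp]
    simp only [Gen.adjunct, Equiv.symm_apply_apply]
    refine ((Category.assoc _ _ _).symm.trans (congrArg (· ≫ _) h)).trans ((Category.assoc _ _ _).trans ?_)
    refine congrArg (_ ≫ ·) ?_
    rw [← Category.assoc]
    exact congrArg (· ≫ f₀) (Gen.tL_map_comp _ _)
  obtain ⟨c₀, hc₀, hcmp⟩ := exists_cmp hK I (K := K)
  have main : (DCoh.LTensorCx D).map (DerivedCategory.Q.map ((KFlatLib.resψ X).app M)) ≫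
      A.homEquiv _ _ (ε.app (DerivedCategory.Q.obj M)) ≫ (DCoh.RSheafHom K).map eI.hom =
        (TensorAssocLib.cnt D).app P ≫ DerivedCategory.Q.map φ ≫ c₀ := by
    apply (A.homEquiv _ _).symm.injective
    rw [A.homEquiv_naturality_left_symm, A.homEquiv_naturality_right_symm,
      A.homEquiv_naturality_left_symm]
    erw [hcmp _ φ, Equiv.symm_apply_apply]
    refine (Category.assoc _ _ _).symm.trans ((congrArg (· ≫ eI.hom) hε).trans ?_)
    rw [hφ]
    simp only [Functor.map_comp, Category.assoc, hf₀, u, ev']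
    rfl
  haveI : IsIso ((TensorAssocLib.cnt D).app P ≫ DerivedCategory.Q.map φ ≫ c₀) :=
    IsIso.comp_isIso' hc (IsIso.comp_isIso' inferInstance hc₀)
  rw [← main] at this
  haveI h2 := IsIso.of_isIso_comp_left ((DCoh.LTensorCx D).map (DerivedCategory.Q.map ((KFlatLib.resψ X).app M)))
    (A.homEquiv _ _ (ε.app (DerivedCategory.Q.obj M)) ≫ (DCoh.RSheafHom K).map eI.hom)
  exact @IsIso.of_isIso_comp_right _ _ _ _ _ (A.homEquiv _ _ (ε.app (DerivedCategory.Q.obj M)))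
    ((DCoh.RSheafHom K).map eI.hom) inferInstance h2

variable (K) in
include hK in
/-- The natural comparison, for a K-flat `K`. -/
theorem nonempty_lTensor_iso_rSheafHom_flat [DCoh.HasRSheafHom K]
    (hKp : DCoh.IsPerfect (DerivedCategory.Q.obj K)) :
    ∃ (D : Cx X) (_ : DCoh.HasLTensorCx D), Nonempty (DCoh.LTensorCx D ≅ DCoh.RSheafHom K) := by
  obtain ⟨J, hJ, ⟨eJ⟩⟩ := KInjUse.exists_iso_Q_kInjective (DerivedCategory.Q.obj (unitCx X))
  haveI := hJ
  obtain ⟨q, hq, -⟩ := exists_quasiIso eJ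
  haveI := hq
  let D := (KFlatLib.resP X).obj (iG K J)
  let d : D ⟶ iG K J := (KFlatLib.resψ X).app (iG K J)
  haveI : QuasiIso d := KFlatLib.quasiIso_resψ _
  haveI := KFlatLib.hasLTensorCx D
  obtain ⟨ε, hε⟩ := exists_lift_resP (DCoh.LTensorCx D ⋙ DCoh.LTensorCx K)
    (stepA K D hK ≫ tRMap (Gen.m2 (T := Tb X) d (𝟙 K) ≫ Gen.ev (Tb X) K J) ≫ stepB q)
  let A := DCoh.RSheafHomAdj K
  let τ : DCoh.LTensorCx D ⟶ DCoh.RSheafHom K :=
    { app := fun M => A.homEquiv _ _ (ε.app M)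
      naturality := fun M M' g => by
        rw [← A.homEquiv_naturality_left, ← A.homEquiv_naturality_right]
        exact congrArg _ (ε.naturality g) }
  haveI : ∀ N, IsIso (τ.app N) := fun N =>
    (NatTrans.isIso_app_iff_of_iso τ (DerivedCategory.Q.objObjPreimageIso N)).1
      (isIso_adjunct_eval hK hKp d q ε _ (hε _))
  haveI := NatIso.isIso_of_isIso_app τ
  exact ⟨D, inferInstance, ⟨asIso τ⟩⟩

/-- `RHom(K, -)` is tensoring with the dual, naturally, for a perfect `K`. -/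
theorem nonempty_lTensor_iso_rSheafHom (K : Cx X) [DCoh.HasLTensorCx K] [DCoh.HasRSheafHom K]
    (hKp : DCoh.IsPerfect (DerivedCategory.Q.obj K)) :
    ∃ (D : Cx X) (_ : DCoh.HasLTensorCx D), Nonempty (DCoh.LTensorCx D ≅ DCoh.RSheafHom K) := by
  let K' := (KFlatLib.resP X).obj K
  let q : K' ⟶ K := (KFlatLib.resψ X).app K
  haveI : QuasiIso q := KFlatLib.quasiIso_resψ K
  haveI := KFlatLib.hasLTensorCx K'
  obtain ⟨ω⟩ := nonempty_lTensor_congr q
  haveI : DCoh.HasRSheafHom K' :=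
    ((DCoh.RSheafHomAdj K).ofNatIsoLeft ω.symm).isLeftAdjoint
  let α : DCoh.RSheafHom K' ≅ DCoh.RSheafHom K :=
    (DCoh.RSheafHomAdj K').rightAdjointUniq ((DCoh.RSheafHomAdj K).ofNatIsoLeft ω.symm)
  obtain ⟨D, hD, ⟨e⟩⟩ := nonempty_lTensor_iso_rSheafHom_flat K' (KFlatLib.good_resP K).1
    (PerfLib.isPerfect_of_iso (asIso (DerivedCategory.Q.map q)).symm hKp)
  exact ⟨D, hD, ⟨e ≪≫ α⟩⟩

end Groth.Agent.Dual3Lib
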