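import Mathlib.RingTheory.Jacobson.Ring
import Mathlib.RingTheory.Algebraic.Integral
import Mathlib.RingTheory.Polynomial.ScaleRoots
import Mathlib.RingTheory.Localization.FractionRing
import Mathlib.RingTheory.FiniteType

/-!
# Images of closed points under finite type maps are locally closed
-/

set_option autoImplicit false
set_option linter.style.haveILetI false

universe u

namespace Groth.Agent.Dual3Lib

/-- The image of a closed point is closed in a principal open. -/
theorem exists_locClosed_generator {A B : Type u} [CommRing A] [CommRing B] (φ : B →+* A)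
    (hφ : φ.FiniteType) (m : Ideal A) [m.IsMaximal] :
    ∃ g ∉ m.comap φ, ∀ q : Ideal B, q.IsPrime → m.comap φ ≤ q → g ∉ q → q = m.comap φ := by
  classical
  let p := m.comap φ
  letI : Field (A ⧸ m) := Ideal.Quotient.field m
  let ψ : B ⧸ p →+* A ⧸ m := Ideal.quotientMap m φ le_rfl
  letI : Algebra (B ⧸ p) (A ⧸ m) := ψ.toAlgebra
  have hψinj : Function.Injective ψ := Ideal.quotientMap_injective
  haveI : Algebra.FiniteType (B ⧸ p) (A ⧸ m) := by
    refine RingHom.FiniteType.of_comp_finiteType (f := Ideal.Quotient.mk p) (g := ψ) ?_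
    have h : ψ.comp (Ideal.Quotient.mk p) = (Ideal.Quotient.mk m).comp φ := RingHom.ext fun _ => rfl
    rw [h]
    exact (RingHom.FiniteType.of_surjective _ Ideal.Quotient.mk_surjective).comp hφ
  haveI : FaithfulSMul (B ⧸ p) (A ⧸ m) := (faithfulSMul_iff_algebraMap_injective _ _).2 hψinj
  -- Zariski's lemma
  letI : Algebra (FractionRing (B ⧸ p)) (A ⧸ m) := FractionRing.liftAlgebra (B ⧸ p) (A ⧸ m)
  haveI : IsScalarTower (B ⧸ p) (FractionRing (B ⧸ p)) (A ⧸ m) := FractionRing.isScalarTower_liftAlgebra _ _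
  haveI : Algebra.FiniteType (FractionRing (B ⧸ p)) (A ⧸ m) :=
    Algebra.FiniteType.of_restrictScalars_finiteType (B ⧸ p) _ _
  haveI : Module.Finite (FractionRing (B ⧸ p)) (A ⧸ m) := finite_of_finite_type_of_isJacobsonRing _ _
  haveI : Algebra.IsAlgebraic (B ⧸ p) (A ⧸ m) := by
    rw [IsFractionRing.comap_isAlgebraic_iff (A := B ⧸ p) (K := FractionRing (B ⧸ p))]
    infer_instance
  obtain ⟨t, ht⟩ := (‹Algebra.FiniteType (B ⧸ p) (A ⧸ m)›).out
  obtain ⟨y, hy0, hy⟩ := Algebra.IsAlgebraic.exists_integral_multiples (B ⧸ p) t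
  obtain ⟨g, rfl⟩ := Ideal.Quotient.mk_surjective y
  refine ⟨g, fun h => hy0 (Ideal.Quotient.eq_zero_iff_mem.2 h), fun q hq hpq hgq => ?_⟩
  by_contra hne
  obtain ⟨b, hbq, hbp⟩ := SetLike.exists_of_lt (lt_of_le_of_ne hpq (Ne.symm hne))
  let G := Ideal.Quotient.mk p g
  let bb := Ideal.Quotient.mk p b
  have hb0 : ψ bb ≠ 0 := fun h => hbp (Ideal.Quotient.eq_zero_iff_mem.1 (hψinj (h.trans (map_zero ψ).symm)))
  have key : ∀ z : A ⧸ m, ∃ N : ℕ, IsIntegral (B ⧸ p) (G ^ N • z) := fun z => by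
    have hz : z ∈ Algebra.adjoin (B ⧸ p) (t : Set (A ⧸ m)) := ht ▸ Algebra.mem_top
    induction hz using Algebra.adjoin_induction with
    | mem x hx => exact ⟨1, by rw [pow_one]; exact hy x hx⟩
    | algebraMap r => exact ⟨0, by rw [pow_zero, one_smul]; exact isIntegral_algebraMap⟩
    | add x x' _ _ hx hx' =>
      obtain ⟨N, hN⟩ := hx
      obtain ⟨N', hN'⟩ := hx'
      refine ⟨N + N', ?_⟩
      rw [smul_add]
      have e1 : G ^ (N + N') • x = G ^ N' • G ^ N • x := by rw [pow_add, mul_comm, mul_smul]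
      have e2 : G ^ (N + N') • x' = G ^ N • G ^ N' • x' := by rw [pow_add, mul_smul]
      rw [e1, e2]
      exact (hN.smul _).add (hN'.smul _)
    | mul x x' _ _ hx hx' =>
      obtain ⟨N, hN⟩ := hx
      obtain ⟨N', hN'⟩ := hx'
      refine ⟨N + N', ?_⟩
      rw [pow_add, ← smul_mul_smul_comm]
      exact hN.mul hN'
  obtain ⟨N, hN⟩ := key (ψ bb)⁻¹
  obtain ⟨P, hP, hP0⟩ := hN
  rw [← Polynomial.aeval_def] at hP0
  have hw : algebraMap (B ⧸ p) (A ⧸ m) bb * (G ^ N • (ψ bb)⁻¹) = algebraMap (B ⧸ p) (A ⧸ m) (G ^ N) := by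
    rw [Algebra.smul_def, mul_left_comm]
    show _ * (ψ bb * (ψ bb)⁻¹) = _
    rw [mul_inv_cancel₀ hb0, mul_one]
  have h1 := Polynomial.scaleRoots_aeval_eq_zero (r := bb) hP0
  rw [hw, Polynomial.aeval_algebraMap_apply] at h1
  have h2 : (P.scaleRoots bb).eval (G ^ N) = 0 := by
    refine hψinj ?_
    rw [map_zero]
    rw [Polynomial.coe_aeval_eq_eval] at h1
    exact h1
  let π : B ⧸ p →+* B ⧸ q := Ideal.Quotient.factor hpq
  haveI := hq
  have h3 : ((P.scaleRoots bb).map π).eval (π (G ^ N)) = 0 := by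
    rw [Polynomial.eval_map, Polynomial.eval₂_hom, h2, map_zero]
  rw [Polynomial.map_scaleRoots _ _ _ (by rw [hP.leadingCoeff, map_one]; exact one_ne_zero),
    show π bb = 0 from Ideal.Quotient.eq_zero_iff_mem.2 hbq, Polynomial.scaleRoots_zero,
    (hP.map π).leadingCoeff, one_smul, Polynomial.eval_pow, Polynomial.eval_X, map_pow] at h3
  exact hgq (Ideal.Quotient.eq_zero_iff_mem.1 (pow_eq_zero_iff'.1 (pow_eq_zero_iff'.1 h3).1).1)

end Groth.Agent.Dual3Lib
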