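import Groth.Agent.DualCxLib.LocApps
import Groth.Agent.DualCxLib.LocGlobal
import Groth.Agent.FinDualLib.Finite
import Mathlib.RingTheory.Artinian.Module

/-!
# Pointwise duality at a closed point, from the base
-/

set_option autoImplicit false
set_option linter.style.haveILetI false
set_option backward.isDefEq.respectTransparency false
set_option backward.isDefEq.respectTransparency.types false
set_option maxHeartbeats 1000000

universe v u

open CategoryTheory CategoryTheory.Limits HomologicalComplex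
open Groth.Agent DTen
open DTenLib.Point (hH sg)
open Groth.Agent.DualCxLib

attribute [local instance] HasDerivedCategory.standard

noncomputable section

namespace Groth.Agent.Dual3Lib

variable {A B : Type u} [CommRing A] [CommRing B]

/-- `Ext` out of a finite power. -/
theorem nonempty_hom_pi (r : ℕ) (M : ModuleCat.{u} B) (L : Dual.D B) :
    Nonempty ((sg (ModuleCat.of B (Fin r → M)) 0 ⟶ L) ≃ₗ[B] (Fin r → (sg M 0 ⟶ L))) := by
  classical
  let F : ModuleCat.{u} B ⥤ Dual.D B := DerivedCategory.singleFunctor (ModuleCat.{u} B) 0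
  let P : ModuleCat.{u} B := ModuleCat.of B (Fin r → M)
  let ι' : Fin r → (M ⟶ P) := fun i =>
    ModuleCat.ofHom (X := (M : Type u)) (Y := Fin r → M) (LinearMap.single B (fun _ => (M : Type u)) i)
  let π' : Fin r → (P ⟶ M) := fun i =>
    ModuleCat.ofHom (X := Fin r → M) (Y := (M : Type u)) (LinearMap.proj i)
  have hsum : ∑ i, π' i ≫ ι' i = 𝟙 P := by
    refine ModuleCat.hom_ext (LinearMap.ext fun x => ?_)
    simp only [ModuleCat.hom_sum, LinearMap.coe_sum, Finset.sum_apply]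
    exact Finset.univ_sum_single x
  have hij : ∀ i j, ι' i ≫ π' j = if i = j then 𝟙 M else 0 := fun i j => by
    refine ModuleCat.hom_ext (LinearMap.ext fun x => ?_)
    show (LinearMap.single B (fun _ => (M : Type u)) i x : Fin r → M) j = _
    by_cases h : i = j
    · subst h; simp
    · simp [h, Pi.single_eq_of_ne (Ne.symm h)]
  refine ⟨LinearEquiv.ofBijective
    ({ toFun := fun v i => F.map (ι' i) ≫ v
       map_add' := fun v w => funext fun i => Preadditive.comp_add _ _ _ _ _ _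
       map_smul' := fun c v => funext fun i => Linear.comp_smul _ _ _ _ _ _ } :
      (sg P 0 ⟶ L) →ₗ[B] (Fin r → (sg M 0 ⟶ L))) ⟨fun v w h => ?_, fun g => ?_⟩⟩
  · have h1 : ∀ v : F.obj P ⟶ L, v = ∑ i, F.map (π' i) ≫ F.map (ι' i) ≫ v := fun v => by
      simp_rw [← Category.assoc, ← F.map_comp, ← Preadditive.sum_comp, ← F.map_sum, hsum, F.map_id]
      exact (Category.id_comp v).symm
    rw [h1 v, h1 w]
    exact Finset.sum_congr rfl fun i _ => congrArg (F.map (π' i) ≫ ·) (congrFun h i)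
  · refine ⟨∑ j, F.map (π' j) ≫ g j, funext fun i => ?_⟩
    show F.map (ι' i) ≫ (∑ j, F.map (π' j) ≫ g j) = g i
    rw [Preadditive.comp_sum, Finset.sum_eq_single i (fun j _ hj => ?_) (fun h => absurd (Finset.mem_univ i) h)]
    · rw [← Category.assoc, ← F.map_comp, hij, if_pos rfl, F.map_id]
      exact Category.id_comp _
    · rw [← Category.assoc, ← F.map_comp, hij, if_neg (Ne.symm hj), F.map_zero, zero_comp]

theorem smul_hom_sg (a : A) (M : ModuleCat.{u} A) {L : Dual.D A} (v : sg M 0 ⟶ L) (h : ∀ x : M, a • x = 0) :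
    a • v = 0 := by
  haveI : (DerivedCategory.singleFunctor (ModuleCat.{u} A) 0).Linear A := inferInstance
  have h0 : a • 𝟙 M = 0 := ModuleCat.hom_ext (LinearMap.ext fun x => h x)
  have h1 : a • 𝟙 (sg M 0) = 0 := by
    show a • 𝟙 ((DerivedCategory.singleFunctor (ModuleCat.{u} A) 0).obj M) = 0
    rw [← CategoryTheory.Functor.map_id, ← Functor.map_smul, h0, Functor.map_zero]
  calc a • v = (a • 𝟙 (sg M 0)) ≫ v := by rw [Linear.smul_comp, Category.id_comp]
    _ = 0 := by rw [h1, zero_comp]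

/-- `Ext` of a closed point upstairs, when it is that of a closed point downstairs. -/
theorem exists_ext_point [IsNoetherianRing A] [IsNoetherianRing B] (φ : B →+* A) (m : Ideal A) [m.IsMaximal]
    [(m.comap φ).IsMaximal] (hfin : ((Ideal.Quotient.mk m).comp φ).Finite)
    {ωA : Dual.D A} {ωB : Dual.D B} (hB : Dual.IsDualizing B ωB) {a b : ℤ}
    (hab : ∀ i : ℤ, (i < a ∨ b < i) → Subsingleton (Dual.inD B (B ⧸ m.comap φ) ⟶ ωB⟦i⟧))
    (hΦ : ∀ n : ℤ, ∃ Φ : (sg (ModuleCat.of A (A ⧸ m)) 0 ⟶ ωA⟦n⟧) ≃+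
        ((DRing.restrictD φ).obj (sg (ModuleCat.of A (A ⧸ m)) 0) ⟶ ωB⟦n⟧),
      ∀ (r : B) (v : sg (ModuleCat.of A (A ⧸ m)) 0 ⟶ ωA⟦n⟧), Φ (φ r • v) = r • Φ v) :
    ∃ d : ℤ, a ≤ d ∧ d ≤ b ∧ (∀ i : ℤ, i ≠ d → Subsingleton (Dual.inD A (A ⧸ m) ⟶ ωA⟦i⟧)) ∧
      Nonempty ((Dual.inD A (A ⧸ m) ⟶ ωA⟦d⟧) ≃ₗ[A] (A ⧸ m)) := by
  classical
  obtain ⟨d, hvan, ⟨line⟩⟩ := ext_residueField_single_degree ωB hB (m.comap φ)
  let p := m.comap φ
  let ψ : B →+* A ⧸ m := (Ideal.Quotient.mk m).comp φ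
  letI : Algebra B A := φ.toAlgebra
  letI : Module B (A ⧸ m) := Module.compHom _ φ
  haveI : IsScalarTower B A (A ⧸ m) := IsScalarTower.of_algebraMap_smul fun _ _ => rfl
  haveI : Module.Finite B (A ⧸ m) := by
    letI : Algebra B (A ⧸ m) := ψ.toAlgebra
    haveI : Module.Finite B (A ⧸ m) := hfin
    exact this
  -- `A/m` is free over `B/p`
  have htor : Module.IsTorsionBySet B (A ⧸ m) (p : Set B) := fun x r => by
    obtain ⟨y, hy⟩ := Ideal.Quotient.mk_surjective x
    rw [← hy]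
    show Ideal.Quotient.mk m (φ (r : B) * y) = 0
    exact Ideal.Quotient.eq_zero_iff_mem.2 (m.mul_mem_right _ r.2)
  letI : Module (B ⧸ p) (A ⧸ m) := htor.module
  letI : Field (B ⧸ p) := Ideal.Quotient.field p
  haveI : IsScalarTower B (B ⧸ p) (A ⧸ m) :=
    IsScalarTower.of_algebraMap_smul fun r x => Module.IsTorsionBySet.mk_smul htor r x
  haveI : Module.Finite (B ⧸ p) (A ⧸ m) := Module.Finite.of_restrictScalars_finite B _ _
  let bs := Module.finBasis (B ⧸ p) (A ⧸ m)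
  let r := Module.finrank (B ⧸ p) (A ⧸ m)
  let eN : (A ⧸ m) ≃ₗ[B] (Fin r → B ⧸ p) := bs.equivFun.restrictScalars B
  have hr : 0 < r := Module.finrank_pos
  let M₀ : ModuleCat.{u} A := ModuleCat.of A (A ⧸ m)
  let i₀ : (DRing.restrictD φ).obj (sg M₀ 0) ≅ sg (ModuleCat.of B (Fin r → B ⧸ p)) 0 :=
    FinDualLib.resSg (A := B) (S := A) (A ⧸ m) ≪≫
      (DerivedCategory.singleFunctor (ModuleCat.{u} B) 0).mapIso eN.toModuleIso
  have key : ∀ n : ℤ, ∃ T : (sg M₀ 0 ⟶ ωA⟦n⟧) ≃+ (Fin r → (Dual.inD B (B ⧸ p) ⟶ ωB⟦n⟧)),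
      ∀ (c : B) (v : sg M₀ 0 ⟶ ωA⟦n⟧), T (φ c • v) = c • T v := fun n => by
    obtain ⟨Φ, hΦn⟩ := hΦ n
    obtain ⟨P⟩ := nonempty_hom_pi r (ModuleCat.of B (B ⧸ p)) (ωB⟦n⟧)
    let L := (Linear.homCongr B i₀ (Iso.refl (ωB⟦n⟧))).trans P
    exact ⟨Φ.trans L.toAddEquiv, fun c v =>
      (congrArg L (hΦn c v)).trans (L.map_smul c (Φ v))⟩
  have hd : a ≤ d ∧ d ≤ b := by
    by_contra hcon
    haveI := hab d (by omega)
    haveI : Nontrivial (B ⧸ p) := inferInstance
    exact not_subsingleton (B ⧸ p) line.symm.toEquiv.subsingleton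
  refine ⟨d, hd.1, hd.2, fun i hi => ?_, ?_⟩
  · obtain ⟨T, -⟩ := key i
    haveI := hvan i hi
    exact T.toEquiv.subsingleton
  obtain ⟨T, hT⟩ := key d
  let V := sg M₀ 0 ⟶ ωA⟦d⟧
  have hker : ∀ (x : A), x ∈ m → ∀ v : V, x • v = 0 := fun x hx v => smul_hom_sg x M₀ v fun y => by
    obtain ⟨z, hz⟩ := Ideal.Quotient.mk_surjective (show A ⧸ m from y)
    show x • (y : A ⧸ m) = 0
    rw [← hz]
    exact Ideal.Quotient.eq_zero_iff_mem.2 (m.mul_mem_right _ hx)
  -- transport to `A/m` over `B`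
  let TN : V ≃+ (A ⧸ m) :=
    T.trans (((LinearEquiv.piCongrRight fun _ : Fin r => line).trans eN.symm).toAddEquiv)
  have hTN : ∀ (c : B) (v : V), TN (φ c • v) = c • TN v := fun c v =>
    (congrArg ((LinearEquiv.piCongrRight fun _ : Fin r => line).trans eN.symm) (hT c v)).trans
      (((LinearEquiv.piCongrRight fun _ : Fin r => line).trans eN.symm).map_smul c (T v))
  let v₀ : V := TN.symm (Ideal.Quotient.mk m 1)
  let μ : (A ⧸ m) →ₗ[A] V := Submodule.liftQ m (LinearMap.toSpanSingleton A V v₀) fun x hx => hker x hx v₀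
  have hμ : ∀ x : A, μ (Ideal.Quotient.mk m x) = x • v₀ := fun x => rfl
  let F : (A ⧸ m) →ₗ[B] (A ⧸ m) :=
    { toFun := fun x => TN (μ x)
      map_add' := fun x y => by rw [map_add, map_add]
      map_smul' := fun c x => by
        show TN (μ (φ c • x)) = c • TN (μ x)
        rw [μ.map_smul, hTN] }
  have hinj : Function.Injective F := fun x y hxy => by
    have h : μ (x - y) = 0 := by rw [map_sub, TN.injective hxy, sub_self]
    by_contra hne
    obtain ⟨z, hz⟩ := Ideal.Quotient.mk_surjective (x - y)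
    have hzm : z ∉ m := fun h' => hne (sub_eq_zero.1 (hz ▸ Ideal.Quotient.eq_zero_iff_mem.2 h'))
    obtain ⟨w, i, hi, hwi⟩ := Ideal.IsMaximal.exists_inv (inferInstance : m.IsMaximal) hzm
    rw [← hz, hμ] at h
    have h1 : v₀ = 0 := by
      calc v₀ = (w * z + i) • v₀ := by rw [hwi, one_smul]
        _ = 0 := by rw [add_smul, mul_smul, h, smul_zero, hker i hi, add_zero]
    have h2 : Ideal.Quotient.mk m 1 = 0 := TN.symm.injective (h1.trans (map_zero TN.symm).symm)
    exact m.ne_top_iff_one.1 Ideal.IsPrime.ne_top' (Ideal.Quotient.eq_zero_iff_mem.1 h2)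
  haveI : IsArtinian (B ⧸ p) (A ⧸ m) := inferInstance
  haveI : IsSimpleModule B (B ⧸ p) := isSimpleModule_iff_quot_maximal.mpr ⟨p, inferInstance, ⟨LinearEquiv.refl _ _⟩⟩
  haveI : IsArtinian B (A ⧸ m) :=
    (LinearEquiv.isArtinian_iff (bs.equivFun.restrictScalars B)).2 inferInstance
  have hsurj : Function.Surjective μ := fun v => by
    obtain ⟨x, hx⟩ := IsArtinian.surjective_of_injective_endomorphism F hinj (TN v)
    exact ⟨x, TN.injective hx⟩
  exact ⟨(LinearEquiv.ofBijective μ ⟨fun x y h => hinj (congrArg TN h), hsurj⟩).symm⟩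

section Loc

variable [IsNoetherianRing A] [Algebra A B] (M : Submonoid A) [IsLocalization M B]

include M in
/-- `Ext` out of a closed point is unchanged by a localization not losing the point. -/
theorem exists_hom_loc_equiv (J : Ideal B) [J.IsMaximal] (m : Ideal A) [m.IsMaximal]
    (hm : J.comap (algebraMap A B) = m) (hMm : ∀ s ∈ M, s ∉ m) {ω : Dual.D A} {c : ℤ} (hge : ω.IsGE c)
    {Z : Dual.D B} {η : ω ⟶ (DRing.restrictD (algebraMap A B)).obj Z}
    (hL : IsLocH (algebraMap A B) M η) (i : ℤ) :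
    ∃ T : (Dual.inD A (A ⧸ m) ⟶ ω⟦i⟧) ≃+ (Dual.inD B (B ⧸ J) ⟶ Z⟦i⟧),
      ∀ (x : A) v, T (x • v) = algebraMap A B x • T v := by
  classical
  obtain ⟨h⟩ := nonempty_extend_quot (A := A) (S := B) M J
  rw [hm] at h
  obtain ⟨ηN, hN, -⟩ := exists_loc_single (S := B) M (ModuleCat.of A (A ⧸ m)) h
  have hX : ∀ l : ℤ, (l < 0 ∨ (0 : ℤ) + ((1 : ℕ) : ℤ) ≤ l) →
      IsZero ((hH A l).obj (sg (ModuleCat.of A (A ⧸ m)) 0)) :=
    fun l hl => DTenLib.Point.isZero_sg (show l ≠ 0 by omega)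
  have hXf : ∀ l : ℤ, Module.Finite A ((hH A l).obj (sg (ModuleCat.of A (A ⧸ m)) 0)) := fun l => by
    rcases eq_or_ne l 0 with rfl | hl
    · exact Module.Finite.equiv (DTenLib.Point.sgH (ModuleCat.of A (A ⧸ m)) 0).toLinearEquiv.symm
    · haveI := ModuleCat.subsingleton_of_isZero
        (DTenLib.Point.isZero_sg (N := ModuleCat.of A (A ⧸ m)) hl)
      infer_instance
  haveI := DerivedCategory.TStructure.t.isGE_shift ω c i (c - i) (by omega)
  let ηd := η⟦i⟧' ≫ ((DRing.restrictD (algebraMap A B)).commShiftIso i).inv.app Z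
  have hL' := hom_loc (isLocH_shift hL i) (a := c - i) inferInstance hX hXf
  -- `M` acts invertibly
  have hinv : ∀ s ∈ M, ∃ t : A, t * s - 1 ∈ m ∧
      ∀ v : Dual.inD A (A ⧸ m) ⟶ ω⟦i⟧, t • s • v = v := fun s hs => by
    obtain ⟨w, y, hy, hwy⟩ := Ideal.IsMaximal.exists_inv (inferInstance : m.IsMaximal) (hMm s hs)
    have h1 : w * s - 1 = -y := by linear_combination hwy
    refine ⟨w, h1 ▸ m.neg_mem hy, fun v => ?_⟩
    have h0 := smul_hom_sg (w * s - 1) (ModuleCat.of A (A ⧸ m)) v fun z => by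
      obtain ⟨z', hz⟩ := Ideal.Quotient.mk_surjective (show A ⧸ m from z)
      show (w * s - 1) • (z : A ⧸ m) = 0
      rw [← hz]
      exact Ideal.Quotient.eq_zero_iff_mem.2 (m.mul_mem_right _ (h1 ▸ m.neg_mem hy))
    rw [sub_smul, one_smul, sub_eq_zero, mul_smul] at h0
    exact h0
  choose Ψ hΨ using fun v : Dual.inD A (A ⧸ m) ⟶ ω⟦i⟧ => (hN _).2 (v ≫ ηd)
  have hadd : ∀ v w, Ψ (v + w) = Ψ v + Ψ w := fun v w => (hN _).1 (by
    show ηN ≫ _ = ηN ≫ _
    rw [Functor.map_add, Preadditive.comp_add]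
    exact (hΨ _).trans ((Preadditive.add_comp _ _ _ _ _ _).trans (congrArg₂ (· + ·) (hΨ v).symm (hΨ w).symm)))
  have hsmul : ∀ (x : A) v, Ψ (x • v) = algebraMap A B x • Ψ v := fun x v => (hN _).1 (by
    show ηN ≫ _ = ηN ≫ _
    rw [restrictD_smul, Linear.comp_smul]
    exact (hΨ _).trans ((Linear.smul_comp _ _ _ _ _ _).trans (congrArg (x • ·) (hΨ v).symm)))
  have hinj : ∀ v, Ψ v = 0 → v = 0 := fun v hv => by
    obtain ⟨s, hs, hsv⟩ := hL'.1 v ((hΨ v).symm.trans (by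
      rw [hv]
      show ηN ≫ _ = 0
      rw [Functor.map_zero, comp_zero]))
    obtain ⟨t, -, ht⟩ := hinv s hs
    rw [← ht v, hsv, smul_zero]
  have hsurj : ∀ g, ∃ v, Ψ v = g := fun g => by
    obtain ⟨s, hs, v, hv⟩ := hL'.2 (ηN ≫ (DRing.restrictD (algebraMap A B)).map g)
    obtain ⟨t, hts, -⟩ := hinv s hs
    refine ⟨t • v, ?_⟩
    have h1 : Ψ v = algebraMap A B s • g := (hN _).1 (by
      show ηN ≫ _ = ηN ≫ _
      rw [restrictD_smul, Linear.comp_smul]
      exact (hΨ v).trans hv.symm)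
    rw [hsmul, h1, ← mul_smul, ← map_mul]
    have h0 := smul_hom_sg (algebraMap A B (t * s) - 1) (ModuleCat.of B (B ⧸ J)) g fun y => by
      obtain ⟨z, hz⟩ := Ideal.Quotient.mk_surjective (show B ⧸ J from y)
      show (algebraMap A B (t * s) - 1) • (y : B ⧸ J) = 0
      rw [← hz]
      refine Ideal.Quotient.eq_zero_iff_mem.2 (J.mul_mem_right _ ?_)
      rw [← hm, Ideal.mem_comap, map_sub, map_one] at hts
      exact hts
    rw [sub_smul, one_smul, sub_eq_zero] at h0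
    exact h0
  exact ⟨AddEquiv.ofBijective (AddMonoidHom.mk' Ψ hadd)
    ⟨(injective_iff_map_eq_zero _).2 hinj, hsurj⟩, hsmul⟩

include M in
/-- Lines of `Ext` transfer between a ring and its localization. -/
theorem transfer_point (J : Ideal B) [J.IsMaximal] (m : Ideal A) [m.IsMaximal]
    (hm : J.comap (algebraMap A B) = m) (hMm : ∀ s ∈ M, s ∉ m) {ω : Dual.D A} {c : ℤ} (hge : ω.IsGE c)
    {Z : Dual.D B} {η : ω ⟶ (DRing.restrictD (algebraMap A B)).obj Z}
    (hL : IsLocH (algebraMap A B) M η) (d : ℤ) :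
    ((∀ i : ℤ, i ≠ d → Subsingleton (Dual.inD A (A ⧸ m) ⟶ ω⟦i⟧)) ∧
        Nonempty ((Dual.inD A (A ⧸ m) ⟶ ω⟦d⟧) ≃ₗ[A] (A ⧸ m))) ↔
      ((∀ i : ℤ, i ≠ d → Subsingleton (Dual.inD B (B ⧸ J) ⟶ Z⟦i⟧)) ∧
        Nonempty ((Dual.inD B (B ⧸ J) ⟶ Z⟦d⟧) ≃ₗ[B] (B ⧸ J))) := by
  let q : (A ⧸ m) →+* (B ⧸ J) := Ideal.quotientMap J (algebraMap A B) hm.ge
  have hq : ∀ x, q (Ideal.Quotient.mk m x) = Ideal.Quotient.mk J (algebraMap A B x) := fun _ => rfl
  have hqb : Function.Bijective q := by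
    refine ⟨(injective_iff_map_eq_zero q).2 fun z hz => ?_, fun z => ?_⟩
    · obtain ⟨x, rfl⟩ := Ideal.Quotient.mk_surjective z
      rw [hq] at hz
      refine Ideal.Quotient.eq_zero_iff_mem.2 ?_
      rw [← hm, Ideal.mem_comap]
      exact Ideal.Quotient.eq_zero_iff_mem.1 hz
    · obtain ⟨b, rfl⟩ := Ideal.Quotient.mk_surjective z
      obtain ⟨⟨a, s⟩, hs⟩ := IsLocalization.surj M b
      obtain ⟨w, y, hy, hwy⟩ := Ideal.IsMaximal.exists_inv (inferInstance : m.IsMaximal) (hMm s s.2)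
      refine ⟨Ideal.Quotient.mk m (a * w), (hq _).trans (Ideal.Quotient.eq.2 ?_)⟩
      rw [map_mul, ← hs]
      have : b * algebraMap A B s * algebraMap A B w - b = -(b * algebraMap A B y) := by
        have h1 := congrArg (algebraMap A B) hwy
        rw [map_add, map_mul, map_one] at h1
        linear_combination b * h1
      rw [this]
      refine J.neg_mem (J.mul_mem_left _ ?_)
      rw [← hm] at hy
      exact hy
  let qe : (A ⧸ m) ≃+* (B ⧸ J) := RingEquiv.ofBijective q hqb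
  constructor
  · rintro ⟨hv, ⟨line⟩⟩
    refine ⟨fun i hi => ?_, ?_⟩
    · obtain ⟨T, -⟩ := exists_hom_loc_equiv M J m hm hMm hge hL i
      haveI := hv i hi
      exact T.symm.toEquiv.subsingleton
    obtain ⟨T, hT⟩ := exists_hom_loc_equiv M J m hm hMm hge hL d
    let L : (Dual.inD B (B ⧸ J) ⟶ Z⟦d⟧) ≃+ (B ⧸ J) :=
      T.symm.trans (line.toAddEquiv.trans qe.toAddEquiv)
    refine ⟨{ L with map_smul' := fun b g => ?_ }⟩
    obtain ⟨x, hx⟩ := qe.surjective (Ideal.Quotient.mk J b)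
    obtain ⟨x, rfl⟩ := Ideal.Quotient.mk_surjective x
    obtain ⟨v, rfl⟩ := T.surjective g
    have hb : b - algebraMap A B x ∈ J := by
      rw [← Ideal.Quotient.eq]
      exact hx.symm
    have h0 := smul_hom_sg (b - algebraMap A B x) (ModuleCat.of B (B ⧸ J)) (T v) fun y => by
      obtain ⟨z, hz⟩ := Ideal.Quotient.mk_surjective (show B ⧸ J from y)
      show (b - algebraMap A B x) • (y : B ⧸ J) = 0
      rw [← hz]
      exact Ideal.Quotient.eq_zero_iff_mem.2 (J.mul_mem_right _ hb)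
    rw [sub_smul, sub_eq_zero] at h0
    show qe (line (T.symm (b • T v))) = b • qe (line (T.symm (T v)))
    rw [h0, ← hT, T.symm_apply_apply, T.symm_apply_apply, line.map_smul]
    show qe (Ideal.Quotient.mk m x * line v) = Ideal.Quotient.mk J b * qe (line v)
    rw [map_mul, hx]
  · rintro ⟨hv, ⟨line⟩⟩
    refine ⟨fun i hi => ?_, ?_⟩
    · obtain ⟨T, -⟩ := exists_hom_loc_equiv M J m hm hMm hge hL i
      haveI := hv i hi
      exact T.toEquiv.subsingleton
    obtain ⟨T, hT⟩ := exists_hom_loc_equiv M J m hm hMm hge hL d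
    let L : (Dual.inD A (A ⧸ m) ⟶ ω⟦d⟧) ≃+ (A ⧸ m) :=
      T.trans (line.toAddEquiv.trans qe.symm.toAddEquiv)
    refine ⟨{ L with map_smul' := fun x v => ?_ }⟩
    show qe.symm (line (T (x • v))) = x • qe.symm (line (T v))
    rw [hT, line.map_smul]
    show qe.symm (Ideal.Quotient.mk J (algebraMap A B x) * line (T v)) =
      Ideal.Quotient.mk m x * qe.symm (line (T v))
    rw [map_mul, show Ideal.Quotient.mk J (algebraMap A B x) = qe (Ideal.Quotient.mk m x) from (hq x).symm,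
      RingEquiv.symm_apply_apply]

omit [IsNoetherianRing A] [IsLocalization M B] in
theorem isGE_loc {ω : Dual.D A} {c : ℤ} (hge : ω.IsGE c)
    {Z : Dual.D B} {η : ω ⟶ (DRing.restrictD (algebraMap A B)).obj Z}
    (hL : IsLocH (algebraMap A B) M η) : Z.IsGE c := (DerivedCategory.isGE_iff Z c).2 fun i hi => by
  obtain ⟨e⟩ := DRingLib.exists_homology_iso_mapDerived (ModuleCat.restrictScalars.{u} (algebraMap A B)) Z i
  suffices hz : Subsingleton ((hH A i).obj ((DRing.restrictD (algebraMap A B)).obj Z)) from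
    @ModuleCat.isZero_of_subsingleton _ _ _ e.toLinearEquiv.symm.toEquiv.subsingleton
  haveI : IsLocalizedModule M ((hH A i).map η).hom := hL i
  haveI : Subsingleton ((hH A i).obj ω) :=
    ModuleCat.subsingleton_of_isZero (DerivedCategory.isZero_of_isGE ω c i hi)
  refine subsingleton_of_forall_eq 0 fun x => ?_
  obtain ⟨⟨y, s⟩, hs⟩ := IsLocalizedModule.surj M ((hH A i).map η).hom x
  exact IsLocalizedModule.smul_injective ((hH A i).map η).hom s
    (show s • x = s • (0 : (hH A i).obj ((DRing.restrictD (algebraMap A B)).obj Z)) by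
      rw [hs, Subsingleton.elim y 0, map_zero, smul_zero])

end Loc

/-- Pointwise duality at a maximal ideal from `Ext` of the residue field. -/
theorem exists_pointwise_atPrime [IsNoetherianRing A] (m : PrimeSpectrum A) [m.asIdeal.IsMaximal]
    {ω : Dual.D A} (hfin : ∀ i, Module.Finite A (Dual.HD A ω i)) {c : ℤ} (hge : ω.IsGE c) {d : ℤ}
    (hvan : ∀ i : ℤ, i ≠ d → Subsingleton (Dual.inD A (A ⧸ m.asIdeal) ⟶ ω⟦i⟧))
    (hline : Nonempty ((Dual.inD A (A ⧸ m.asIdeal) ⟶ ω⟦d⟧) ≃ₗ[A] (A ⧸ m.asIdeal))) :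
    ∃ (Z : Dual.D (Localization.AtPrime m.asIdeal)) (η : ω ⟶ (DRing.restrictD (locMap m)).obj Z),
      IsUniv (locMap m) η ∧ IsLocH (locMap m) m.asIdeal.primeCompl η ∧ IsPointwiseDual Z d := by
  let R := Localization.AtPrime m.asIdeal
  let P := DerivedCategory.Q.objPreimage ω
  let f : DerivedCategory.Q.obj P ≅ ω := DerivedCategory.Q.objObjPreimageIso ω
  let Z : Dual.D R := DerivedCategory.Q.obj ((extCx (locMap m)).obj P)
  let η := f.symm.hom ≫ γ (locMap m) P ≫ (DRing.restrictD (locMap m)).map (Iso.refl Z).hom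
  have hL : IsLocH (locMap m) m.asIdeal.primeCompl η :=
    (isLocH_γ m.asIdeal.primeCompl P).comp_iso f.symm (Iso.refl _)
  obtain ⟨h1, h2⟩ := (transfer_point m.asIdeal.primeCompl (IsLocalRing.maximalIdeal R) m.asIdeal
    (IsLocalization.AtPrime.comap_maximalIdeal R m.asIdeal) (fun s hs => hs) hge hL d).1 ⟨hvan, hline⟩
  exact ⟨Z, η, (isUniv_γ m.asIdeal.primeCompl P).comp_iso f.symm (Iso.refl _), hL,
    fun i => finite_HD_loc m.asIdeal.primeCompl hL i (hfin i),
    ⟨c, isGE_loc m.asIdeal.primeCompl hge hL⟩, h1, h2⟩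

end Groth.Agent.Dual3Lib
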