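import Groth.Agent.Dual3Lib.PointChain
import Groth.Agent.Dual3Lib.Pointwise
import Groth.Agent.Dual3Lib.LocClosedPt
import Groth.Agent.S1767
import Groth.Agent.Dual3Lib.Detect2
import Groth.Agent.Dual3Lib.PushCoh
import Groth.Agent.DualCxLib.DimFn
import Groth.Agent.DualCxLib.Sch
import Groth.Agent.DualCxLib.DimFnLocal
import Groth.Agent.BidualSchLib.Chart
import Mathlib.RingTheory.KrullDimension.Polynomial

/-!
# `a` of a dualizing complex is dualizing
-/

set_option autoImplicit false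
set_option linter.style.haveILetI false
set_option backward.isDefEq.respectTransparency false
set_option backward.isDefEq.respectTransparency.types false
set_option maxHeartbeats 1000000
set_option synthInstance.maxHeartbeats 200000

universe u

open CategoryTheory CategoryTheory.Limits AlgebraicGeometry
open Groth.Agent.DualCxLib
open DTenLib.Point (hH sg)

attribute [local instance] HasDerivedCategory.standard

noncomputable section

namespace Groth.Agent.Dual3Lib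

theorem ringKrullDim_lt_top_of_finiteType {A B : Type u} [CommRing A] [CommRing B] [IsNoetherianRing B]
    {φ : B →+* A} (hφ : φ.FiniteType) (hB : ringKrullDim B < ⊤) : ringKrullDim A < ⊤ := by
  letI := φ.toAlgebra
  haveI : Algebra.FiniteType B A := hφ
  obtain ⟨n, π, hπ⟩ := Algebra.FiniteType.iff_quotient_mvPolynomial''.1 ‹_›
  obtain ⟨N, hN⟩ := exists_dim_le hB
  refine lt_of_le_of_lt ((ringKrullDim_le_of_surjective π.toRingHom hπ).trans
    (MvPolynomial.ringKrullDim_of_isNoetherianRing.le)) ?_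
  refine lt_of_le_of_lt (b := ((N + n : ℕ) : WithBot ℕ∞)) ?_
    (WithBot.coe_lt_coe.2 (ENat.coe_lt_top _))
  rw [Nat.card_fin, Nat.cast_add]
  exact add_le_add hN le_rfl

theorem ext_bound_loc {A S : Type u} [CommRing A] [IsNoetherianRing A] [CommRing S] [Algebra A S]
    (M : Submonoid A) [IsLocalization M S] {ω : Dual.D A} (hω : Dual.IsDualizing A ω) {a b : ℤ}
    (hab : ∀ (I : Ideal A) (i : ℤ), (i < a ∨ b < i) → Subsingleton (Dual.inD A (A ⧸ I) ⟶ ω⟦i⟧))
    {Z : Dual.D S} {η : ω ⟶ (DRing.restrictD (algebraMap A S)).obj Z}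
    (hL : IsLocH (algebraMap A S) M η) (J : Ideal S) (i : ℤ) (hi : i < a ∨ b < i) :
    Subsingleton (Dual.inD S (S ⧸ J) ⟶ Z⟦i⟧) := by
  obtain ⟨h⟩ := nonempty_extend_quot M J
  obtain ⟨ηN, hN, -⟩ := exists_loc_single M (ModuleCat.of A (A ⧸ J.comap (algebraMap A S))) h
  obtain ⟨a', ha'⟩ := isGE_dualizing hω
  refine subsingleton_hom_loc M hN hL ha' (c := 0) (k := 1) (fun l hl => ?_) (fun l => ?_) i (hab _ i hi)
  · exact DTenLib.Point.isZero_sg (show l ≠ 0 by omega)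
  · rcases eq_or_ne l 0 with rfl | hl
    · exact Module.Finite.equiv (DTenLib.Point.sgH (ModuleCat.of A (A ⧸ J.comap (algebraMap A S))) 0).toLinearEquiv.symm
    · haveI := ModuleCat.subsingleton_of_isZero
        (DTenLib.Point.isZero_sg (N := ModuleCat.of A (A ⧸ J.comap (algebraMap A S))) hl)
      infer_instance

variable [∀ (U V : Scheme.{u}) (j : U ⟶ V) [IsOpenImmersion j], PreservesFiniteLimits (Scheme.Modules.restrictFunctor j)]
  [∀ (R : CommRingCat.{u}), PreservesFiniteLimits (tilde.functor R)]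

section Base

variable {Y : Scheme.{u}} [IsNoetherian Y] {K : DCoh.D Y}

theorem isCohD_of_isDualizingSch (hK : Dual2.IsDualizingSch Y K) : DCoh.IsCohD K := fun i => by
  refine PerfLib.isCoh_of_cover _ (fun U : Y.affineOpens => U.1) QCohLib.iSup_affineOpens_val fun U => ?_
  haveI := IsLocallyNoetherian.component_noetherian U
  obtain ⟨ω, hω, ⟨e⟩⟩ := hK Γ(Y, U.1) U.2.fromSpec
  haveI := hω.finite_cohomology i
  have h1 : Coh.IsCoh ((DCoh.HD K i).restrict U.2.fromSpec) :=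
    QCohLib.isCoh_of_iso (chartIso U.2.fromSpec e i).symm
      (AlgzCohLib.isCoh_tilde (A := Γ(Y, U.1)) (ModuleCat.of Γ(Y, U.1) (Dual.HD Γ(Y, U.1) ω i)))
  exact QCohLib.isCoh_of_iso ((Scheme.Modules.restrictFunctorComp U.2.isoSpec.hom U.2.fromSpec).symm ≪≫
    Scheme.Modules.restrictFunctorCongr U.2.isoSpec_hom_fromSpec |>.app _)
    (CohGenLib.isCoh_restrict U.2.isoSpec.hom h1)

theorem exists_isGE_of_isDualizingSch (hK : Dual2.IsDualizingSch Y K) : ∃ c : ℤ, K.IsGE c := by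
  classical
  obtain ⟨s, hs⟩ := isCompact_univ.elim_finite_subcover (fun U : Y.affineOpens => (U.1 : Set Y))
    (fun U => U.1.isOpen) fun x _ => by
      obtain ⟨U, hU, hxU, -⟩ := exists_isAffineOpen_mem_and_subset (x := x) (U := ⊤) trivial
      exact Set.mem_iUnion.2 ⟨⟨U, hU⟩, hxU⟩
  have h : ∀ U : Y.affineOpens, ∃ c : ℤ, ∀ i < c, IsZero ((DCoh.HD K i).restrict U.1.ι) := fun U => by
    haveI := IsLocallyNoetherian.component_noetherian U
    obtain ⟨ω, hω, ⟨e⟩⟩ := hK Γ(Y, U.1) U.2.fromSpec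
    obtain ⟨c, hc⟩ := isGE_dualizing hω
    refine ⟨c, fun i hi => ?_⟩
    have h1 : IsZero ((DCoh.HD K i).restrict U.2.fromSpec) :=
      ((tilde.functor Γ(Y, U.1)).map_isZero (DerivedCategory.isZero_of_isGE ω c i hi)).of_iso
        (chartIso U.2.fromSpec e i)
    exact ((Scheme.Modules.restrictFunctor U.2.isoSpec.hom).map_isZero h1).of_iso
      ((Scheme.Modules.restrictFunctorComp U.2.isoSpec.hom U.2.fromSpec).symm ≪≫
        Scheme.Modules.restrictFunctorCongr U.2.isoSpec_hom_fromSpec |>.app _).symm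
  choose c hc using h
  obtain ⟨c₀, hc₀⟩ := (s.finite_toSet.image c).bddBelow
  refine ⟨c₀, (DerivedCategory.isGE_iff K c₀).2 fun i hi => ?_⟩
  refine (DCohRestrLib.isZero_iff_support_empty _).2 (Set.eq_empty_iff_forall_notMem.2 fun x hx => ?_)
  obtain ⟨U, hUs, hxU⟩ := Set.mem_iUnion₂.1 (hs (Set.mem_univ x))
  have hz := hc U i (lt_of_lt_of_le hi (hc₀ ⟨U, hUs, rfl⟩))
  exact hx (DCohRestrLib.subsingleton_stalk_restrict U.1.ι _ ⟨x, hxU⟩ |>.1
    ((DCohRestrLib.isZero_iff_subsingleton_stalks _).1 hz ⟨x, hxU⟩))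

end Base

/-- A residue field upstairs is supported at its point. -/
theorem support_tildeD_quot {A : Type u} [CommRing A] (m : Ideal A) [m.IsMaximal] (i : ℤ)
    (q : Spec (CommRingCat.of A))
    (hq : q ∈ CohB1.support (DCoh.HD ((DCoh.tildeD (CommRingCat.of A)).obj (sg (ModuleCat.of A (A ⧸ m)) 0)) i)) :
    q.asIdeal = m := by
  haveI : PreservesFiniteColimits (tilde.functor (CommRingCat.of A)) :=
    haveI : PreservesColimitsOfSize.{0, 0} (tilde.functor (CommRingCat.of A)) :=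
      (tilde.adjunction (R := CommRingCat.of A)).leftAdjoint_preservesColimits
    PreservesColimitsOfSize.preservesFiniteColimits _
  haveI : (tilde.functor (CommRingCat.of A)).Additive :=
    instAdditiveModuleCatCarrierModulesSpecOfFunctor (R := CommRingCat.of A)
  let N := (hH A i).obj (sg (ModuleCat.of A (A ⧸ m)) 0)
  let e := (DerLib.ExactHomology.homologyIso (A := ModuleCat.{u} A) (tilde.functor (CommRingCat.of A)) i).app
    (sg (ModuleCat.of A (A ⧸ m)) 0)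
  by_contra hne
  refine hq ?_
  refine (DCohRestrLib.subsingleton_stalk_of_iso e q).2 ?_
  have hkill : ∀ x : N, ∃ s ∈ q.asIdeal.primeCompl, s • x = 0 := by
    obtain ⟨s, hsm, hsq⟩ := SetLike.not_le_iff_exists.1 fun h : m ≤ q.asIdeal =>
      hne ((Ideal.IsMaximal.eq_of_le ‹_› q.isPrime.ne_top h).symm)
    refine fun x => ⟨s, hsq, ?_⟩
    rcases eq_or_ne i 0 with rfl | hi
    · apply (DTenLib.Point.sgH (ModuleCat.of A (A ⧸ m)) 0).toLinearEquiv.injective
      rw [map_smul, map_zero]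
      obtain ⟨z, hz⟩ := Ideal.Quotient.mk_surjective
        (show A ⧸ m from (DTenLib.Point.sgH (ModuleCat.of A (A ⧸ m)) 0).toLinearEquiv x)
      show s • (show A ⧸ m from _) = 0
      rw [← hz]
      exact Ideal.Quotient.eq_zero_iff_mem.2 (m.mul_mem_right _ hsm)
    · haveI := ModuleCat.subsingleton_of_isZero (DTenLib.Point.isZero_sg (N := ModuleCat.of A (A ⧸ m)) hi)
      exact Subsingleton.elim _ _
  haveI : Subsingleton (LocalizedModule q.asIdeal.primeCompl N) :=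
    LocalizedModule.subsingleton_iff.2 hkill
  exact (stalkTilde (CommRingCat.of A) N q).symm.subsingleton

theorem isClosed_singleton_of_finite {W : Scheme.{u}} {A B : CommRingCat.{u}} (j : Spec A ⟶ W)
    (fW : W ⟶ Spec B) [IsSeparated fW] (φ : B ⟶ A) (hφ : j ≫ fW = Spec.map φ) (m : Ideal A) [hm : m.IsMaximal]
    (hfin : ((Ideal.Quotient.mk m).comp φ.hom).Finite) :
    IsClosed ({j ⟨m, hm.isPrime⟩} : Set W) := by
  let π : A ⟶ CommRingCat.of (A ⧸ m) := CommRingCat.ofHom (Ideal.Quotient.mk m)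
  haveI : IsFinite ((Spec.map π ≫ j) ≫ fW) := by
    rw [Category.assoc, hφ, ← Spec.map_comp, IsFinite.SpecMap_iff]
    exact hfin
  haveI : IsFinite (Spec.map π ≫ j) := MorphismProperty.of_postcomp @IsFinite _ _ (inferInstance : IsSeparated fW) this
  have h := ((Spec.map π ≫ j).isClosedMap) _ isClosed_univ
  rw [Set.image_univ] at h
  convert h using 1
  letI : Field (A ⧸ m) := Ideal.Quotient.field m
  let pt : Spec (CommRingCat.of (A ⧸ m)) := ⟨⊥, Ideal.isPrime_bot⟩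
  have hpt : ∀ z : Spec (CommRingCat.of (A ⧸ m)), z = pt := fun z =>
    PrimeSpectrum.ext ((Ideal.eq_bot_or_top z.asIdeal).resolve_right z.isPrime.ne_top)
  have hmap : (Spec.map π) pt = ⟨m, hm.isPrime⟩ := PrimeSpectrum.ext (by
    show Ideal.comap (Ideal.Quotient.mk m) ⊥ = m
    rw [← RingHom.ker_eq_comap_bot, Ideal.mk_ker])
  ext z
  simp only [Set.mem_singleton_iff, Set.mem_range]
  constructor
  · rintro rfl
    exact ⟨pt, by rw [Scheme.Hom.comp_apply, hmap]⟩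
  · rintro ⟨w, rfl⟩
    rw [hpt w, Scheme.Hom.comp_apply, hmap]

section Main

variable {X Y : Scheme.{u}} [IsNoetherian Y] (f : X ⟶ Y) [IsProper f] [DCoh.HasRpush f]
  (hf : DCoh.RpushPreservesQCoh f) (a : DCoh.DQCoh Y ⥤ DCoh.DQCoh X) (adj : DCoh.RpushQ f hf ⊣ a)
  (K : DCoh.DQCoh Y) (hK : Dual2.IsDualizingSch Y K.obj)

include adj hK in
theorem exists_isGE_chart {U : X.Opens} (hU : IsAffineOpen U) {ω : Dual.D Γ(X, U)}
    (eω : (DCoh.restrictD hU.fromSpec).obj (a.obj K).obj ≅ (DCoh.tildeD Γ(X, U)).obj ω) :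
    ∃ c' : ℤ, ω.IsGE c' := by
  haveI : IsLocallyNoetherian X := LocallyOfFiniteType.isLocallyNoetherian f
  haveI : CompactSpace X := QuasiCompact.compactSpace_of_compactSpace f
  haveI : IsNoetherian X := ⟨⟩
  obtain ⟨c, hc⟩ := exists_isGE_of_isDualizingSch hK
  obtain ⟨N, hN⟩ := Groth.Agent.S1767.result X Y f hf a adj
  refine ⟨c - 1 - N, isGE_of_subsingleton fun i hi => ?_⟩
  have h0 : IsZero (DCoh.HD (a.obj K).obj i) :=
    hN K (c - 1) (fun j hj => DerivedCategory.isZero_of_isGE K.obj c j (by omega)) i (by omega)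
  have h1 : IsZero (tilde (ModuleCat.of Γ(X, U) (Dual.HD Γ(X, U) ω i))) :=
    ((Scheme.Modules.restrictFunctor hU.fromSpec).map_isZero h0).of_iso (chartIso hU.fromSpec eω i).symm
  exact ModuleCat.subsingleton_of_isZero ((IsZero.iff_id_eq_zero _).2
    ((tilde.functor Γ(X, U)).map_injective (h1.eq_of_src _ _)))

include adj hK in
/-- `Ext` of closed points of a chart into `a K`. -/
theorem exists_ext_chart {V₀ : Y.Opens} (hV₀ : IsAffineOpen V₀) {U : X.Opens} (hU : IsAffineOpen U)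
    (hUV : U ≤ f ⁻¹ᵁ V₀) {ω₀ : Dual.D Γ(Y, V₀)} (hω₀ : Dual.IsDualizing Γ(Y, V₀) ω₀)
    (e₀ : (DCoh.restrictD hV₀.fromSpec).obj K.obj ≅ (DCoh.tildeD Γ(Y, V₀)).obj ω₀) {a₀ b₀ : ℤ}
    (hab : ∀ (I : Ideal Γ(Y, V₀)) (i : ℤ), (i < a₀ ∨ b₀ < i) →
      Subsingleton (Dual.inD Γ(Y, V₀) (Γ(Y, V₀) ⧸ I) ⟶ ω₀⟦i⟧))
    {ω : Dual.D Γ(X, U)}
    (eω : (DCoh.restrictD hU.fromSpec).obj (a.obj K).obj ≅ (DCoh.tildeD Γ(X, U)).obj ω) {c' : ℤ}
    (hge : ω.IsGE c') (m : Ideal Γ(X, U)) [m.IsMaximal] :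
    ∃ d : ℤ, a₀ ≤ d ∧ d ≤ b₀ ∧ (∀ i : ℤ, i ≠ d → Subsingleton (Dual.inD Γ(X, U) (Γ(X, U) ⧸ m) ⟶ ω⟦i⟧)) ∧
      Nonempty ((Dual.inD Γ(X, U) (Γ(X, U) ⧸ m) ⟶ ω⟦d⟧) ≃ₗ[Γ(X, U)] (Γ(X, U) ⧸ m)) := by
  haveI : IsLocallyNoetherian X := LocallyOfFiniteType.isLocallyNoetherian f
  haveI : IsNoetherianRing Γ(X, U) := IsLocallyNoetherian.component_noetherian ⟨U, hU⟩
  haveI : IsNoetherianRing Γ(Y, V₀) := IsLocallyNoetherian.component_noetherian ⟨V₀, hV₀⟩
  let φ₀ := (f.appLE V₀ U hUV).hom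
  have hft : φ₀.FiniteType := f.finiteType_appLE hV₀ hU hUV
  obtain ⟨g, hg, huniq⟩ := exists_locClosed_generator φ₀ hft m
  -- the smaller charts
  let V := Y.basicOpen g
  have hV : IsAffineOpen V := hV₀.basicOpen g
  let U' := X.basicOpen (φ₀ g)
  have hU' : IsAffineOpen U' := hU.basicOpen _
  have hU'U : U' ≤ U := X.basicOpen_le _
  have hU'V : U' ≤ f ⁻¹ᵁ V := by
    rw [Scheme.preimage_basicOpen]
    show X.basicOpen ((X.presheaf.map (homOfLE hUV).op) (f.app V₀ g)) ≤ _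
    rw [X.basicOpen_res]
    exact inf_le_right
  haveI : IsNoetherianRing Γ(X, U') := IsLocallyNoetherian.component_noetherian ⟨U', hU'⟩
  haveI : IsNoetherianRing Γ(Y, V) := IsLocallyNoetherian.component_noetherian ⟨V, hV⟩
  letI : Algebra Γ(X, U) Γ(X, U') := (X.presheaf.map (homOfLE hU'U).op).hom.toAlgebra
  haveI : IsLocalization.Away (φ₀ g) Γ(X, U') := hU.isLocalization_basicOpen _
  letI : Algebra Γ(Y, V₀) Γ(Y, V) := (Y.presheaf.map (homOfLE (Y.basicOpen_le g)).op).hom.toAlgebra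
  haveI : IsLocalization.Away g Γ(Y, V) := hV₀.isLocalization_basicOpen _
  let φ' := (f.appLE V U' hU'V).hom
  have hcompat : φ'.comp (algebraMap Γ(Y, V₀) Γ(Y, V)) = (algebraMap Γ(X, U) Γ(X, U')).comp φ₀ := by
    show (Y.presheaf.map _ ≫ f.appLE V U' hU'V).hom = (f.appLE V₀ U hUV ≫ X.presheaf.map _).hom
    rw [Scheme.Hom.map_appLE, Scheme.Hom.appLE_map]
  -- the point
  let m' : Ideal Γ(X, U') := m.map (algebraMap Γ(X, U) Γ(X, U'))
  have hgm : φ₀ g ∉ m := hg
  have hdisj : Disjoint (Submonoid.powers (φ₀ g) : Set Γ(X, U)) (m : Set Γ(X, U)) :=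
    Set.disjoint_left.2 fun x hx hxm => by
      obtain ⟨n, rfl⟩ := hx
      exact hgm (Ideal.IsPrime.mem_of_pow_mem inferInstance n hxm)
  have hm'p : m'.IsPrime := IsLocalization.isPrime_of_isPrime_disjoint (Submonoid.powers (φ₀ g)) _ m inferInstance hdisj
  have hcm : m'.comap (algebraMap Γ(X, U) Γ(X, U')) = m :=
    IsLocalization.comap_map_of_isPrime_disjoint (Submonoid.powers (φ₀ g)) _ inferInstance hdisj
  haveI hm'max : m'.IsMaximal := Ideal.isMaximal_def.2 ⟨hm'p.ne_top, fun J hJ => by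
    by_contra hJt
    have h1 : m ≤ J.comap (algebraMap Γ(X, U) Γ(X, U')) := hcm ▸ Ideal.comap_mono hJ.le
    rcases (Ideal.IsMaximal.eq_of_le ‹m.IsMaximal› (fun h => hJt (Ideal.comap_eq_top_iff.1 h)) h1) with h
    refine hJ.ne ?_
    rw [← IsLocalization.map_comap (Submonoid.powers (φ₀ g)) Γ(X, U') J, Ideal.under_def, ← h]⟩
  let p' := m'.comap φ'
  have hp'c : p'.comap (algebraMap Γ(Y, V₀) Γ(Y, V)) = m.comap φ₀ := by
    show (m'.comap φ').comap _ = _
    rw [Ideal.comap_comap, hcompat, ← Ideal.comap_comap, hcm]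
  haveI : p'.IsPrime := Ideal.IsPrime.comap φ'
  haveI hp'max : p'.IsMaximal := by
    obtain ⟨Q, hQ, hle⟩ := Ideal.exists_le_maximal p' Ideal.IsPrime.ne_top'
    suffices Q = p' from this ▸ hQ
    haveI := hQ.isPrime
    have h1 : Q.comap (algebraMap Γ(Y, V₀) Γ(Y, V)) = m.comap φ₀ :=
      huniq _ (Ideal.IsPrime.comap _) (hp'c ▸ Ideal.comap_mono hle) fun h =>
        hQ.ne_top (Ideal.eq_top_of_isUnit_mem _ h (IsLocalization.Away.algebraMap_isUnit g))
    rw [← IsLocalization.map_comap (Submonoid.powers g) Γ(Y, V) Q,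
      ← IsLocalization.map_comap (Submonoid.powers g) Γ(Y, V) p', Ideal.under_def, Ideal.under_def, h1, hp'c]
  have hfin : ((Ideal.Quotient.mk m').comp φ').Finite := by
    letI : Field (Γ(Y, V) ⧸ p') := Ideal.Quotient.field p'
    letI : Field (Γ(X, U') ⧸ m') := Ideal.Quotient.field m'
    let ψ : Γ(Y, V) ⧸ p' →+* Γ(X, U') ⧸ m' := Ideal.quotientMap m' φ' le_rfl
    have h : ψ.comp (Ideal.Quotient.mk p') = (Ideal.Quotient.mk m').comp φ' := RingHom.ext fun _ => rfl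
    have hψ : ψ.FiniteType := by
      refine RingHom.FiniteType.of_comp_finiteType (f := Ideal.Quotient.mk p') (g := ψ) ?_
      rw [h]
      exact (RingHom.FiniteType.of_surjective _ Ideal.Quotient.mk_surjective).comp (f.finiteType_appLE hV hU' hU'V)
    letI : Algebra (Γ(Y, V) ⧸ p') (Γ(X, U') ⧸ m') := ψ.toAlgebra
    haveI : Algebra.FiniteType (Γ(Y, V) ⧸ p') (Γ(X, U') ⧸ m') := hψ
    rw [← h]
    exact RingHom.Finite.comp (show ψ.Finite from finite_of_finite_type_of_isJacobsonRing _ _)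
      (RingHom.Finite.of_surjective _ Ideal.Quotient.mk_surjective)
  -- localized complexes
  have heV : Spec.map (CommRingCat.ofHom (algebraMap Γ(Y, V₀) Γ(Y, V))) ≫ hV₀.fromSpec = hV.fromSpec :=
    hV₀.map_fromSpec hV (homOfLE (Y.basicOpen_le g)).op
  have heU : Spec.map (CommRingCat.ofHom (algebraMap Γ(X, U) Γ(X, U'))) ≫ hU.fromSpec = hU'.fromSpec :=
    hU.map_fromSpec hU' (homOfLE hU'U).op
  haveI : IsOpenImmersion (Spec.map (CommRingCat.ofHom (algebraMap Γ(Y, V₀) Γ(Y, V)))) :=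
    IsOpenImmersion.of_isLocalization g
  haveI : IsOpenImmersion (Spec.map (CommRingCat.ofHom (algebraMap Γ(X, U) Γ(X, U')))) :=
    IsOpenImmersion.of_isLocalization (φ₀ g)
  obtain ⟨ωB, ηB, huB, hLB, ⟨iB⟩⟩ := exists_chart_loc (S := Γ(Y, V)) (Submonoid.powers g) hV₀.fromSpec e₀
  obtain ⟨ωA, ηA, huA, hLA, ⟨iA⟩⟩ := exists_chart_loc (S := Γ(X, U')) (Submonoid.powers (φ₀ g)) hU.fromSpec eω
  have hωB : Dual.IsDualizing Γ(Y, V) ωB := isDualizing_loc (Submonoid.powers g) hω₀ huB hLB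
  let eB : (DCoh.restrictD hV.fromSpec).obj K.obj ≅ (DCoh.tildeD Γ(Y, V)).obj ωB :=
    (restrictCongrIso heV K.obj).symm ≪≫ iB
  let W := f ⁻¹ᵁ V
  let j : Spec Γ(X, U') ⟶ (W : Scheme.{u}) := IsOpenImmersion.lift W.ι hU'.fromSpec (by
    rw [hU'.range_fromSpec, Scheme.Opens.range_ι]
    exact hU'V)
  have hj : j ≫ W.ι = hU'.fromSpec := IsOpenImmersion.lift_fac _ _ _
  haveI : IsOpenImmersion (j ≫ W.ι) := hj ▸ inferInstance
  haveI : IsOpenImmersion j := IsOpenImmersion.of_comp j W.ι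
  have hφ' : j ≫ RpushLib.overW f hV = Spec.map (CommRingCat.ofHom φ') := by
    rw [← cancel_mono hV.fromSpec]
    show (j ≫ (f ∣_ V) ≫ hV.isoSpec.hom) ≫ hV.fromSpec = Spec.map (f.appLE V U' hU'V) ≫ hV.fromSpec
    rw [IsAffineOpen.SpecMap_appLE_fromSpec, Category.assoc, Category.assoc, hV.isoSpec_hom_fromSpec,
      morphismRestrict_ι, ← Category.assoc, hj]
  haveI : IsSeparated (RpushLib.overW f hV) := by
    haveI : IsProper (f ∣_ V) := MorphismProperty.of_isPullback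
      (isPullback_morphismRestrict f V).flip inferInstance
    exact inferInstanceAs (IsSeparated ((f ∣_ V) ≫ hV.isoSpec.hom))
  have hT : IsClosed ({j ⟨m', hm'max.isPrime⟩} : Set W) :=
    isClosed_singleton_of_finite j (RpushLib.overW f hV) (CommRingCat.ofHom φ') hφ' m' hfin
  obtain ⟨c, hc⟩ := exists_isGE_of_isDualizingSch hK
  obtain ⟨_, _⟩ := QRlimLib.exists_isTriangulated_rpush f
  haveI : (DCoh.RpushQ f hf).IsTriangulated :=
    ObjectProperty.isTriangulated_lift _ ((DCoh.IsQCohD (X := X)).ι ⋙ DCoh.Rpush f) _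
  letI := adj.rightAdjointCommShift ℤ
  let eA₁ : (DCoh.restrictD j).obj ((DCoh.restrictD W.ι).obj (a.obj K).obj) ≅
      (DCoh.tildeD Γ(X, U')).obj ωA :=
    (restrictCompIso j W.ι _).symm ≪≫ restrictCongrIso (hj.trans heU.symm) _ ≪≫ iA
  have hgeA : ωA.IsGE c' := isGE_loc (Submonoid.powers (φ₀ g)) hge hLA
  obtain ⟨d, hda, hdb, hvan, hline⟩ := exists_ext_point φ' m' hfin hωB (ωA := ωA)
    (fun i hi => ext_bound_loc (Submonoid.powers g) hω₀ hab hLB _ i hi) fun n => by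
    haveI : (K⟦n⟧).obj.IsGE (c - n) :=
      @Triangulated.TStructure.isGE_of_iso _ _ _ _ _ _ _ DerivedCategory.TStructure.t _ _
        (((DCoh.IsQCohD (X := Y)).ι.commShiftIso n).app K).symm (c - n)
        (DerivedCategory.TStructure.t.isGE_shift K.obj c n (c - n) (by omega))
    let s : (a.obj (K⟦n⟧)).obj ≅ (a.obj K).obj⟦n⟧ :=
      (DCoh.IsQCohD (X := X)).ι.mapIso ((a.commShiftIso n).app K) ≪≫
        ((DCoh.IsQCohD (X := X)).ι.commShiftIso n).app _
    refine exists_homB f hf a adj (K⟦n⟧) (c - n) hV j φ' hφ'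
      ((DCoh.restrictD j).mapIso ((DCoh.restrictD W.ι).mapIso s ≪≫ ((DCoh.restrictD W.ι).commShiftIso n).app _) ≪≫
        ((DCoh.restrictD j).commShiftIso n).app _ ≪≫ (shiftFunctor _ n).mapIso eA₁ ≪≫
        (((DCoh.tildeD Γ(X, U')).commShiftIso n).app ωA).symm)
      ((DCoh.restrictD hV.fromSpec).mapIso (((DCoh.IsQCohD (X := Y)).ι.commShiftIso n).app K) ≪≫
        ((DCoh.restrictD hV.fromSpec).commShiftIso n).app _ ≪≫ (shiftFunctor _ n).mapIso eB ≪≫
        (((DCoh.tildeD Γ(Y, V)).commShiftIso n).app ωB).symm)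
      _ hT (by rintro _ rfl; exact ⟨_, rfl⟩) fun i q hq => ?_
    show j q ∈ ({j ⟨m', hm'max.isPrime⟩} : Set W)
    rw [show q = ⟨m', hm'max.isPrime⟩ from PrimeSpectrum.ext (support_tildeD_quot m' i q hq)]
    rfl
  obtain ⟨h1, h2⟩ := (transfer_point (A := Γ(X, U)) (B := Γ(X, U')) (Submonoid.powers (φ₀ g)) m' m hcm
    (fun s ⟨k, hk⟩ hs => hgm (Ideal.IsPrime.mem_of_pow_mem inferInstance k (show φ₀ g ^ k ∈ m from (show φ₀ g ^ k = s from hk) ▸ hs))) hge hLA d).2 ⟨hvan, hline⟩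
  exact ⟨d, hda, hdb, h1, h2⟩

include adj hK in
/-- `a` of a dualizing complex is dualizing. -/
theorem isDualizingSch_rightAdjoint : Dual2.IsDualizingSch X (a.obj K).obj := by
  haveI : IsLocallyNoetherian X := LocallyOfFiniteType.isLocallyNoetherian f
  obtain ⟨c, hc⟩ := exists_isGE_of_isDualizingSch hK
  have hcoh : DCoh.IsCohD (a.obj K).obj := isCohD_of_test f (a.obj K).property
    fun E hE => isCohD_rpush_ten_rightAdjoint f hf a adj K (isCohD_of_isDualizingSch hK) c hE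
  choose V₀ hV₀ hx₀ using fun x : X => exists_isAffineOpen_mem_and_subset (x := f x) (U := ⊤) trivial
  choose U hU hxU hUV using fun x : X => exists_isAffineOpen_mem_and_subset (x := x) (U := f ⁻¹ᵁ (V₀ x))
    (hx₀ x).1
  refine DualCxLib.isDualizingSch_of_cover (ι := X) (fun x => Γ(X, U x)) (fun x => (hU x).fromSpec)
    (fun x => ⟨x, by rw [(hU x).range_fromSpec]; exact hxU x⟩) fun x => ?_
  haveI hnA : IsNoetherianRing Γ(X, U x) := IsLocallyNoetherian.component_noetherian ⟨U x, hU x⟩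
  haveI : IsNoetherianRing Γ(Y, V₀ x) := IsLocallyNoetherian.component_noetherian ⟨V₀ x, hV₀ x⟩
  obtain ⟨_, _, hqA⟩ := Groth.Agent.S0997.result Γ(X, U x)
  obtain ⟨ω, ⟨eω⟩⟩ := (hqA _).1 (KoszOrthLib.isQCohD_restrictD (hU x).fromSpec (a.obj K).property)
  refine ⟨ω, ?_, ⟨eω.symm⟩⟩
  have hfinH : ∀ i, Module.Finite Γ(X, U x) (Dual.HD Γ(X, U x) ω i) := fun i =>
    BidualSchLib.finite_of_isCoh_tilde (A := Γ(X, U x))
      (QCohLib.isCoh_of_iso (chartIso (hU x).fromSpec eω.symm i) (CohGenLib.isCoh_restrict _ (hcoh i)))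
  obtain ⟨ω₀, hω₀, ⟨e₀⟩⟩ := hK Γ(Y, V₀ x) (hV₀ x).fromSpec
  obtain ⟨a₀, b₀, hab₀⟩ := hω₀.finite_injective_dimension
  obtain ⟨N, hN⟩ := exists_dim_le (ringKrullDim_lt_top_of_finiteType
    (f.finiteType_appLE (hV₀ x) (hU x) (hUV x)) (ringKrullDim_lt_top hω₀))
  obtain ⟨c', hge⟩ : ∃ c' : ℤ, ω.IsGE c' := exists_isGE_chart f hf a adj K hK (hU x) eω.symm
  have hpt : ∀ m : {m : Ideal Γ(X, U x) // m.IsMaximal}, ∃ (d : ℤ)
      (Z : Dual.D (Localization.AtPrime (hp := m.2.isPrime) m.1))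
      (η : ω ⟶ (DRing.restrictD (algebraMap Γ(X, U x) (Localization.AtPrime (hp := m.2.isPrime) m.1))).obj Z),
      a₀ ≤ d ∧ d ≤ b₀ ∧ IsUniv (algebraMap Γ(X, U x) _) η ∧
        IsLocH (algebraMap Γ(X, U x) _) (haveI := m.2.isPrime; m.1.primeCompl) η ∧ IsPointwiseDual Z d := fun m => by
    haveI := m.2
    obtain ⟨d, hda, hdb, hv, hl⟩ := exists_ext_chart f hf a adj K hK (hV₀ x) (hU x) (hUV x) hω₀ e₀
      (fun I i hi => hab₀ _ i hi) eω.symm hge m.1
    haveI : (⟨m.1, m.2.isPrime⟩ : PrimeSpectrum Γ(X, U x)).asIdeal.IsMaximal := m.2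
    obtain ⟨Z, η, h1, h2, h3⟩ := exists_pointwise_atPrime ⟨m.1, m.2.isPrime⟩ hfinH hge hv hl
    exact ⟨d, Z, η, hda, hdb, h1, h2, h3⟩
  choose d Z η hda hdb hu hl hd using hpt
  haveI : ∀ m : {m : Ideal Γ(X, U x) // m.IsMaximal},
      IsNoetherianRing (Localization.AtPrime (hp := m.2.isPrime) m.1) := fun m =>
    haveI := m.2.isPrime
    IsLocalization.isNoetherianRing m.1.primeCompl _ inferInstance
  refine isDualizing_of_local (ι := {m : Ideal Γ(X, U x) // m.IsMaximal}) covers_atMaximal hu hl hfinH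
    (fun m => isDualizing_of_pointwise (hd m)) (a := a₀ - N) (b := b₀) fun I i hi => ?_
  refine ext_bounds_of_local covers_atMaximal hl hge i (fun m M _ _ => ?_) (Γ(X, U x) ⧸ I)
  haveI := m.2.isPrime
  exact ext_bounds_n (hd m) (dim_atPrime_le ⟨m.1, m.2.isPrime⟩ hN) M i (by have := hda m; have := hdb m; omega)

end Main

end Groth.Agent.Dual3Lib
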