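import Groth.Agent.DCohRestrLib.Glue
import Groth.Agent.DCohRestrLib.RHomRestr
import Groth.Agent.KoszOrthLib.Adj
import Groth.Agent.PerfCompLib.ExtZero

/-!
# Maps out of objects supported in a closed subset of an open
-/

set_option autoImplicit false
set_option linter.style.haveILetI false
set_option backward.isDefEq.respectTransparency false
set_option backward.isDefEq.respectTransparency.types false
set_option maxHeartbeats 1000000

universe u

open CategoryTheory CategoryTheory.Limits AlgebraicGeometry CategoryTheory.Pretriangulated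
open Groth.Agent.DCohRestrLib

attribute [local instance] HasDerivedCategory.standard

namespace Groth.Agent.Dual3Lib

variable {X : Scheme.{u}}

/-- Restriction to an open containing the support is bijective on maps. -/
theorem bijective_restrictD_opens (U : X.Opens) {T : Set X} (hT : IsClosed T) (hTU : T ⊆ (U : Set X))
    (E : DCoh.D X) (hE : ∀ i : ℤ, CohB1.support (DCoh.HD E i) ⊆ T) (F : DCoh.D X) :
    Function.Bijective (fun φ : E ⟶ F => (DCoh.restrictD U.ι).map φ) := by
  let RU := DCoh.restrictD U.ι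
  haveI := isIso_adjD_unit U (RU.obj E)
  let ε := (adjD U).counit.app E
  haveI : IsIso (RU.map ε) :=
    @IsIso.of_isIso_comp_left _ _ _ _ _ ((adjD U).unit.app (RU.obj E)) (RU.map ε) inferInstance (by
      rw [show (adjD U).unit.app (RU.obj E) ≫ RU.map ε = 𝟙 _ from (adjD U).right_triangle_components E]
      infer_instance)
  haveI : IsIso ε := isIso_of_isIso_restrictD_of_support U ε
    (fun i => (support_HD_extZeroD U _ i).trans (by rintro _ ⟨w, -, rfl⟩; exact w.2))
    fun i => (hE i).trans hTU
  have h : (fun φ : E ⟶ F => RU.map φ) = (adjD U).homEquiv _ _ ∘ fun φ => ε ≫ φ := funext fun φ => by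
    show RU.map φ = (adjD U).homEquiv _ _ (ε ≫ φ)
    rw [Adjunction.homEquiv_unit, Functor.map_comp, ← Category.assoc,
      show (adjD U).unit.app (RU.obj E) ≫ RU.map ε = 𝟙 _ from (adjD U).right_triangle_components E,
      ]
    exact (Category.id_comp _).symm
  rw [h]
  exact ((adjD U).homEquiv _ _).bijective.comp
    ⟨fun a b hab => (cancel_epi ε).1 hab, fun ψ => ⟨inv ε ≫ ψ, IsIso.hom_inv_id_assoc _ _⟩⟩

/-- Restriction along an open immersion whose range contains the support is bijective on maps. -/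
theorem bijective_restrictD {W : Scheme.{u}} (j : W ⟶ X) [IsOpenImmersion j] {T : Set X} (hT : IsClosed T)
    (hTj : T ⊆ Set.range j) (E : DCoh.D X) (hE : ∀ i : ℤ, CohB1.support (DCoh.HD E i) ⊆ T)
    (F : DCoh.D X) : Function.Bijective (fun φ : E ⟶ F => (DCoh.restrictD j).map φ) := by
  haveI := DCohRestrLib.hasRpush j
  let R := DCoh.restrictD j
  let adj := KoszOrthLib.restrictRpushAdj j
  have horth : ∀ L : DCoh.D X, IsZero (R.obj L) → ∀ φ : E ⟶ L, φ = 0 := fun L hL φ => by
    refine (bijective_restrictD_opens j.opensRange hT hTj E hE L).1 (IsZero.eq_of_tgt ?_ _ _)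
    refine (isZero_restrictD_iff _ L).2 fun i x hx h => ?_
    obtain ⟨w, rfl⟩ := hx
    have h1 : w ∈ CohB1.support (DCoh.HD (R.obj L) i) := by
      rw [support_HD_restrictD]
      exact h
    rw [(isZero_iff_support_empty _).1 ((isZero_iff_HD _).1 hL i)] at h1
    exact h1
  obtain ⟨L, ι, d, hT'⟩ := distinguished_cocone_triangle₁ (adj.unit.app F)
  have hLR : IsZero (R.obj L) :=
    ((R.mapTriangle.obj (Triangle.mk ι (adj.unit.app F) d)).isZero₁_iff_isIso₂
      (R.map_distinguished _ hT')).2 (KoszOrthLib.isIso_restrictD_unit j adj F)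
  have hhom : ∀ φ : E ⟶ F, adj.homEquiv _ _ (R.map φ) = φ ≫ adj.unit.app F := fun φ => by
    rw [Adjunction.homEquiv_unit]
    exact (adj.unit.naturality φ).symm
  refine ⟨fun φ φ' h => ?_, fun ψ => ?_⟩
  · rw [← sub_eq_zero]
    obtain ⟨g, hg⟩ := Triangle.coyoneda_exact₂ _ hT' (φ - φ') (by
      show (φ - φ') ≫ adj.unit.app F = 0
      rw [Preadditive.sub_comp, ← hhom, ← hhom, sub_eq_zero]
      exact congrArg _ h)
    rw [hg, horth L hLR g]
    exact zero_comp
  · have hz : adj.homEquiv _ _ ψ ≫ d = 0 := horth _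
      (((shiftFunctor _ (1 : ℤ)).map_isZero hLR).of_iso ((R.commShiftIso (1 : ℤ)).app L)) _
    obtain ⟨φ, hφ⟩ := Triangle.coyoneda_exact₃ _ hT' (adj.homEquiv _ _ ψ) hz
    exact ⟨φ, (adj.homEquiv _ _).injective ((hhom φ).trans hφ.symm)⟩

end Groth.Agent.Dual3Lib
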