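import Groth.Agent.Dual3Lib.BCOpen
import Groth.Agent.Dual3Lib.SuppBij
import Groth.Agent.Dual3Lib.KernelAdj
import Groth.Agent.RpushLib.Finite
import Groth.Agent.TildeDerLib.Push
import Groth.Agent.DualCxLib.Sch2
import Groth.Agent.S0997

/-!
# Maps from objects supported at closed points into `a Q`
-/

set_option autoImplicit false
set_option linter.style.haveILetI false
set_option backward.isDefEq.respectTransparency false
set_option backward.isDefEq.respectTransparency.types false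
set_option maxHeartbeats 1000000
set_option synthInstance.maxHeartbeats 200000

universe u

open CategoryTheory CategoryTheory.Limits AlgebraicGeometry

attribute [local instance] HasDerivedCategory.standard

namespace Groth.Agent.Dual3Lib

/-- Direct image along an isomorphism is restriction along its inverse. -/
theorem nonempty_rpush_iso_restrictD {X Y : Scheme.{u}} (σ : X ≅ Y) [DCoh.HasRpush σ.hom] (M : DCoh.D X) :
    Nonempty ((DCoh.Rpush σ.hom).obj M ≅ (DCoh.restrictD σ.inv).obj M) := by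
  haveI := DCohRestrLib.hasRpush σ.inv
  haveI := DCohRestrLib.hasRpush (σ.hom ≫ σ.inv)
  haveI := DCohRestrLib.hasRpush (𝟙 X)
  haveI := KoszOrthLib.isIso_counit σ.inv (KoszOrthLib.restrictRpushAdj σ.inv)
  haveI := KFlatLib.hasLpull σ.inv
  haveI := KFlatLib.hasLpull (σ.hom ≫ σ.inv)
  obtain ⟨e₁⟩ := nonempty_rpush_comp σ.hom σ.inv M
  obtain ⟨eid⟩ := nonempty_lpull_id (σ.hom ≫ σ.inv) σ.hom_inv_id
  let e₂ : DCoh.Rpush (σ.hom ≫ σ.inv) ≅ 𝟭 _ :=
    (KFlatLib.lpullRpushAdj (σ.hom ≫ σ.inv)).rightAdjointUniq (Adjunction.id.ofNatIsoLeft eid.symm)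
  exact ⟨((asIso (KoszOrthLib.restrictRpushAdj σ.inv).counit).app _).symm ≪≫
    (DCoh.restrictD σ.inv).mapIso (e₁ ≪≫ e₂.app M)⟩

variable [∀ (R : CommRingCat.{u}), PreservesFiniteLimits (tilde.functor R)]
  {X Y : Scheme.{u}} [IsNoetherian Y] (f : X ⟶ Y) [IsProper f] [DCoh.HasRpush f]
  (hf : DCoh.RpushPreservesQCoh f) (a : DCoh.DQCoh Y ⥤ DCoh.DQCoh X) (adj : DCoh.RpushQ f hf ⊣ a)

include adj in
/-- Maps into `a Q` from an object on a chart supported at points closed over an affine open of the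
base are maps out of its restriction of scalars. -/
theorem exists_homB (Q : DCoh.DQCoh Y) (c : ℤ) [Q.obj.IsGE c] {V : Y.Opens} (hV : IsAffineOpen V)
    {A : Type u} [CommRing A] (j : Spec (CommRingCat.of A) ⟶ (f ⁻¹ᵁ V : Scheme.{u})) [IsOpenImmersion j]
    (φ : Γ(Y, V) →+* A) (hφ : j ≫ RpushLib.overW f hV = Spec.map (CommRingCat.ofHom φ))
    {ωA : Dual.D A}
    (eA : (DCoh.restrictD j).obj ((DCoh.restrictD (f ⁻¹ᵁ V).ι).obj (a.obj Q).obj) ≅
      (DCoh.tildeD (CommRingCat.of A)).obj ωA)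
    {ωB : Dual.D Γ(Y, V)} (eB : (DCoh.restrictD hV.fromSpec).obj Q.obj ≅ (DCoh.tildeD Γ(Y, V)).obj ωB)
    (M : Dual.D A) {T : Set (f ⁻¹ᵁ V : Scheme.{u})} (hT : IsClosed T) (hTj : T ⊆ Set.range j)
    (hM : ∀ i : ℤ, CohB1.support (DCoh.HD ((DCoh.tildeD (CommRingCat.of A)).obj M) i) ⊆ j ⁻¹' T) :
    ∃ Φ : (M ⟶ ωA) ≃+ ((DRing.restrictD φ).obj M ⟶ ωB),
      ∀ (r : Γ(Y, V)) (v : M ⟶ ωA), Φ (φ r • v) = r • Φ v := by
  haveI : IsLocallyNoetherian X := LocallyOfFiniteType.isLocallyNoetherian f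
  haveI : CompactSpace X := QuasiCompact.compactSpace_of_compactSpace f
  haveI : IsNoetherian X := ⟨⟩
  let W := f ⁻¹ᵁ V
  let fW := f ∣_ V
  let σ := hV.isoSpec
  let tA := DCoh.tildeD (CommRingCat.of A)
  let tB := DCoh.tildeD Γ(Y, V)
  obtain ⟨_, _, hqA⟩ := Groth.Agent.S0997.result (CommRingCat.of A)
  obtain ⟨_, _, -⟩ := Groth.Agent.S0997.result Γ(Y, V)
  haveI : IsLocallyNoetherian (W : Scheme.{u}) := inferInstance
  haveI : CompactSpace (W : Scheme.{u}) :=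
    isCompact_iff_compactSpace.mp (TopologicalSpace.NoetherianSpace.isCompact _)
  haveI : IsNoetherian (W : Scheme.{u}) := ⟨⟩
  haveI : QuasiCompact j := quasiCompact_of_compactSpace _
  haveI := DCohRestrLib.hasRpush fW
  haveI := DCohRestrLib.hasRpush σ.hom
  haveI := DCohRestrLib.hasRpush σ.inv
  haveI := DCohRestrLib.hasRpush (fW ≫ σ.hom)
  haveI := DCohRestrLib.hasRpush j
  haveI := DCohRestrLib.hasRpush (j ≫ fW ≫ σ.hom)
  haveI := DCohRestrLib.hasRpush (Spec.map (CommRingCat.ofHom φ))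
  haveI := KFlatLib.hasLpull fW
  haveI := KFlatLib.hasLpull j
  haveI := KFlatLib.hasLpull σ.hom
  haveI := KFlatLib.hasLpull σ.inv
  haveI := KFlatLib.hasLpull (fW ≫ σ.hom)
  haveI := KFlatLib.hasLpull (j ≫ fW ≫ σ.hom)
  obtain ⟨Φ₀, hΦ₀⟩ := exists_homEquiv f hf a adj Q c V
  obtain ⟨c₁⟩ := KFlatLib.rpush_comp fW σ.hom
  obtain ⟨c₂⟩ := KFlatLib.rpush_comp j (fW ≫ σ.hom)
  obtain ⟨c₃⟩ := nonempty_rpush_congr_nat (show j ≫ fW ≫ σ.hom = Spec.map (CommRingCat.ofHom φ) from hφ)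
  obtain ⟨c₄⟩ := TildeDerLib.nonempty_rpushTildeDIso (CommRingCat.ofHom φ)
  -- the composite, as a natural isomorphism
  let G : Dual.D A ⥤ DCoh.D (Spec Γ(Y, V)) := tA ⋙ DCoh.Rpush j ⋙ DCoh.Rpush fW ⋙ DCoh.Rpush σ.hom
  let eG : G ≅ DRing.restrictD φ ⋙ tB :=
    Functor.isoWhiskerLeft tA (Functor.isoWhiskerLeft (DCoh.Rpush j) c₁ ≪≫ c₂ ≪≫ c₃) ≪≫ c₄
  obtain ⟨s₁⟩ := nonempty_rpush_iso_restrictD σ ((DCoh.restrictD V.ι).obj Q.obj)
  let eQ : (DCoh.Rpush σ.hom).obj ((DCoh.restrictD V.ι).obj Q.obj) ≅ tB.obj ωB :=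
    s₁ ≪≫ (DualCxLib.restrictCompIso σ.inv V.ι Q.obj).symm ≪≫
      DualCxLib.restrictCongrIso hV.isoSpec_inv_ι Q.obj ≪≫ eB
  haveI : (DCoh.Rpush σ.hom).Full :=
    haveI := KoszOrthLib.isIso_counit σ.hom (KoszOrthLib.restrictRpushAdj σ.hom)
    (KoszOrthLib.restrictRpushAdj σ.hom).fullyFaithfulROfIsIsoCounit.full
  haveI : (DCoh.Rpush σ.hom).Faithful :=
    haveI := KoszOrthLib.isIso_counit σ.hom (KoszOrthLib.restrictRpushAdj σ.hom)
    (KoszOrthLib.restrictRpushAdj σ.hom).fullyFaithfulROfIsIsoCounit.faithful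
  haveI := KoszOrthLib.isIso_counit j (KoszOrthLib.restrictRpushAdj j)
  let cj : (DCoh.restrictD j).obj ((DCoh.Rpush j).obj (tA.obj M)) ≅ tA.obj M :=
    (asIso (KoszOrthLib.restrictRpushAdj j).counit).app _
  let E := (DCoh.Rpush j).obj (tA.obj M)
  have hEq : DCoh.IsQCohD E := QRlimLib.isQCohD_rpush j ((hqA _).2 ⟨M, ⟨Iso.refl _⟩⟩)
  have hE : ∀ i : ℤ, CohB1.support (DCoh.HD E i) ⊆ T := fun i => by
    have hj : IsClosed (j.base '' (j ⁻¹' T)) := by
      rw [Set.image_preimage_eq_of_subset hTj]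
      exact hT
    exact (DCohRestrLib.support_HD_Rpush_subset j _ hj _ hM i).trans (Set.image_preimage_subset _ _)
  let WQ := (DCoh.restrictD W.ι).obj (a.obj Q).obj
  let β : (E ⟶ WQ) → (M ⟶ ωA) := fun ψ => tA.preimage (cj.inv ≫ (DCoh.restrictD j).map ψ ≫ eA.hom)
  have hβ : Function.Bijective β := by
    refine ⟨fun p q h => (bijective_restrictD j hT hTj E hE WQ).1 ?_, fun v => ?_⟩
    · have h' := congrArg tA.map h
      simp only [β, Functor.map_preimage] at h'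
      exact (cancel_mono eA.hom).1 ((cancel_epi cj.inv).1 h')
    · obtain ⟨ψ, hψ⟩ := (bijective_restrictD j hT hTj E hE WQ).2 (cj.hom ≫ tA.map v ≫ eA.inv)
      refine ⟨ψ, tA.map_injective ?_⟩
      simp only [β, Functor.map_preimage]
      rw [show (DCoh.restrictD j).map ψ = cj.hom ≫ tA.map v ≫ eA.inv from hψ]
      simp
  let γ : (E ⟶ WQ) → ((DRing.restrictD φ).obj M ⟶ ωB) := fun ψ =>
    tB.preimage (eG.inv.app M ≫ (DCoh.Rpush σ.hom).map (Φ₀ E hEq ψ) ≫ eQ.hom)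
  have hγ : Function.Bijective γ := by
    refine ⟨fun p q h => (Φ₀ E hEq).injective ((DCoh.Rpush σ.hom).map_injective ?_), fun w => ?_⟩
    · have h' := congrArg tB.map h
      simp only [γ, Functor.map_preimage] at h'
      exact (cancel_mono eQ.hom).1 ((cancel_epi (eG.inv.app M)).1 h')
    · obtain ⟨ψ, hψ⟩ := (Φ₀ E hEq).surjective
        ((DCoh.Rpush σ.hom).preimage (eG.hom.app M ≫ tB.map w ≫ eQ.inv))
      refine ⟨ψ, tB.map_injective ?_⟩
      simp only [γ, Functor.map_preimage, hψ]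
      simp
  haveI : (DCoh.restrictD j).Additive := inferInstance
  haveI : (DCoh.Rpush σ.hom).Additive := (KoszOrthLib.restrictRpushAdj σ.hom).right_adjoint_additive
  have βadd : ∀ p q, β (p + q) = β p + β q := fun p q => tA.map_injective (by
    simp [β, Preadditive.comp_add, Preadditive.add_comp])
  have γadd : ∀ p q, γ (p + q) = γ p + γ q := fun p q => tB.map_injective (by
    simp [γ, Preadditive.comp_add, Preadditive.add_comp])
  let B₁ := AddEquiv.ofBijective (AddMonoidHom.mk' β βadd) hβ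
  let G₁ := AddEquiv.ofBijective (AddMonoidHom.mk' γ γadd) hγ
  refine ⟨B₁.symm.trans G₁, fun r v => ?_⟩
  obtain ⟨ψ, rfl⟩ := B₁.surjective v
  let e : M ⟶ M := φ r • 𝟙 M
  let u : E ⟶ E := (DCoh.Rpush j).map (tA.map e)
  have hβu : β (u ≫ ψ) = φ r • β ψ := by
    have h1 : φ r • β ψ = e ≫ β ψ := by simp [e]
    rw [h1]
    apply tA.map_injective
    simp only [β, Functor.map_preimage, Functor.map_comp, Category.assoc]
    exact (reassoc_of% ((asIso (KoszOrthLib.restrictRpushAdj j).counit).inv.naturality (tA.map e))) _ |>.symm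
  have hγu : γ (u ≫ ψ) = r • γ ψ := by
    have h1 : r • γ ψ = (DRing.restrictD φ).map e ≫ γ ψ := by
      rw [show (DRing.restrictD φ).map e = r • 𝟙 _ from DualCxLib.restrictD_smul_id φ r M]
      simp
    rw [h1]
    apply tB.map_injective
    simp only [γ, Functor.map_preimage, Functor.map_comp, Category.assoc, hΦ₀ E E hEq hEq u ψ]
    exact (reassoc_of% (eG.inv.naturality e)) _ |>.symm
  show G₁ (B₁.symm (φ r • B₁ ψ)) = r • G₁ (B₁.symm (B₁ ψ))
  rw [show φ r • B₁ ψ = B₁ (u ≫ ψ) from hβu.symm, AddEquiv.symm_apply_apply, AddEquiv.symm_apply_apply]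
  exact hγu

end Groth.Agent.Dual3Lib
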