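import Groth.Agent.ExtVanLib.Main
import Groth.Agent.DualCxLib.DimFnLocal

/-!
# An object orthogonal to a residue field vanishes at the point
-/

set_option autoImplicit false
set_option linter.style.haveILetI false
set_option backward.isDefEq.respectTransparency false
set_option backward.isDefEq.respectTransparency.types false
set_option maxHeartbeats 1000000

universe u

open CategoryTheory CategoryTheory.Limits CategoryTheory.Pretriangulated
open Groth.Agent Groth.Agent.DualCxLib
open DTenLib.Point (hH sg)

attribute [local instance] HasDerivedCategory.standard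

noncomputable section

namespace Groth.Agent.Dual3Lib.PointOrth

variable {A : Type u} [CommRing A] {R : Dual.D A}

theorem extMap_smul_id (N : ModuleCat.{u} A) (x : A) (i : ℤ) (f : Ext R N i) :
    extMap R (x • 𝟙 N) i f = x • f := by
  change (DerivedCategory.singleFunctor (ModuleCat.{u} A) 0).map (x • 𝟙 N) ≫ f = x • f
  rw [Functor.map_smul, CategoryTheory.Functor.map_id, Linear.smul_comp, Category.id_comp]

/-- `Ext` classes extend along a monomorphism up to torsion of the next group of the cokernel. -/
theorem exists_extend_tor {S : ShortComplex (ModuleCat.{u} A)} (hS : S.ShortExact) {s : Submonoid A}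
    (i : ℤ) (h : Tor s (Ext R S.X₃ (i + 1))) (f : Ext R S.X₁ i) :
    ∃ a ∈ s, ∃ g : Ext R S.X₂ i, a • f = extMap R S.f i g := by
  have hT := Pretriangulated.inv_rot_of_distTriang _ hS.singleTriangle_distinguished
  let E : (hS.singleTriangle.obj₃⟦(-1 : ℤ)⟧ ⟶ R⟦i⟧) ≃ₗ[A] Ext R S.X₃ (i + 1) :=
    (shiftL _ (R⟦i⟧) 1).trans (postcompL _ (shift₂ R i 1 (i + 1) rfl))
  let c : hS.singleTriangle.obj₃⟦(-1 : ℤ)⟧ ⟶ R⟦i⟧ := hS.singleTriangle.invRotate.mor₁ ≫ f
  obtain ⟨a, ha, hac⟩ := h (E c)
  refine ⟨a, ha, ?_⟩
  obtain ⟨g, hg⟩ := Triangle.yoneda_exact₂ _ hT (a • f) (by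
    refine E.injective ?_
    rw [map_zero, ← hac, ← map_smul]
    exact congrArg E (Linear.comp_smul _ _ _ _ _ _))
  exact ⟨g, hg⟩

variable [IsNoetherianRing A] (m : Ideal A) [m.IsMaximal]

/-- Torsion at `m` of all `Ext` from a residue domain. -/
theorem tor_ext_all {a : ℤ} (hge : R.IsGE a) (hfin : ∀ i, Module.Finite A ((hH A i).obj R))
    (h : ∀ i : ℤ, Subsingleton (Ext R (ModuleCat.of A (A ⧸ m)) i)) :
    ∀ (q : PrimeSpectrum A) (i : ℤ), Tor m.primeCompl (Ext R (ModuleCat.of A (A ⧸ q.asIdeal)) i) := by
  suffices H : ∀ (I : Ideal A) (q : PrimeSpectrum A), q.asIdeal = I →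
      ∀ i : ℤ, Tor m.primeCompl (Ext R (ModuleCat.of A (A ⧸ q.asIdeal)) i) from fun q => H _ q rfl
  intro I
  induction I using WellFoundedGT.induction with
  | ind I ih =>
    rintro q rfl i
    by_cases hqm : q.asIdeal ≤ m
    swap
    · obtain ⟨a, haq, ham⟩ := Set.not_subset.1 hqm
      refine fun f => ⟨a, ham, ?_⟩
      have : a • 𝟙 (ModuleCat.of A (A ⧸ q.asIdeal)) = 0 := ModuleCat.hom_ext (LinearMap.ext fun y => by
        obtain ⟨b, rfl⟩ := Submodule.mkQ_surjective q.asIdeal y
        show a • (Submodule.mkQ q.asIdeal b) = 0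
        rw [← map_smul, Submodule.mkQ_apply, Submodule.Quotient.mk_eq_zero, smul_eq_mul]
        exact Ideal.mul_mem_right _ _ haq)
      rw [← extMap_smul_id, this]
      show (DerivedCategory.singleFunctor (ModuleCat.{u} A) 0).map 0 ≫ f = 0
      rw [Functor.map_zero, zero_comp]
    rcases eq_or_lt_of_le hqm with e | hlt
    · refine fun f => ⟨1, m.primeCompl.one_mem, ?_⟩
      haveI := ExtVanLib.subsingleton_ext_congr R (Submodule.quotEquivOfEq _ _ e).toModuleIso i (h i)
      exact Subsingleton.elim _ _
    obtain ⟨x, hxm, hxq⟩ := Set.exists_of_ssubset hlt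
    let P₀ := A ⧸ q.asIdeal
    let mx : P₀ →ₗ[A] P₀ := x • LinearMap.id
    let I' := q.asIdeal ⊔ Ideal.span {x}
    let π : P₀ →ₗ[A] A ⧸ I' := Submodule.factor le_sup_left
    have hinj : Function.Injective mx := (injective_iff_map_eq_zero _).2 fun y hy => by
      obtain ⟨b, rfl⟩ := Submodule.mkQ_surjective q.asIdeal y
      rw [LinearMap.smul_apply, LinearMap.id_apply, ← map_smul, Submodule.mkQ_apply,
        Submodule.Quotient.mk_eq_zero, smul_eq_mul] at hy
      exact (Submodule.Quotient.mk_eq_zero q.asIdeal).2 ((q.2.mem_or_mem hy).resolve_left hxq)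
    have hex : Function.Exact mx π := by
      intro y
      obtain ⟨b, rfl⟩ := Submodule.mkQ_surjective q.asIdeal y
      rw [Submodule.mkQ_apply, show π (Submodule.Quotient.mk b) = Submodule.Quotient.mk b from rfl,
        Submodule.Quotient.mk_eq_zero]
      constructor
      · intro hb
        obtain ⟨u, hu, v, hv, rfl⟩ := Submodule.mem_sup.1 hb
        obtain ⟨c, rfl⟩ := Ideal.mem_span_singleton'.1 hv
        refine ⟨Submodule.Quotient.mk c, ?_⟩
        rw [LinearMap.smul_apply, LinearMap.id_apply, ← Submodule.Quotient.mk_smul, Submodule.Quotient.eq,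
          smul_eq_mul]
        simpa [mul_comm c x] using q.asIdeal.neg_mem hu
      · rintro ⟨z, hz⟩
        obtain ⟨c, rfl⟩ := Submodule.mkQ_surjective q.asIdeal z
        rw [LinearMap.smul_apply, LinearMap.id_apply, ← map_smul, Submodule.mkQ_apply, Submodule.Quotient.eq,
          smul_eq_mul] at hz
        rw [show b = x * c - (x * c - b) by ring]
        exact sub_mem (Ideal.mem_sup_right (Ideal.mul_mem_right _ _ (Ideal.mem_span_singleton_self x)))
          (Ideal.mem_sup_left hz)
    obtain ⟨w, hS⟩ := ExtVanLib.shortExact_mk mx π hinj (Submodule.factor_surjective _) hex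
    have hQ : ∀ (j : ℤ), Tor m.primeCompl (Ext R (ModuleCat.of A (A ⧸ I')) j) := fun j => by
      suffices ∀ (N : Type u) [AddCommGroup N] [Module A N] [Module.Finite A N],
          (∀ c ∈ I', ∀ y : N, c • y = 0) → Tor m.primeCompl (Ext R (ModuleCat.of A N) j) from
        this (A ⧸ I') fun c hc y => by
          obtain ⟨b, rfl⟩ := Submodule.mkQ_surjective I' y
          rw [← map_smul, Submodule.mkQ_apply, Submodule.Quotient.mk_eq_zero, smul_eq_mul]
          exact Ideal.mul_mem_right _ _ hc
      intro N _ _ _
      induction ‹Module.Finite A N› using IsNoetherianRing.induction_on_isQuotientEquivQuotientPrime A with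
      | subsingleton N' =>
        intro _
        haveI : Subsingleton (ModuleCat.of A N') := ‹Subsingleton N'›
        exact fun f => ⟨1, m.primeCompl.one_mem, ((DerivedCategory.singleFunctor (ModuleCat.{u} A) 0).map_isZero
          (ModuleCat.isZero_of_subsingleton _)).eq_of_src _ _⟩
      | quotient N' p e =>
        intro hp
        have hle : I' ≤ p.asIdeal := fun c hc => by
          have h2 : e (c • e.symm (1 : A ⧸ p.asIdeal)) = 0 := by rw [hp c hc, map_zero]
          rw [map_smul, e.apply_symm_apply] at h2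
          exact Ideal.Quotient.eq_zero_iff_mem.1 (by rw [← h2, Algebra.smul_def, mul_one]; rfl)
        exact ExtVanLib.tor_ext_congr R e.toModuleIso j (ih p.asIdeal
          (lt_of_le_of_ne (le_sup_left.trans hle) fun heq => hxq (heq ▸ hle (Ideal.mem_sup_right
            (Ideal.mem_span_singleton_self x)))) p rfl j)
      | exact N₁ N₂ N₃ f g hf hg hfg h₁ h₃ =>
        intro hp
        obtain ⟨w', hS'⟩ := ExtVanLib.shortExact_mk f g hf hg hfg
        exact ExtVanLib.tor_ext₂ R hS' j (h₁ fun c hc y => hf (by rw [map_smul, hp c hc, map_zero]))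
          (h₃ fun c hc y => by
            obtain ⟨z, rfl⟩ := hg y
            rw [← map_smul, hp c hc, map_zero])
    let E := Ext R (ModuleCat.of A P₀) i
    haveI := isNoetherian_ext hge hfin (ModuleCat.of A P₀) i
    have hdiv : ∀ f : E, ∃ a ∈ m.primeCompl, ∃ g : E, a • f = x • g := fun f => by
      obtain ⟨a, ha, g, hg⟩ := exists_extend_tor hS i (hQ (i + 1)) f
      exact ⟨a, ha, g, hg.trans (extMap_smul_id _ x i g)⟩
    let S := m.primeCompl
    haveI : Module.Finite (Localization.AtPrime m) (LocalizedModule S E) :=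
      Module.Finite.of_isLocalizedModule S (LocalizedModule.mkLinearMap S E)
    have htop : (⊤ : Submodule (Localization.AtPrime m) (LocalizedModule S E)) ≤
        IsLocalRing.maximalIdeal (Localization.AtPrime m) • ⊤ := by
      rintro y -
      induction y using LocalizedModule.induction_on with
      | _ f s =>
        obtain ⟨a, ha, g, hg⟩ := hdiv f
        have e : LocalizedModule.mk f s =
            algebraMap A (Localization.AtPrime m) x • LocalizedModule.mk g (⟨a, ha⟩ * s) := by
          rw [algebraMap_smul, LocalizedModule.smul'_mk, ← hg]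
          exact (LocalizedModule.mk_cancel_common_left ⟨a, ha⟩ s f).symm
        rw [e]
        refine Submodule.smul_mem_smul ?_ Submodule.mem_top
        rw [← Localization.AtPrime.map_eq_maximalIdeal]
        exact Ideal.mem_map_of_mem _ hxm
    have hbot := Submodule.eq_bot_of_le_smul_of_le_jacobson_bot _ ⊤ Module.Finite.fg_top htop
      (IsLocalRing.jacobson_eq_maximalIdeal _ bot_ne_top).ge
    haveI : Subsingleton (LocalizedModule S E) :=
      (Submodule.subsingleton_iff (Localization.AtPrime m)).1 (subsingleton_of_bot_eq_top hbot.symm)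
    exact LocalizedModule.subsingleton_iff.1 ‹_›

/-- Cohomology of an object orthogonal to the residue field is torsion at the point. -/
theorem tor_homology {a : ℤ} (hge : R.IsGE a) (hfin : ∀ i, Module.Finite A ((hH A i).obj R))
    (h : ∀ i : ℤ, Subsingleton (Ext R (ModuleCat.of A (A ⧸ m)) i)) (i : ℤ) :
    Tor m.primeCompl ((hH A i).obj R) := by
  refine Tor.of_injective (extHL R i).symm.toLinearMap (extHL R i).symm.injective ?_
  suffices ∀ (N : Type u) [AddCommGroup N] [Module A N] [Module.Finite A N],
      Tor m.primeCompl (Ext R (ModuleCat.of A N) i) from this A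
  intro N _ _ _
  induction ‹Module.Finite A N› using IsNoetherianRing.induction_on_isQuotientEquivQuotientPrime A with
  | subsingleton N' =>
    haveI : Subsingleton (ModuleCat.of A N') := ‹Subsingleton N'›
    exact fun f => ⟨1, m.primeCompl.one_mem, ((DerivedCategory.singleFunctor (ModuleCat.{u} A) 0).map_isZero
      (ModuleCat.isZero_of_subsingleton _)).eq_of_src _ _⟩
  | quotient N' p e => exact ExtVanLib.tor_ext_congr R e.toModuleIso i (tor_ext_all m hge hfin h p i)
  | exact N₁ N₂ N₃ f g hf hg hfg h₁ h₃ =>
    obtain ⟨w', hS'⟩ := ExtVanLib.shortExact_mk f g hf hg hfg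
    exact ExtVanLib.tor_ext₂ R hS' i h₁ h₃

end Groth.Agent.Dual3Lib.PointOrth
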