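import Groth.Agent.Dual3Lib.EvalSpec
import Groth.Agent.Dual3Lib.SuppBij
import Groth.Agent.KoszOrthLib.Adj
import Groth.Agent.CycSpLib.Sheaf
import Groth.Agent.CycDegLib.Stalk
import Groth.Agent.DevissLib.ClosedImm
import Groth.Agent.KFlatLib.QCohTerms
import Groth.Agent.FormalCohLib.Supp

/-!
# Maps to point sheaves
-/

set_option autoImplicit false
set_option linter.style.haveILetI false
set_option backward.isDefEq.respectTransparency false
set_option backward.isDefEq.respectTransparency.types false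
set_option maxHeartbeats 1000000

universe u

open CategoryTheory CategoryTheory.Limits AlgebraicGeometry DerivedCategory

attribute [local instance] HasDerivedCategory.standard

noncomputable section

namespace Groth.Agent.Dual3Lib

variable {X : Scheme.{u}}

/-- The point sheaf. -/
abbrev ptSheaf (x : X) : X.Modules := (Coh.push (X.fromSpecResidueField x)).obj (Coh.structureModule _)

theorem support_ptSheaf {x : X} (hx : IsClosed ({x} : Set X)) : CohB1.support (ptSheaf x) ⊆ {x} := by
  haveI : IsClosedImmersion (X.fromSpecResidueField x) := isClosed_singleton_iff_isClosedImmersion.1 hx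
  exact (DevissLib.support_push_subset _ _).trans (Scheme.range_fromSpecResidueField x).le

theorem exists_functional {K : Type u} [CommRing K] (hK : IsField K) (V : ModuleCat.{u} K) (hV : ¬ IsZero V) :
    ∃ (l : V ⟶ ModuleCat.of K K), l ≠ 0 := by
  letI : Field K := hK.toField
  by_contra h
  push Not at h
  refine hV (@ModuleCat.isZero_of_subsingleton _ _ _ ⟨fun a b => sub_eq_zero.1 ?_⟩)
  exact (Module.forall_dual_apply_eq_zero_iff K (a - b)).1 fun l =>
    LinearMap.congr_fun (ModuleCat.hom_ext_iff.1 (h (ModuleCat.ofHom l))) (a - b)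

theorem exists_ne_zero_to_unit {K : CommRingCat.{u}} (hK : IsField K) (G : (Spec K).Modules) [Coh.IsQCoh G]
    (hG : ¬ IsZero G) : ∃ φ : G ⟶ Coh.structureModule (Spec K), φ ≠ 0 := by
  haveI := KFlatLib.isIso_counit_of_qcoh G inferInstance
  let e : (tilde.functor K).obj (moduleSpecΓFunctor.obj G) ≅ G :=
    asIso ((tilde.adjunction (R := K)).counit.app G)
  obtain ⟨l, hl⟩ := exists_functional hK (moduleSpecΓFunctor.obj G)
    fun hz => hG (((tilde.functor K).map_isZero hz).of_iso e.symm)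
  refine ⟨e.inv ≫ (tilde.functor K).map l ≫ (tildeSelf (R := K)).hom, fun h => hl ?_⟩
  haveI : (tilde.functor K).Faithful := (tilde.adjunction (R := K)).fullyFaithfulLOfIsIsoUnit.faithful
  refine (tilde.functor K).map_injective ?_
  rw [Functor.map_zero, ← cancel_epi e.inv, ← cancel_mono (tildeSelf (R := K)).hom, Category.assoc, h,
    comp_zero, zero_comp]

/-- A coherent module maps non-trivially to the point sheaf at a point of its support. -/
theorem exists_ne_zero_to_pt [IsLocallyNoetherian X] {M : X.Modules} (hM : Coh.IsCoh M) {x : X}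
    (hx : x ∈ CohB1.support M) : ∃ ψ : M ⟶ ptSheaf x, ψ ≠ 0 := by
  let i := X.fromSpecResidueField x
  let G := (Scheme.Modules.pullback i).obj M
  haveI := hM.1
  haveI : Coh.IsQCoh G := KFlatLib.isQCoh_pullback i M
  let w : ↥(Spec (X.residueField x)) := IsLocalRing.closedPoint _
  have hw : i w = x := X.fromSpecResidueField_apply x w
  have hG : ¬ IsZero G := fun h => by
    have h0 : Subsingleton (G.presheaf.stalk w) := by
      by_contra hn
      have : w ∈ CohB1.support G := hn
      rw [(DCohRestrLib.isZero_iff_support_empty _).1 h] at this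
      exact this
    have hl := CycSpLib.length_stalk_pullback_preimmersion i M w
    rw [Module.length_eq_zero_iff.2 h0] at hl
    haveI h1 := Module.length_eq_zero_iff.1 hl.symm
    haveI : Module.Finite (X.presheaf.stalk (i w)) (M.presheaf.stalk (i w)) :=
      CycDegLib.finite_stalk hM (i w)
    have htop : RingHom.ker (i.stalkMap w).hom •
        (⊤ : Submodule (X.presheaf.stalk (i w)) (M.presheaf.stalk (i w))) = ⊤ :=
      Submodule.Quotient.subsingleton_iff.1 h1
    haveI : IsLocalHom (i.stalkMap w).hom := inferInstance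
    have hle : RingHom.ker (i.stalkMap w).hom ≤ (⊥ : Ideal (X.presheaf.stalk (i w))).jacobson := by
      rw [IsLocalRing.jacobson_eq_maximalIdeal _ bot_ne_top]
      exact IsLocalRing.le_maximalIdeal (RingHom.ker_ne_top _)
    have hbot := Submodule.eq_bot_of_le_smul_of_le_jacobson_bot _ ⊤
      Module.Finite.fg_top htop.ge hle
    have : Subsingleton (M.presheaf.stalk (i w)) :=
      (Submodule.subsingleton_iff (X.presheaf.stalk (i w))).1 (subsingleton_of_bot_eq_top hbot.symm)
    rw [hw] at this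
    exact hx this
  obtain ⟨φ, hφ⟩ := exists_ne_zero_to_unit (Semifield.toIsField (X.residueField x)) G hG
  let adj := Scheme.Modules.pullbackPushforwardAdjunction i
  refine ⟨adj.homEquiv _ _ φ, fun h => hφ ((adj.homEquiv _ _).injective (h.trans ?_))⟩
  simp [Adjunction.homEquiv_unit]

/-- Restriction to an open is bijective on maps into an object supported on a closed subset of it. -/
theorem bijective_restrictD_target (U : X.Opens) {T : Set X} (hT : IsClosed T) (hTU : T ⊆ (U : Set X))
    (K P : DCoh.D X) (hP : ∀ i : ℤ, CohB1.support (DCoh.HD P i) ⊆ T) :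
    Function.Bijective (fun φ : K ⟶ P => (DCoh.restrictD U.ι).map φ) := by
  haveI := DCohRestrLib.hasRpush U.ι
  let adj := KoszOrthLib.restrictRpushAdj U.ι
  haveI := KoszOrthLib.isIso_counit U.ι adj
  obtain ⟨e⟩ := DCohRestrLib.nonempty_iso_Rpush_restrict U T hT hTU P hP
  haveI := adj.fullyFaithfulROfIsIsoCounit.full
  haveI := adj.fullyFaithfulROfIsIsoCounit.faithful
  haveI : IsIso (adj.unit.app P) := adj.isIso_unit_app_of_iso e
  have h : (fun φ : K ⟶ P => (DCoh.restrictD U.ι).map φ) =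
      (adj.homEquiv _ _).symm ∘ fun φ => φ ≫ adj.unit.app P := funext fun φ => by
    refine ((adj.homEquiv _ _).symm_apply_eq.2 ?_).symm
    rw [Adjunction.homEquiv_unit]
    exact adj.unit.naturality φ
  rw [h]
  exact (Equiv.bijective _).comp
    ⟨fun a b hab => (cancel_mono (adj.unit.app P)).1 hab, fun ψ => ⟨ψ ≫ inv (adj.unit.app P), by simp⟩⟩

theorem support_HD_inD_shift {x : X} (hx : IsClosed ({x} : Set X)) (n j : ℤ) :
    CohB1.support (DCoh.HD ((DCoh.inD X (ptSheaf x))⟦n⟧) j) ⊆ {x} := by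
  intro y hy
  by_cases h : n + j = 0
  · refine support_ptSheaf hx fun hs => hy ?_
    exact (DCohRestrLib.subsingleton_stalk_of_iso
      (((DerivedCategory.homologyFunctor X.Modules 0).shiftIso n j (n + j) rfl).app _ ≪≫
        eqToIso (by rw [h]; rfl) ≪≫ (DerivedCategory.singleFunctorCompHomologyFunctorIso X.Modules 0).app _) y).2 hs
  · have hz : IsZero (DCoh.HD ((DCoh.inD X (ptSheaf x))⟦n⟧) j) := IsZero.of_iso
      (if hlt : n + j < 0 then DerivedCategory.isZero_of_isGE _ 0 (n + j) hlt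
        else DerivedCategory.isZero_of_isLE _ 0 (n + j) (by omega))
      (((DerivedCategory.homologyFunctor X.Modules 0).shiftIso n j (n + j) rfl).app _)
    rw [(DCohRestrLib.isZero_iff_support_empty _).1 hz] at hy
    exact hy.elim

/-- An open neighbourhood of `x` over which the object is bounded above by `m`. -/
theorem exists_nhd_isLE [IsLocallyNoetherian X] {K : DCoh.D X} (hK : DCoh.IsCohD K) (c : ℤ) [K.IsLE c]
    (x : X) (m : ℤ) (h : ∀ i, m < i → x ∉ CohB1.support (DCoh.HD K i)) :
    ∃ U : X.Opens, x ∈ U ∧ ((DCoh.restrictD U.ι).obj K).IsLE m := by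
  let S : Set X := ⋃ i ∈ Finset.Ioc m c, CohB1.support (DCoh.HD K i)
  have hS : IsClosed S := isClosed_biUnion_finset fun i _ => QCohLib.isClosed_support _ (hK i).2
  refine ⟨⟨Sᶜ, hS.isOpen_compl⟩, fun hx => ?_, (DerivedCategory.isLE_iff _ m).2 fun i hi => ?_⟩
  · obtain ⟨i, hi, hx⟩ := Set.mem_iUnion₂.1 hx
    exact h i (Finset.mem_Ioc.1 hi).1 hx
  · by_cases hic : c < i
    · exact ((Scheme.Modules.restrictFunctor _).map_isZero (K.isZero_of_isLE c i hic)).of_iso
        (DCohRestrLib.restrictHDIso _ K i)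
    · rw [DCohRestrLib.isZero_iff_support_empty, Set.eq_empty_iff_forall_notMem]
      intro w hw
      rw [DCohRestrLib.support_HD_restrictD] at hw
      exact w.2 (Set.mem_iUnion₂.2 ⟨i, Finset.mem_Ioc.2 ⟨hi, not_lt.1 hic⟩, hw⟩)

/-- The stalk criterion. -/
theorem stalks_vanish_iff [IsLocallyNoetherian X] {x : X} (hx : IsClosed ({x} : Set X)) {K : DCoh.D X}
    (hK : DCoh.IsCohD K) (c : ℤ) [K.IsLE c] (b : ℤ) :
    (∀ i : ℤ, b < i → x ∉ CohB1.support (DCoh.HD K i)) ↔
      ∀ i : ℤ, b < i → ∀ φ : K ⟶ (DCoh.inD X (ptSheaf x))⟦-i⟧, φ = 0 := by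
  constructor
  · intro h i hi φ
    obtain ⟨U, hxU, hU⟩ := exists_nhd_isLE hK c x b h
    haveI := hU
    refine (bijective_restrictD_target U hx (Set.singleton_subset_iff.2 hxU) K _
      (support_HD_inD_shift hx (-i))).1 ?_
    haveI : ((DCoh.inD X (ptSheaf x))⟦-i⟧).IsGE i := TStructure.t.isGE_shift _ 0 (-i) i (by omega)
    haveI : ((DCoh.restrictD U.ι).obj ((DCoh.inD X (ptSheaf x))⟦-i⟧)).IsGE i :=
      (DerivedCategory.isGE_iff _ i).2 fun j hj =>
        ((Scheme.Modules.restrictFunctor _).map_isZero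
          (DerivedCategory.isZero_of_isGE _ i j hj)).of_iso (DCohRestrLib.restrictHDIso _ _ j)
    simp only [Functor.map_zero]
    exact TStructure.t.zero _ b i hi
  · intro h
    by_contra hne
    push Not at hne
    obtain ⟨i₁, hi₁, hx₁⟩ := hne
    obtain ⟨i₀, ⟨hi₀, hx₀⟩, hmax⟩ := Int.exists_greatest_of_bdd
      (P := fun i => b < i ∧ x ∈ CohB1.support (DCoh.HD K i))
      ⟨c, fun i hi => not_lt.1 fun hc => by
        have := hi.2
        rw [(DCohRestrLib.isZero_iff_support_empty _).1 (K.isZero_of_isLE c i hc)] at this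
        exact this⟩ ⟨i₁, hi₁, hx₁⟩
    obtain ⟨U, hxU, hU⟩ := exists_nhd_isLE hK c x i₀ fun i hi hxi =>
      not_le.2 hi (hmax i ⟨hi₀.trans hi, hxi⟩)
    haveI := hU
    let R := DCoh.restrictD U.ι
    let Res := Scheme.Modules.restrictFunctor U.ι
    let P₀ := DCoh.inD X (ptSheaf x)
    obtain ⟨ψ, hψ⟩ := exists_ne_zero_to_pt (hK i₀) hx₀
    let eK : DCoh.HD (K⟦i₀⟧) 0 ≅ DCoh.HD K i₀ :=
      ((DerivedCategory.homologyFunctor X.Modules 0).shiftIso i₀ 0 i₀ (add_zero _)).app K
    let eP : DCoh.HD P₀ 0 ≅ ptSheaf x := (DerivedCategory.singleFunctorCompHomologyFunctorIso X.Modules 0).app _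
    haveI : (R.obj (K⟦i₀⟧)).IsLE 0 := by
      haveI : ((R.obj K)⟦i₀⟧).IsLE 0 := TStructure.t.isLE_shift _ i₀ i₀ 0 (by omega)
      have e : (R.obj K)⟦i₀⟧ ≅ R.obj (K⟦i₀⟧) := ((R.commShiftIso i₀).app K).symm
      exact TStructure.t.isLE_of_iso e 0
    haveI : (R.obj P₀).IsGE 0 := (DerivedCategory.isGE_iff _ 0).2 fun j hj =>
      (Res.map_isZero (DerivedCategory.isZero_of_isGE P₀ 0 j hj)).of_iso (DCohRestrLib.restrictHDIso _ _ j)
    obtain ⟨g, hg⟩ := (bijective_homologyMap (K := R.obj (K⟦i₀⟧)) (L := R.obj P₀) 0).2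
      ((DCohRestrLib.restrictHDIso U.ι (K⟦i₀⟧) 0).hom ≫ Res.map (eK.hom ≫ ψ ≫ eP.inv) ≫
        (DCohRestrLib.restrictHDIso U.ι P₀ 0).inv)
    have hsupp : ∀ j, CohB1.support (DCoh.HD P₀ j) ⊆ {x} := fun j y hy => by
      refine support_HD_inD_shift hx 0 j (fun hs => hy ?_)
      exact (DCohRestrLib.subsingleton_stalk_of_iso ((DerivedCategory.homologyFunctor X.Modules j).mapIso
        ((shiftFunctorZero (DCoh.D X) ℤ).app P₀)) y).1 hs
    obtain ⟨f, hf⟩ := (bijective_restrictD_target U hx (Set.singleton_subset_iff.2 hxU) (K⟦i₀⟧) P₀ hsupp).2 g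
    have hf0 : f = 0 := by
      let j : (P₀⟦-i₀⟧)⟦i₀⟧ ≅ P₀ := (shiftFunctorCompIsoId (DCoh.D X) (-i₀) i₀ (by omega)).app P₀
      obtain ⟨φ, hφ⟩ := (shiftFunctor (DCoh.D X) i₀).map_surjective (f ≫ j.inv)
      rw [h i₀ hi₀ φ, Functor.map_zero] at hφ
      rw [← cancel_mono j.inv, ← hφ, zero_comp]
    have h0 : Res.map (eK.hom ≫ ψ ≫ eP.inv) = 0 := by
      have hg0 : g = 0 := hf.symm.trans (by simp [hf0, R])
      rw [hg0] at hg
      dsimp only at hg
      rw [Functor.map_zero] at hg
      rw [← cancel_mono (DCohRestrLib.restrictHDIso U.ι P₀ 0).inv,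
        ← cancel_epi (DCohRestrLib.restrictHDIso U.ι (K⟦i₀⟧) 0).hom, zero_comp, comp_zero]
      exact hg.symm
    refine hψ ?_
    have h1 : eK.hom ≫ ψ ≫ eP.inv = 0 := by
      haveI := FormalCohLib.isIso_restrictUnit_of_support (j := U.ι) hx
        (by rw [Scheme.Opens.range_ι]; exact Set.singleton_subset_iff.2 hxU) (M := DCoh.HD P₀ 0) (hsupp 0)
      refine (cancel_mono ((Scheme.Modules.restrictAdjunction U.ι).unit.app (DCoh.HD P₀ 0))).1 ?_
      rw [zero_comp]
      refine ((Scheme.Modules.restrictAdjunction U.ι).unit.naturality (eK.hom ≫ ψ ≫ eP.inv)).trans ?_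
      rw [Functor.comp_map, h0, Functor.map_zero, comp_zero]
    rw [← cancel_epi eK.hom, ← cancel_mono eP.inv, Category.assoc, h1, comp_zero, zero_comp]

end Groth.Agent.Dual3Lib
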