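import Groth.Agent.Dual3Lib.PointOrth
import Groth.Agent.Dual3Lib.PointTest
import Groth.Agent.KoszOrthLib.Affine
import Groth.Agent.FinDualLib.Finite
import Groth.Agent.BidualSchLib.Chart
import Groth.Agent.TildeDerLib.Push
import Groth.Agent.KoszOrthLib.Aff

/-!
# An object orthogonal to a point sheaf vanishes near the point
-/

set_option autoImplicit false
set_option linter.style.haveILetI false
set_option backward.isDefEq.respectTransparency false
set_option backward.isDefEq.respectTransparency.types false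
set_option maxHeartbeats 1000000
set_option synthInstance.maxHeartbeats 200000

universe u

open CategoryTheory CategoryTheory.Limits AlgebraicGeometry
open DTenLib.Point (hH sg)

attribute [local instance] HasDerivedCategory.standard

noncomputable section

namespace Groth.Agent.Dual3Lib

variable {X : Scheme.{u}}

/-- Near an affine chart the point sheaf is the residue module. -/
theorem nonempty_restrict_ptSheaf {A : CommRingCat.{u}} (j : Spec A ⟶ X) [IsOpenImmersion j] {x : X}
    (hx : IsClosed ({x} : Set X)) (hxj : x ∈ Set.range j) :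
    ∃ (m : Ideal A) (_ : m.IsMaximal) (p : Spec A), j p = x ∧ (p : PrimeSpectrum A).asIdeal = m ∧
      Nonempty ((Scheme.Modules.restrictFunctor j).obj (ptSheaf x) ≅
        (tilde.functor A).obj (ModuleCat.of A (A ⧸ m))) := by
  let i := X.fromSpecResidueField x
  haveI : IsClosedImmersion i := isClosed_singleton_iff_isClosedImmersion.1 hx
  have hr : Set.range i ⊆ Set.range j := by
    rw [Scheme.range_fromSpecResidueField]
    exact Set.singleton_subset_iff.2 hxj
  let g := IsOpenImmersion.lift j i hr
  have hg : g ≫ j = i := IsOpenImmersion.lift_fac j i hr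
  haveI : IsClosedImmersion (g ≫ j) := hg ▸ ‹_›
  haveI : IsClosedImmersion g := IsClosedImmersion.of_comp g j
  obtain ⟨φ, hφ⟩ : ∃ φ : A ⟶ X.residueField x, Spec.map φ = g := ⟨_, Spec.map_preimage g⟩
  have hsurj : Function.Surjective φ := by
    haveI : IsClosedImmersion (Spec.map φ) := hφ ▸ ‹_›
    have h := (IsClosedImmersion.isAffine_surjective_of_isAffine (f := Spec.map φ)).2
    intro y
    obtain ⟨z, hz⟩ := h ((Scheme.ΓSpecIso (X.residueField x)).inv y)
    refine ⟨(Scheme.ΓSpecIso A).hom z, ?_⟩
    have e := ConcreteCategory.congr_hom (Scheme.ΓSpecIso_naturality φ) z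
    simp only [CommRingCat.comp_apply] at e
    rw [← e, hz, Iso.inv_hom_id_apply]
  let m : Ideal A := RingHom.ker φ.hom
  haveI hm : m.IsMaximal := RingHom.ker_isMaximal_of_surjective φ.hom hsurj
  let w : ↥(Spec (X.residueField x)) := IsLocalRing.closedPoint _
  refine ⟨m, hm, g w, ?_, ?_, ?_⟩
  · rw [← Scheme.Hom.comp_apply, hg]
    exact X.fromSpecResidueField_apply x w
  · rw [← hφ]
    show (w : PrimeSpectrum (X.residueField x)).asIdeal.comap φ.hom = m
    rw [show (w : PrimeSpectrum (X.residueField x)).asIdeal = ⊥ from IsLocalRing.maximalIdeal_eq_bot]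
    rfl
  · have hg' : Spec.map φ ≫ j = i := hφ ▸ hg
    let Res := Scheme.Modules.restrictFunctor j
    let G := (Scheme.Modules.pushforward (Spec.map φ)).obj (Coh.structureModule (Spec (X.residueField x)))
    let e1 : Res.obj (ptSheaf x) ≅ G :=
      Res.mapIso ((Scheme.Modules.pushforwardCongr hg'.symm).app _ ≪≫
        (Scheme.Modules.pushforwardComp (Spec.map φ) j).symm.app _) ≪≫
      (asIso (Scheme.Modules.restrictAdjunction j).counit).app G
    obtain ⟨c⟩ := TildeDerLib.nonempty_pushTildeIso φ
    letI : Algebra A (X.residueField x) := φ.hom.toAlgebra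
    let e2 : (ModuleCat.restrictScalars φ.hom).obj (ModuleCat.of (X.residueField x) (X.residueField x)) ≅
        ModuleCat.of A (A ⧸ m) :=
      FinDualLib.resIso (A := A) (S := X.residueField x) (X.residueField x) ≪≫
        ((Submodule.quotEquivOfEq _ _ (by ext a; rfl)).trans
          ((Algebra.linearMap A (X.residueField x)).quotKerEquivOfSurjective hsurj)).symm.toModuleIso
    exact ⟨e1 ≪≫ (Scheme.Modules.pushforward (Spec.map φ)).mapIso (tildeSelf (R := X.residueField x)).symm ≪≫
      c.app _ ≪≫ (tilde.functor A).mapIso e2⟩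

/-- An object orthogonal to the point sheaf has no cohomology at the point. -/
theorem notMem_support_of_orth [IsLocallyNoetherian X] {x : X} (hx : IsClosed ({x} : Set X))
    {K : DCoh.D X} (hK : DCoh.IsCohD K) (a : ℤ) [K.IsGE a]
    (h : ∀ (i : ℤ) (φ : DCoh.inD X (ptSheaf x) ⟶ K⟦i⟧), φ = 0) (i : ℤ) :
    x ∉ CohB1.support (DCoh.HD K i) := by
  obtain ⟨V, hV, hxV, -⟩ := exists_isAffineOpen_mem_and_subset (x := x) (U := (⊤ : X.Opens)) trivial
  let A := Γ(X, V)
  let j := hV.fromSpec
  have hrange : Set.range j = (V : Set X) := hV.range_fromSpec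
  haveI : IsLocallyNoetherian (Spec A) := isLocallyNoetherian_of_isOpenImmersion j
  haveI : IsNoetherianRing A := (isLocallyNoetherian_Spec).1 inferInstance
  haveI : PreservesFiniteLimits (tilde.functor A) := HensSchLib.tilde_preservesFiniteLimits _
  obtain ⟨m, hm, p, hp, hpm, ⟨ept⟩⟩ := nonempty_restrict_ptSheaf j hx (hrange ▸ hxV)
  let RD := DCoh.restrictD j
  have hq : DCoh.IsQCohD (RD.obj K) := KoszOrthLib.isQCohD_restrictD j fun l => (hK l).1
  obtain ⟨M, ⟨eM⟩⟩ := (TildeDerLib.isQCohD_iff A (RD.obj K)).1 hq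
  have eH : ∀ l, (tilde.functor A).obj ((hH A l).obj M) ≅ (Scheme.Modules.restrictFunctor j).obj (DCoh.HD K l) :=
    fun l => (TildeDerLib.tildeHIso A l M).symm ≪≫ (DerivedCategory.homologyFunctor _ l).mapIso eM ≪≫
      DCohRestrLib.restrictHDIso j K l
  have hfin : ∀ l, Module.Finite A ((hH A l).obj M) := fun l =>
    BidualSchLib.finite_of_isCoh_tilde (QCohLib.isCoh_of_iso (eH l).symm
      (ConsLib.isCoh_pullback j (hK l) |> QCohLib.isCoh_of_iso
        ((Scheme.Modules.restrictFunctorIsoPullback j).app _).symm))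
  haveI : (tilde.functor A).Faithful := (tilde.adjunction (R := A)).fullyFaithfulLOfIsIsoUnit.faithful
  have hge : M.IsGE a := (DerivedCategory.isGE_iff M a).2 fun l hl => by
    have : IsZero ((tilde.functor A).obj ((DTenLib.Point.hH A l).obj M)) :=
      ((Scheme.Modules.restrictFunctor j).map_isZero (DerivedCategory.isZero_of_isGE K a l hl)).of_iso (eH l)
    rw [IsZero.iff_id_eq_zero] at this ⊢
    refine (tilde.functor A).map_injective ?_
    rw [CategoryTheory.Functor.map_id, Functor.map_zero]
    exact this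
  have hTD := KoszOrthLib.full_tD (A := A)
  let N := ModuleCat.of A (A ⧸ m)
  let eS : RD.obj (DCoh.inD X (ptSheaf x)) ≅ (DCoh.tildeD A).obj (sg N 0) :=
    ((Scheme.Modules.restrictFunctor j).mapDerivedCategorySingleFunctor 0).app (ptSheaf x) ≪≫
      (DerivedCategory.singleFunctor _ 0).mapIso ept ≪≫
      (((tilde.functor A).mapDerivedCategorySingleFunctor 0).app N).symm
  have hext : ∀ l : ℤ, Subsingleton (DualCxLib.Ext M N l) := fun l => by
    refine subsingleton_of_forall_eq 0 fun f => ?_
    let eT : (DCoh.tildeD A).obj (M⟦l⟧) ≅ RD.obj (K⟦l⟧) :=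
      ((DCoh.tildeD A).commShiftIso l).app M ≪≫ (shiftFunctor _ l).mapIso eM ≪≫
        ((RD.commShiftIso l).app K).symm
    have hsupp : ∀ q, CohB1.support (DCoh.HD (DCoh.inD X (ptSheaf x)) q) ⊆ {x} := fun q y hy => by
      refine support_HD_inD_shift hx 0 q (fun hs => hy ?_)
      exact (DCohRestrLib.subsingleton_stalk_of_iso ((DerivedCategory.homologyFunctor X.Modules q).mapIso
        ((shiftFunctorZero (DCoh.D X) ℤ).app _)) y).1 hs
    obtain ⟨ψ, hψ⟩ := (bijective_restrictD j hx (hrange ▸ Set.singleton_subset_iff.2 hxV) _ hsupp (K⟦l⟧)).2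
      (eS.hom ≫ (DCoh.tildeD A).map f ≫ eT.hom)
    rw [h l ψ] at hψ
    dsimp only at hψ
    rw [Functor.map_zero] at hψ
    haveI : (DCoh.tildeD A).Faithful := inferInstanceAs (KoszOrthLib.tD A).Faithful
    refine (DCoh.tildeD A).map_injective ?_
    rw [Functor.map_zero, ← cancel_epi eS.hom, ← cancel_mono eT.hom, Category.assoc, ← hψ, comp_zero, zero_comp]
  haveI := hm
  have htor := PointOrth.tor_homology m hge hfin hext i
  intro hxs
  have h0 : Subsingleton ((tilde ((DTenLib.Point.hH A i).obj M)).presheaf.stalk p) :=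
    (KoszOrthLib.subsingleton_stalk_tilde_iff (R := A) _ p).2 fun v => by
      obtain ⟨r, hr, hrv⟩ := htor v
      exact ⟨r, hpm.symm ▸ hr, hrv⟩
  have h1 := (DCohRestrLib.subsingleton_stalk_of_iso (eH i) p).1 h0
  have h2 := (DCohRestrLib.subsingleton_stalk_restrict j (DCoh.HD K i) p).1 h1
  rw [hp] at h2
  exact hxs h2

end Groth.Agent.Dual3Lib
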