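import Groth.Agent.PerfBaseLib.RpushTor
import Groth.Agent.DRingLib.LBaseChange

/-!
# Tor amplitude from bounded tensor products
-/

set_option autoImplicit false
set_option backward.isDefEq.respectTransparency false
set_option backward.isDefEq.respectTransparency.types false
set_option maxHeartbeats 1000000
set_option linter.style.haveILetI false

universe u

open CategoryTheory CategoryTheory.Limits AlgebraicGeometry MonoidalCategory HomologicalComplex
open KFlatLib (tT tMap)
open PerfBaseLib (M₀ ext₂ cmp cmp_natural_left cmp_natural_right singleT)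
open Groth.Agent

attribute [local instance] HasDerivedCategory.standard

namespace Groth.Agent.Dual3Lib

section Alg

variable {R A : Type u} [CommRing R] [CommRing A] (φ : R →+* A)

/-- The converse of `PerfBaseLib.isZero_homology_tensor_ext`. -/
theorem hasTorAmplitudeIn_of_tensor {a b : ℤ} (C : CochainComplex (ModuleCat.{u} A) ℤ)
    (h : ∀ N : ModuleCat.{u} R, ∃ (P : CochainComplex (ModuleCat.{u} R) ℤ) (q : P ⟶ M₀ N),
      DRing.IsKFlat R P ∧ QuasiIso q ∧ ∀ i : ℤ, (i < a ∨ b < i) →
        IsZero ((tT C (((ModuleCat.extendScalars.{u, u, u} φ).mapHomologicalComplex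
          (ComplexShape.up ℤ)).obj P)).homology i)) :
    DRing.HasTorAmplitudeIn R a b
      (DRing.toD (((ModuleCat.restrictScalars φ).mapHomologicalComplex (ComplexShape.up ℤ)).obj C)) := by
  let rs := ModuleCat.restrictScalars φ
  let C' := (rs.mapHomologicalComplex (ComplexShape.up ℤ)).obj C
  let F := (DRingLib.resP R).obj C'
  let g : F ⟶ C' := (DRingLib.resψ R).app C'
  haveI : QuasiIso g := DRingLib.quasiIso_resψ _
  have hF : DRing.IsKFlat R F := (DRingLib.good_resP _).1
  refine DRingLib.hasTorAmplitudeIn_of_amp hF (asIso (DerivedCategory.Q.map g)) fun N i hi => ?_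
  obtain ⟨P, q, hP, hq, hz⟩ := h N
  have h₁ := KFlatLib.totalMapIso (ext₂ φ) (curriedTensor (ModuleCat.{u} R)) (𝟭 _) rs rs
    (fun a b => cmp φ a b) (fun f b => cmp_natural_left φ f b)
    (fun a {_ _} g => cmp_natural_right φ a g) P C
  have h₂ := KFlatLib.totalMapIso (ext₂ φ) (curriedTensor (ModuleCat.{u} A))
    (ModuleCat.extendScalars.{u, u, u} φ) (𝟭 _) (𝟭 _) (fun _ _ => Iso.refl _)
    (fun _ _ => (Category.comp_id _).trans (Category.id_comp _).symm)
    (fun _ {_ _} _ => (Category.comp_id _).trans (Category.id_comp _).symm) P C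
  have z : IsZero ((mapBifunctor P C (ext₂ φ) (ComplexShape.up ℤ)).homology i) :=
    ((hz i hi).of_iso ((homologyFunctor _ _ i).mapIso (KFlatLib.tensorFlipIso C
      (((ModuleCat.extendScalars.{u, u, u} φ).mapHomologicalComplex (ComplexShape.up ℤ)).obj P)))).of_iso
        ((homologyFunctor _ _ i).mapIso h₂).symm
  have z₁ : IsZero ((tT P C').homology i) :=
    ((rs.map_isZero z).of_iso (((mapBifunctor P C (ext₂ φ) (ComplexShape.up ℤ)).sc i).mapHomologyIso rs)).of_iso
      ((homologyFunctor _ _ i).mapIso h₁)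
  haveI := hq
  haveI := KFlatLib.quasiIso_tMap_left hP g
  haveI := KFlatLib.quasiIso_tMap_right hF q
  refine IsZero.of_iso z₁ ((homologyFunctor _ _ i).mapIso
    ((NatIso.mapHomologicalComplex (BraidedCategory.tensorLeftIsoTensorRight N) (ComplexShape.up ℤ)).app F).symm ≪≫
      (homologyFunctor _ _ i).mapIso (asIso (singleT N F)) ≪≫
      (asIso (homologyMap (tMap q (𝟙 F)) i)).symm ≪≫ asIso (homologyMap (tMap (𝟙 P) g) i))

end Alg

variable {X S : Scheme.{u}}

/-- The converse of `PerfBaseLib.tensorBounded_of_tor`. -/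
theorem hasTorAmplitude_of_tensorBounded [QuasiSeparatedSpace S] (f : X ⟶ S) {a b : ℤ}
    (T : CochainComplex X.Modules ℤ) (h : PerfBaseLib.TensorBounded f a b T) :
    DerSch.HasTorAmplitude f a b T := by
  intro x
  refine hasTorAmplitudeIn_of_tensor (f.stalkMap x).hom ((KFlatLib.stalkCx X x).obj T) fun N => ?_
  obtain ⟨s⟩ := KFlatLib.nonempty_stalk_spreadObj (f x) N
  let G := KFlatLib.spreadObj (f x) N
  let G₀ := (CochainComplex.singleFunctor S.Modules 0).obj G
  let P := (KFlatLib.resP S).obj G₀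
  let q : P ⟶ G₀ := (KFlatLib.resψ S).app G₀
  haveI hq : QuasiIso q := KFlatLib.quasiIso_resψ _
  have hP : DCoh.IsKFlat P := (KFlatLib.good_resP _).1
  haveI : QuasiIso ((KFlatLib.stalkCx S (f x)).map q) := (KFlatLib.quasiIso_iff_stalks q).1 hq (f x)
  refine ⟨(KFlatLib.stalkCx S (f x)).obj P,
    (KFlatLib.stalkCx S (f x)).map q ≫ (PerfBaseLib.stalkSingleIso (f x) G).hom ≫
      (CochainComplex.singleFunctor _ 0).map s.inv,
    KFlatLib.stalks_isKFlat hP (f x), inferInstance, fun i hi => ?_⟩
  have h0 := (KFlatLib.isZero_homology_iff _ i).1 (h G (KFlatLib.isQCoh_spreadObj (f x) N) P hP q hq i hi) x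
  have h1 := h0.of_iso ((homologyFunctor _ _ i).mapIso
    (KFlatLib.stalkTensorCxIso x T ((KFlatLib.pullCx f).obj P)))
  exact h1.of_iso ((homologyFunctor _ _ i).mapIso
    (whiskerLeftIso ((KFlatLib.stalkCx X x).obj T) (KFlatLib.stalkPullCxIso f x P)).symm)

end Groth.Agent.Dual3Lib
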