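import Groth.Agent.KoszOrthLib.PnPC

/-!
# Lower bounds from twisted direct images
-/

set_option autoImplicit false
set_option linter.style.haveILetI false
set_option backward.isDefEq.respectTransparency false
set_option backward.isDefEq.respectTransparency.types false
set_option maxHeartbeats 1000000
set_option synthInstance.maxHeartbeats 200000

universe u

open CategoryTheory CategoryTheory.Limits AlgebraicGeometry TopologicalSpace CategoryTheory.Pretriangulated
open scoped ZeroObject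

attribute [local instance] HasDerivedCategory.standard

namespace Groth.Agent.Dual3Lib

open KoszOrthLib

/-- On an affine scheme, maps from `O` see the cohomology. -/
theorem hom_unit_shift_eq_zero_of_isZero {S : Scheme.{u}} [IsAffine S] {E : DCoh.D S} (hE : DCoh.IsQCohD E)
    {i : ℤ} (hi : IsZero (DCoh.HD E i)) (φ : DCoh.inD S (Coh.structureModule S) ⟶ E⟦i⟧) : φ = 0 := by
  obtain ⟨M, ⟨e⟩⟩ := exists_tX_iso hE
  obtain ⟨a⟩ := nonempty_tX_kA_nil S
  let b : (tX S).obj (M⟦i⟧) ≅ E⟦i⟧ := ((tX S).commShiftIso i).app M ≪≫ (shiftFunctor _ i).mapIso e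
  obtain ⟨ψ, hψ⟩ := (tX S).map_surjective (a.hom ≫ φ ≫ b.inv)
  have hz : IsZero ((DerivedCategory.homologyFunctor (ModuleCat.{u} (AX S)) i).obj M) := by
    have h1 : IsZero (DCoh.HD ((tX S).obj M) i) :=
      hi.of_iso ((DerivedCategory.homologyFunctor _ i).mapIso e)
    have h2 : ∀ x : S, x ∉ CohB1.support (DCoh.HD ((tX S).obj M) i) := by
      rw [DCohRestrLib.isZero_iff_support_empty] at h1
      simp [h1]
    rw [ModuleCat.isZero_iff_subsingleton]
    refine subsingleton_of_forall_eq 0 fun m => ?_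
    by_contra hm
    let I : Ideal (AX S) := LinearMap.ker (LinearMap.toSpanSingleton (AX S) _ m)
    have hI : ∀ r : AX S, r ∈ I ↔ r • m = 0 := fun r => Iff.rfl
    have hne : I ≠ ⊤ := fun h => hm (by
      have h1 := (hI 1).1 (by rw [h]; trivial)
      rwa [one_smul] at h1)
    obtain ⟨p, hp, hle⟩ := Ideal.exists_le_maximal I hne
    obtain ⟨x, hx⟩ : ∃ x, S.isoSpec.hom x = (⟨p, hp.isPrime⟩ : PrimeSpectrum (AX S)) :=
      (Scheme.homeoOfIso S.isoSpec).surjective _
    obtain ⟨r, hr, hrm⟩ := (notMem_support_tX_iff i M x).1 (h2 x) m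
    rw [hx] at hr
    exact hr (hle ((hI r).2 hrm))
  have h0 : ψ = 0 := (orth_nil_iff M i).2 hz ψ
  rw [h0, (tX S).map_zero] at hψ
  exact zero_of_comp_mono b.inv (zero_of_epi_comp a.hom hψ.symm)

section General

variable {X : Scheme.{u}}

/-- Maps from objects to shifts of `C` vanish below `D`. -/
def HomLT (C : DCoh.D X) (D : ℤ) (E : DCoh.D X) : Prop := ∀ i : ℤ, i < D → ∀ φ : E ⟶ C⟦i⟧, φ = 0

variable {C : DCoh.D X} {D : ℤ}

theorem HomLT.mono {E : DCoh.D X} {D' : ℤ} (h : HomLT C D E) (hD : D' ≤ D) : HomLT C D' E :=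
  fun i hi φ => h i (by omega) φ

theorem HomLT.of_iso {E E' : DCoh.D X} (e : E ≅ E') (h : HomLT C D E) : HomLT C D E' :=
  fun i hi φ => zero_of_epi_comp e.hom (h i hi _)

theorem HomLT.obj₁ (T : Triangle (DCoh.D X)) (hT : T ∈ distTriang _) (h₂ : HomLT C D T.obj₂)
    (h₃ : HomLT C (D + 1) T.obj₃) : HomLT C D T.obj₁ := fun i hi φ => by
  obtain ⟨ψ, hψ⟩ := Triangle.yoneda_exact₂ _ (inv_rot_of_distTriang _ hT) φ
    ((forall_shift_iff T.obj₃ (C⟦i⟧) (-1) 1 (by omega)).2 (fun ξ => zero_of_comp_mono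
      ((shiftFunctorAdd' (DCoh.D X) i 1 (i + 1) rfl).app C).inv (h₃ _ (by omega) _)) _)
  rw [hψ, h₂ i hi ψ]
  exact comp_zero

theorem HomLT.obj₃ (T : Triangle (DCoh.D X)) (hT : T ∈ distTriang _) (h₁ : HomLT C D T.obj₁)
    (h₂ : HomLT C D T.obj₂) : HomLT C D T.obj₃ := fun i hi φ => by
  obtain ⟨ψ, hψ⟩ := Triangle.yoneda_exact₃ _ hT φ (h₂ i hi _)
  rw [hψ, (forall_shift_iff T.obj₁ (C⟦i⟧) 1 (-1) (by omega)).2 (fun ξ => zero_of_comp_mono
    ((shiftFunctorAdd' (DCoh.D X) i (-1) (i + -1) rfl).app C).inv (h₁ _ (by omega) _)) ψ]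
  exact comp_zero

/-- A window of twists bounds all the twists before it. -/
theorem homLT_of_twists (L : X.Modules) [PreservesFiniteLimits (DCoh.tensorRightMod L)]
    [PreservesFiniteColimits (DCoh.tensorRightMod L)] (hL : PicF.IsInvertible L) (C : DCoh.D X) :
    ∀ (l : List Γ(L, ⊤)) (D : ℤ) (E : DCoh.D X) (T : Set X), IsClosed T →
      (∀ i : ℤ, CohB1.support (DCoh.HD E i) ⊆ T) →
      (∀ y ∈ T, ∃ σ ∈ l, AmpleLib.GenAt L σ (show y ∈ (⊤ : X.Opens) from trivial)) →
      ∀ N : ℕ, (∀ s : ℕ, N < s → s ≤ N + l.length → HomLT C D ((iterT L s).obj E)) →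
      ∀ s : ℕ, s ≤ N → HomLT C (D - (l.length : ℕ)) ((iterT L s).obj E)
  | [], D, E, T, _, hE, hl, N, _ => fun s _ => by
    have hz : IsZero ((iterT L s).obj E) := (DCohRestrLib.isZero_iff_HD _).2 fun i => by
      rw [DCohRestrLib.isZero_iff_support_empty, support_HD_iterT hL, Set.eq_empty_iff_forall_notMem]
      intro y hy
      obtain ⟨σ, hσ, -⟩ := hl y (hE i hy)
      simp at hσ
    exact fun i _ φ => hz.eq_of_src _ _
  | σ :: l, D, E, T, hT, hE, hl, N, hN => by
    obtain ⟨B, h, h', hTr⟩ := distinguished_cocone_triangle ((sD L σ).app E)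
    have hB : ∀ s : ℕ, s ≤ N → HomLT C (D - (l.length : ℕ)) ((iterT L s).obj B) := by
      refine homLT_of_twists L hL C l D B
        (T ∩ {y | ¬ AmpleLib.GenAt L σ (show y ∈ (⊤ : X.Opens) from trivial)})
        (hT.inter (TwistLib.isOpen_genAt hL σ).isClosed_compl)
        (support_obj₃_sD L hL σ h h' hTr hE hT) (fun y hy => ?_) N fun s h1 h2 => ?_
      · obtain ⟨τ, hτ, hg⟩ := hl y hy.1
        rcases List.mem_cons.1 hτ with rfl | hτ'
        · exact absurd hg hy.2
        · exact ⟨τ, hτ', hg⟩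
      · obtain ⟨d, hd⟩ := exists_iterT_triangle L _ _ _ hTr s
        obtain ⟨e⟩ := nonempty_iterT_succ L s E
        exact HomLT.obj₃ _ hd (hN s h1 (by simp; omega))
          ((hN (s + 1) (by omega) (by simp; omega)).of_iso e.symm)
    suffices hk : ∀ k s : ℕ, s + k = N →
        HomLT C (D - ((σ :: l).length : ℕ)) ((iterT L s).obj E) from fun s hs => hk (N - s) s (by omega)
    have hlen : (σ :: l).length = l.length + 1 := rfl
    have step : ∀ s : ℕ, s ≤ N → HomLT C (D - ((σ :: l).length : ℕ)) ((iterT L (s + 1)).obj E) →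
        HomLT C (D - ((σ :: l).length : ℕ)) ((iterT L s).obj E) := fun s hs h2 => by
      obtain ⟨d, hd⟩ := exists_iterT_triangle L _ _ _ hTr s
      obtain ⟨e⟩ := nonempty_iterT_succ L s E
      exact HomLT.obj₁ _ hd (h2.of_iso e.symm) ((hB s hs).mono (by rw [hlen]; omega))
    intro k
    induction k with
    | zero => exact fun s hs => step s (by omega) ((hN (s + 1) (by omega) (by simp; omega)).mono (by omega))
    | succ k ih => exact fun s hs => step s (by omega) (ih (s + 1) (by omega))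

end General

section Pn

variable (n : ℕ) (A : Type u) [CommRing A]

local notation "PP" => CohB1.ProjSpace n A

variable [DCoh.HasRpush (CohB1.ProjSpace.toSpec n A)]
  [(DCoh.Rpush (CohB1.ProjSpace.toSpec n A)).CommShift ℤ]
  [(DCoh.Rpush (CohB1.ProjSpace.toSpec n A)).IsTriangulated]

/-- All twists `Rπ_*(C(d))`, `d ≤ n`, are in degrees at least `c`. -/
def TwGE (c : ℤ) (C : DCoh.D (CohB1.ProjSpace n A)) : Prop := ∀ d : ℕ, d ≤ n → ((G n A d).obj C).IsGE c

/-- Bounds on twisted direct images bound the cohomology below. -/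
theorem isGE_of_twGE {C : DCoh.D PP} (hC : DCoh.IsQCohD C) {c : ℤ} (h : TwGE n A c C) :
    C.IsGE (c - (n + 1 : ℕ)) := by
  let L := O1 n A
  have hL : PicF.IsInvertible L := PicPnLib.twist_inv n A 1
  haveI : CompactSpace ↥PP := (FormalCohLib.isAmple_twistProjSpace n A).2.1
  haveI : IsProper (CohB1.ProjSpace.toSpec n A) := (projSpace_hyps n A).1
  haveI : QuasiSeparatedSpace ↥PP := quasiSeparatedSpace_of_quasiSeparated (CohB1.ProjSpace.toSpec n A)
  have hbase : ∀ d : ℕ, d ≤ n → HomLT C c (OD n A (-(d : ℤ))) := fun d hd i hi φ => by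
    obtain ⟨η, hη⟩ := exists_unit_G n A (d : ℤ)
    haveI := h d hd
    refine (hη _).1 (?_ : η ≫ (G n A d).map φ = η ≫ (G n A d).map 0)
    rw [(G n A d).map_zero, comp_zero]
    let e := ((G n A d).commShiftIso i).app C
    exact zero_of_comp_mono e.hom (hom_unit_shift_eq_zero_of_isZero (isQCohD_G n A hC d)
      (DerivedCategory.isZero_of_isGE _ c i hi) _)
  have hall : ∀ j : ℕ, HomLT C (c - (n + 1 : ℕ)) (OD n A (-(j : ℤ))) := by
    intro j
    by_cases hj : j ≤ n
    · exact (hbase j hj).mono (by omega)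
    · have key := homLT_of_twists L hL C (List.ofFn (coordSec n A)) c (OD n A (-(j : ℤ))) Set.univ isClosed_univ
        (fun i => Set.subset_univ _) (fun y _ => exists_genAt_coordSec n A y) (j - (n + 1)) (fun s h1 h2 => ?_)
        0 (Nat.zero_le _)
      · rw [List.length_ofFn] at key
        exact key
      · rw [List.length_ofFn] at h2
        obtain ⟨e⟩ := nonempty_iterT_OD n A (-(j : ℤ)) s
        have h3 := hbase (j - s) (by omega)
        rw [show -((j - s : ℕ) : ℤ) = -(j : ℤ) + s by omega] at h3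
        exact h3.of_iso e.symm
  obtain ⟨c₀⟩ := PicPnLib.twist_zero n A
  have hno : ∀ i, i < c - (n + 1 : ℕ) → ∀ (k : ℕ) (φ : DCoh.inD PP (Coh.structureModule PP) ⟶ (iterT L k).obj (C⟦i⟧)),
      φ = 0 := fun i hi k φ => by
    haveI := isEquivalence_iterT hL k
    haveI := additive_iterT L k
    obtain ⟨e⟩ := nonempty_iterT_OD n A (-(k : ℤ)) k
    let e' : (iterT L k).obj (OD n A (-(k : ℤ))) ≅ DCoh.inD PP (Coh.structureModule PP) :=
      e ≪≫ eqToIso (congrArg (OD n A) (by omega)) ≪≫ (DerivedCategory.singleFunctor _ 0).mapIso c₀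
    obtain ⟨ψ, hψ⟩ := (iterT L k).map_surjective (e'.hom ≫ φ)
    rw [hall k i hi ψ, (iterT L k).map_zero] at hψ
    exact zero_of_epi_comp e'.hom hψ.symm
  rw [DerivedCategory.isGE_iff]
  intro i hi
  rw [DCohRestrLib.isZero_iff_support_empty, Set.eq_empty_iff_forall_notMem]
  intro x
  obtain ⟨j, hj⟩ := Opens.mem_iSup.mp
    (show x ∈ ⨆ i : Fin (n + 1), Proj.basicOpen (CohB1.polyGrading n A) (MvPolynomial.X i) by
      exact (QCohLib.iSup_stdOpen n A).symm ▸ (trivial : x ∈ (⊤ : (CohB1.ProjSpace n A).Opens)))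
  let U : (CohB1.ProjSpace n A).Opens := Proj.basicOpen (CohB1.polyGrading n A) (MvPolynomial.X j)
  have hUa : IsAffineOpen U :=
    Proj.isAffineOpen_basicOpen _ (MvPolynomial.X j) (MvPolynomial.isHomogeneous_X A j) one_pos
  haveI : IsAffine (U : Scheme.{u}) := hUa
  intro hx
  obtain ⟨M, ⟨e⟩⟩ := exists_tX_iso (isQCohD_restrictD U.ι hC)
  obtain ⟨a⟩ := nonempty_tX_kA_nil (U : Scheme.{u})
  have hz : Orth ([] : List (AX (U : Scheme.{u}))) M i := fun φ => by
    refine (tX _).map_injective ?_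
    let b : (tX _).obj (M⟦i⟧) ≅ (DCoh.restrictD U.ι).obj (C⟦i⟧) :=
      ((tX _).commShiftIso i).app M ≪≫ (shiftFunctor _ i).mapIso e ≪≫
        (((DCoh.restrictD U.ι).commShiftIso i).app C).symm
    rw [(tX _).map_zero, ← cancel_mono b.hom, ← cancel_epi a.inv, zero_comp, comp_zero]
    exact hom_restrictD_eq_zero L (coordSec n A j) hL U (fun y => (genAt_coordSec_iff n A j y).symm)
      hUa.isCompact _ (KFlatLib.isQCohD_shift hC i) (hno i hi) _
  have hM := (orth_nil_iff M i).1 hz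
  have h1 : IsZero (DCoh.HD ((DCoh.restrictD U.ι).obj C) i) :=
    ((Scheme.Modules.restrictFunctor (U : Scheme.{u}).isoSpec.hom).map_isZero
      ((tilde.functor _).map_isZero hM)).of_iso (((DerivedCategory.homologyFunctor _ i).mapIso e.symm) ≪≫ tXHIso i M)
  rw [DCohRestrLib.isZero_iff_support_empty, DCohRestrLib.support_HD_restrictD, Set.eq_empty_iff_forall_notMem] at h1
  exact h1 ⟨x, hj⟩ hx

end Pn

end Groth.Agent.Dual3Lib
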