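import Groth.Agent.Dual3Lib.RelPC
import Groth.Agent.Dual3Lib.TwGE
import Groth.Agent.Dual3Lib.TorConv
import Groth.Agent.BidualSchLib.Local

/-!
# Relative perfectness from twisted direct images
-/

set_option autoImplicit false
set_option linter.style.haveILetI false
set_option backward.isDefEq.respectTransparency false
set_option backward.isDefEq.respectTransparency.types false
set_option maxHeartbeats 1000000
set_option synthInstance.maxHeartbeats 200000

universe u

open CategoryTheory CategoryTheory.Limits AlgebraicGeometry CategoryTheory.Pretriangulated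

attribute [local instance] HasDerivedCategory.standard

namespace Groth.Agent.Dual3Lib

open KoszOrthLib (G)
open Groth.Agent.ImmPCLib (pushD lim_push colim_push)
open Groth.Agent.PerfLib (resD resC resDQIso isPC_of_iso)

attribute [local instance] lim_push colim_push

variable {X : Scheme.{u}}

/-- A perfect object tensored with modules has uniformly bounded cohomology. -/
theorem exists_bound_ten [CompactSpace X] {P : DCoh.D X} (hP : DCoh.IsPerfect P) :
    ∃ a b : ℤ, ∀ (F : X.Modules) (i : ℤ), (i < a ∨ b < i) →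
      IsZero (DCoh.HD (ten P (DCoh.inD X F)) i) := by
  obtain ⟨T, hT, ⟨eT⟩⟩ := KFlatLib.exists_good_rep P
  obtain ⟨a, b, -, hab⟩ := PerfBaseLib.exists_amp_of_isCompact hT.1
    (PerfLib.isPerfect_of_iso eT.symm hP) isCompact_univ
  refine ⟨a, b, fun F i hi => ?_⟩
  let F₀ := (CochainComplex.singleFunctor X.Modules 0).obj F
  obtain ⟨c⟩ := ten_cx T F₀ hT.1 eT
    ((DerivedCategory.singleFunctorIsoCompQ X.Modules 0).app F).symm
  refine (KFlatLib.isZero_HD_iff c.symm i).2 ((KFlatLib.isZero_homology_iff _ i).2 fun x => ?_)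
  exact (hab x (Set.mem_univ x) _ i hi).of_iso
    ((HomologicalComplex.homologyFunctor _ _ i).mapIso
      ((KFlatLib.stalkTensorCxIso x T F₀).symm ≪≫
        MonoidalCategory.whiskerLeftIso ((KFlatLib.stalkCx X x).obj T) (PerfBaseLib.stalkSingleIso x F) ≪≫
          PerfBaseLib.tensorSingleIso _ _))

theorem isZero_of_retract {C : Type*} [Category C] [HasZeroMorphisms C] {A B : C} (ρ : Retract A B)
    (h : IsZero B) : IsZero A :=
  (IsZero.iff_id_eq_zero A).2 (by rw [← ρ.retract, h.eq_of_tgt ρ.i 0, zero_comp])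

section Test

variable {A : Type u} [CommRing A]

/-- Finite tor amplitude is detected by twisted direct images. -/
theorem locFiniteTorAmplitude_of_test (f : X ⟶ Spec (CommRingCat.of A)) [IsSeparated f] [QuasiCompact f]
    [LocallyOfFinitePresentation f] [DCoh.HasRpush f] {M : DCoh.D X} (hM : DCoh.IsQCohD M)
    (htest : ∀ E : DCoh.D X, DCoh.IsPerfect E → DCoh.IsPerfect ((DCoh.Rpush f).obj (ten M E))) :
    DerSch.LocFiniteTorAmplitudeD f M := by
  rintro F ⟨eF⟩ x
  obtain ⟨W, hW, hxW, -⟩ := exists_isAffineOpen_mem_and_subset (x := x) (U := ⊤) trivial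
  obtain ⟨n, _, U, g, _, E, hgπ, hE, hchart⟩ := exists_chart_test f W hW
  obtain ⟨hp, -, -⟩ := KoszOrthLib.projSpace_hyps n A
  haveI := hp
  obtain ⟨_, _⟩ := QRlimLib.exists_isTriangulated_rpush (CohB1.ProjSpace.toSpec n A)
  haveI : CompactSpace X := QuasiCompact.compactSpace_of_compactSpace f
  choose a b hab using fun d => exists_bound_ten (htest _ (hE d))
  let a₀ : ℤ := (Finset.range (n + 1)).inf' ⟨0, by simp⟩ a
  let b₀ : ℤ := (Finset.range (n + 1)).sup' ⟨0, by simp⟩ b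
  let fW := W.ι ≫ f
  let MW := (DCoh.restrictD W.ι).obj M
  obtain ⟨T, hT, ⟨eT⟩⟩ := KFlatLib.exists_good_rep MW
  have htb : PerfBaseLib.TensorBounded fW (a₀ - (n + 1 : ℕ)) b₀ T := by
    intro N hN P hP q hq i hi
    haveI := hq
    haveI := KFlatLib.hasLpull f
    haveI := KFlatLib.hasLpull fW
    haveI := KFlatLib.hasLpull W.ι
    let N₀ := DCoh.inD (Spec (CommRingCat.of A)) N
    have hN₀ : DCoh.IsQCohD N₀ := PerfBaseLib.isQCohD_inD N hN
    let L := (DCoh.Lpull f).obj N₀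
    have hL : DCoh.IsQCohD L := KFlatLib.isQCohD_lpull f N₀ hN₀
    obtain ⟨Φ, hΦ, hG, ⟨ρ⟩⟩ := hchart (ten M L) (ten_isQCohD hM hL)
    have hd : ∀ d : ℕ, d ≤ n → ∀ j : ℤ, (j < a₀ ∨ b₀ < j) → IsZero (DCoh.HD ((G n A d).obj Φ) j) :=
      fun d hdn j hj => by
      obtain ⟨e₀⟩ := hG d
      obtain ⟨e₁⟩ := ten_assoc M L (E d)
      obtain ⟨e₂⟩ := ten_comm L (E d)
      obtain ⟨e₂'⟩ := ten_congr (Iso.refl M) e₂
      obtain ⟨e₃⟩ := ten_assoc M (E d) L
      obtain ⟨e₄⟩ := ten_proj f (E := ten M (E d))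
        (ten_isQCohD hM (KoszOrthLib.isQCohD_of_isPerfect (hE d))) hN₀
      have ha : a₀ ≤ a d := Finset.inf'_le a (Finset.mem_range.2 (by omega))
      have hb : b d ≤ b₀ := Finset.le_sup' b (Finset.mem_range.2 (by omega))
      exact (hab d N j (by omega)).of_iso ((DerivedCategory.homologyFunctor _ j).mapIso
        (e₀ ≪≫ (DCoh.Rpush f).mapIso (e₁ ≪≫ e₂' ≪≫ e₃.symm) ≪≫ e₄.symm))
    haveI : Φ.IsGE (a₀ - (n + 1 : ℕ)) := isGE_of_twGE n A hΦ fun d hdn =>
      (DerivedCategory.isGE_iff _ _).2 fun j hj => hd d hdn j (Or.inl hj)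
    haveI : Φ.IsLE b₀ := KoszOrthLib.isLE_of_twLE n A hΦ fun d hdn =>
      (DerivedCategory.isLE_iff _ _).2 fun j hj => hd d hdn j (Or.inr hj)
    haveI := _root_.BidualSchLib.isGE_restrictD U Φ (a₀ - (n + 1 : ℕ))
    haveI := _root_.BidualSchLib.isLE_restrictD U Φ b₀
    have hz : IsZero (DCoh.HD ((resD W.ι).obj (ten M L)) i) :=
      (Groth.Agent.ImmPCLib.isZero_HD_push_iff g _ i).1
        (isZero_of_retract (ρ.map (DerivedCategory.homologyFunctor _ i)) (by
          rcases hi with hi | hi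
          · exact DerivedCategory.isZero_of_isGE _ (a₀ - (n + 1 : ℕ)) i hi
          · exact DerivedCategory.isZero_of_isLE _ b₀ i hi))
    obtain ⟨r⟩ := ten_restrict W M L
    obtain ⟨w₁⟩ := PerfBaseLib.nonempty_lpull_restrictD (U := (W : Scheme.{u})) W L
    obtain ⟨w₂⟩ := nonempty_lpull_comp W.ι f N₀
    let eP : DCoh.toD X ((KFlatLib.pullCx f).obj P) ≅ L :=
      (KFlatLib.lpullObjIso f P hP).symm ≪≫ (DCoh.Lpull f).mapIso
        (asIso (DerivedCategory.Q.map q) ≪≫ ((DerivedCategory.singleFunctorIsoCompQ _ 0).app N).symm)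
    let eP' : DCoh.toD _ ((KFlatLib.pullCx fW).obj P) ≅ (DCoh.restrictD W.ι).obj L :=
      (KFlatLib.lpullObjIso fW P hP).symm ≪≫ (DCoh.Lpull fW).mapIso
        (asIso (DerivedCategory.Q.map q) ≪≫ ((DerivedCategory.singleFunctorIsoCompQ _ 0).app N).symm) ≪≫
          w₂.symm ≪≫ w₁
    obtain ⟨c⟩ := ten_cx T ((KFlatLib.pullCx fW).obj P) hT.1 eT eP'
    exact (KFlatLib.isZero_HD_iff (c.symm ≪≫ r.symm) i).1 hz
  have htor := hasTorAmplitude_of_tensorBounded fW T htb
  refine ⟨W, a₀ - (n + 1 : ℕ), b₀, hxW, fun x' hx' => ?_⟩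
  exact (RelFlatLib.ampAt_restrict_iff f W.ι ⟨x', hx'⟩ _ _ F).1
    (RelFlatLib.ampAt_of_iso fW (eT ≪≫ (DCoh.restrictD W.ι).mapIso eF.symm ≪≫ resDQIso W.ι F) (htor _))

/-- Flat case: relative pseudo-coherence is absolute. -/
theorem isPC_of_relAll (f : X ⟶ Spec (CommRingCat.of A)) [Flat f] [LocallyOfFinitePresentation f]
    {M : DCoh.D X} (h : DerSch.IsPseudoCoherentRelAll f M) (m : ℤ) : DCoh.IsPseudoCoherentD m M := by
  have h1 := RelPCSchLib.rel_comp_iff (𝟙 X) f (RelPCSchLib.phBase_of_flat f) m M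
  rw [Category.id_comp] at h1
  obtain ⟨k⟩ := RelPCSchLib.nonempty_push_id M
  exact isPC_of_iso k ((RelPCSchLib.rel_immersion_iff (𝟙 X) m _).1 (h1.1 (h m)))

end Test

end Groth.Agent.Dual3Lib
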