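import Groth.Agent.Dual3Lib.DualizingModule
import Groth.Agent.FibVanLib.Affine

/-!
# The relative dualizing module of a proper scheme over a local ring
-/

set_option autoImplicit false
set_option linter.style.haveILetI false
set_option backward.isDefEq.respectTransparency false
set_option backward.isDefEq.respectTransparency.types false
set_option maxHeartbeats 1000000
set_option synthInstance.maxHeartbeats 200000

universe u

open CategoryTheory CategoryTheory.Limits AlgebraicGeometry DerivedCategory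
open Groth.Agent.DualCxLib

attribute [local instance] HasDerivedCategory.standard

noncomputable section

namespace Groth.Agent.Dual3Lib

variable [∀ (U V : Scheme.{u}) (j : U ⟶ V) [IsOpenImmersion j], PreservesFiniteLimits (Scheme.Modules.restrictFunctor j)]

/-- Restriction along the identity. -/
theorem nonempty_restrictD_id {X : Scheme.{u}} (K : DCoh.D X) :
    Nonempty ((DCoh.restrictD (𝟙 X)).obj K ≅ K) := by
  let P := DerivedCategory.Q.objPreimage K
  let e : DerivedCategory.Q.obj P ≅ K := DerivedCategory.Q.objObjPreimageIso K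
  let c : ((Scheme.Modules.restrictFunctor (𝟙 X)).mapHomologicalComplex (ComplexShape.up ℤ)).obj P ≅ P :=
    HomologicalComplex.Hom.isoOfComponents (fun i => Scheme.Modules.restrictFunctorId.app (P.X i))
      fun i j _ => (Scheme.Modules.restrictFunctorId.hom.naturality (P.d i j)).symm
  exact ⟨(DCoh.restrictD (𝟙 X)).mapIso e.symm ≪≫ restrictQ (𝟙 X) P ≪≫ DerivedCategory.Q.mapIso c ≪≫ e⟩

variable [∀ (R : CommRingCat.{u}), PreservesFiniteLimits (tilde.functor R)]

theorem isDualizingSch_tildeD {A : Type u} [CommRing A] [IsNoetherianRing A] {ω : Dual.D A}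
    (hω : Dual.IsDualizing A ω) {K : DCoh.D (Spec (CommRingCat.of A))}
    (e : K ≅ (DCoh.tildeD (CommRingCat.of A)).obj ω) : Dual2.IsDualizingSch (Spec (CommRingCat.of A)) K := by
  obtain ⟨i⟩ := nonempty_restrictD_id K
  exact isDualizingSch_of_cover (ι := PUnit.{u+1}) (fun _ => A) (fun _ => 𝟙 (Spec (CommRingCat.of A)))
    (fun x => ⟨⟨⟩, x, rfl⟩) fun _ => ⟨ω, hω, ⟨i ≪≫ e⟩⟩

theorem isGE_normalized {A : Type u} [CommRing A] [IsLocalRing A] [IsNoetherianRing A] {ω : Dual.D A}
    (hω : Dual.IsDualizing A ω) (hn : Dual.IsNormalized A ω) (dA : ℕ) (hdA : ringKrullDim A ≤ dA) :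
    ω.IsGE (-(dA : ℤ)) := by
  refine (isGE_iff _ _).2 fun i hi => ?_
  have := subsingleton_ext_of_lt hω hn A dA (le_trans (Module.supportDim_le_ringKrullDim A A) hdA) i hi
  exact (ModuleCat.isZero_iff_subsingleton).2 ((extHL ω i).toEquiv.symm.subsingleton)

theorem subsingleton_HH_closedFibre {A : Type u} [CommRing A] [IsLocalRing A] [IsNoetherianRing A]
    {X : Scheme.{u}} (f : X ⟶ Spec (CommRingCat.of A)) [IsProper f] (d : ℕ)
    (hd : topologicalKrullDim (f.fiber (IsLocalRing.closedPoint A)) ≤ d)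
    (F : X.Modules) (hF : Coh.IsQCoh F) (j : ℕ) (hj : d < j) : Subsingleton (Coh.HH X F j) := by
  haveI := hF
  let U : (Spec (CommRingCat.of A)).Opens :=
    ⟨_, FibDimLib.isOpen_fiber_dim_le f f.isClosedMap (d : WithBot ℕ∞)⟩
  have hU : ∀ s : Spec (CommRingCat.of A), s ∈ U := fun s =>
    (IsLocalRing.specializes_closedPoint (R := A) s).mem_open U.2 hd
  exact FibVanLib.subsingleton_HH_affine f d hU F j hj

theorem isGE_rightAdjoint {A : Type u} [CommRing A] [IsLocalRing A] [IsNoetherianRing A] {X : Scheme.{u}}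
    [X.Over (Spec (CommRingCat.of A))] [IsProper (X ↘ Spec (CommRingCat.of A))]
    [DCoh.HasRpush (X ↘ Spec (CommRingCat.of A))]
    (hf : DCoh.RpushPreservesQCoh (X ↘ Spec (CommRingCat.of A)))
    (a : DCoh.DQCoh (Spec (CommRingCat.of A)) ⥤ DCoh.DQCoh X)
    (adj : DCoh.RpushQ (X ↘ Spec (CommRingCat.of A)) hf ⊣ a) (W : DCoh.DQCoh (Spec (CommRingCat.of A)))
    {ω : Dual.D A} (hω : Dual.IsDualizing A ω) (eW : W.obj ≅ (DCoh.tildeD (CommRingCat.of A)).obj ω)
    (m : ℤ) [ω.IsGE m] (d : ℕ)
    (hd : topologicalKrullDim ((X ↘ Spec (CommRingCat.of A)).fiber (IsLocalRing.closedPoint A)) ≤ d) :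
    (a.obj W).obj.IsGE (m - d) := by
  haveI : IsLocallyNoetherian X := LocallyOfFiniteType.isLocallyNoetherian (X ↘ Spec (CommRingCat.of A))
  haveI : CompactSpace X := QuasiCompact.compactSpace_of_compactSpace (X ↘ Spec (CommRingCat.of A))
  obtain ⟨N, hN⟩ := Groth.Agent.S1767.result X (Spec (CommRingCat.of A)) (X ↘ Spec (CommRingCat.of A)) hf a adj
  obtain ⟨b, hb⟩ := exists_isGE_of_isDualizingSch (isDualizingSch_tildeD hω eW)
  have hstart : (a.obj W).obj.IsGE (b - 1 - N) := (isGE_iff _ _).2 fun i hi =>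
    hN W (b - 1) (fun j hj => isZero_of_isGE W.obj b j (by omega)) i (by omega)
  suffices h : ∀ k : ℕ, b - 1 - N + k ≤ m - d → (a.obj W).obj.IsGE (b - 1 - N + k) by
    by_cases hle : b - 1 - N ≤ m - d
    · have := h (m - d - (b - 1 - N)).toNat (by omega)
      rwa [show b - 1 - N + ((m - d - (b - 1 - N)).toNat : ℤ) = m - d by omega] at this
    · exact TStructure.t.isGE_of_ge _ (m - d) (b - 1 - N) (by omega)
  intro k
  induction k with
  | zero => intro _; simpa using hstart
  | succ k ih =>
    intro hk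
    haveI hge := ih (by omega)
    let c := b - 1 - N + (k : ℤ)
    haveI : ω.IsGE (c + d) := TStructure.t.isGE_of_ge _ (c + d) m (by omega)
    obtain ⟨t, ht⟩ := exists_trace hf a adj d (c + d) c (by omega) W eW hge
    have hz : Subsingleton ((homologyFunctor (ModuleCat.{u} A) (c + d)).obj ω) :=
      ModuleCat.subsingleton_of_isZero (isZero_of_isGE ω m _ (by omega))
    have hG : Coh.IsQCoh (DCoh.HD (a.obj W).obj c) := (a.obj W).property _
    obtain ⟨φ, -, huniq⟩ := ht _ hG (fun j hj => subsingleton_HH_closedFibre _ d hd _ hG j hj) 0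
    have h0 : IsZero (DCoh.HD (a.obj W).obj c) := (IsZero.iff_id_eq_zero _).2
      ((huniq (𝟙 _) fun x => Subsingleton.elim _ _).trans (huniq 0 fun x => Subsingleton.elim _ _).symm)
    refine (isGE_iff _ _).2 fun i hi => ?_
    rcases eq_or_ne i c with rfl | hne
    · exact h0
    · exact isZero_of_isGE _ c i (by omega)

end Groth.Agent.Dual3Lib
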