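import Groth.Agent.Dual3Lib.PushHom
import Groth.Agent.KFlatLib.Factor

/-!
# Twisting by a shift of the unit
-/

set_option autoImplicit false
set_option linter.style.haveILetI false
set_option backward.isDefEq.respectTransparency false
set_option backward.isDefEq.respectTransparency.types false
set_option maxHeartbeats 1000000

universe u

open CategoryTheory CategoryTheory.Limits AlgebraicGeometry CategoryTheory.Pretriangulated
open HomologicalComplex
open Groth.Agent.DerLib Groth.Agent.PerfDualLib Groth.Agent.ProjFormLib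

attribute [local instance] HasDerivedCategory.standard

namespace Groth.Agent.Dual3Lib

section Generic

variable {C D : Type*} [Category* C] [Category* D] {L : C ⥤ D} {R : D ⥤ C} (adj : L ⊣ R)
  (B : C ⥤ C ⥤ C) (B' : D ⥤ D ⥤ D)
  (e : ∀ A F : C, (B'.obj (L.obj A)).obj (L.obj F) ≅ L.obj ((B.obj A).obj F))

/-- The projection map is natural in the pair `(A, I)`. -/
theorem projGen_natural₁
    (he₁ : ∀ {A A' : C} (a : A ⟶ A') (F : C),
      (B'.map (L.map a)).app (L.obj F) ≫ (e A' F).hom = (e A F).hom ≫ L.map ((B.map a).app F))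
    {A A' : C} {I I' : D} (ψ : A ⟶ R.obj I) (ψ' : A' ⟶ R.obj I') (b : A ⟶ A') (φ : I ⟶ I')
    (h : b ≫ ψ' = ψ ≫ R.map φ) (F : C) :
    (B.map b).app F ≫ projGen adj B B' e ψ' F =
      projGen adj B B' e ψ F ≫ R.map ((B'.map φ).app (L.obj F)) := by
  unfold projGen
  rw [← adj.homEquiv_naturality_left, ← adj.homEquiv_naturality_right]
  refine congrArg _ ?_
  have h1 : (e A F).inv ≫ (B'.map (L.map b)).app (L.obj F) =
      L.map ((B.map b).app F) ≫ (e A' F).inv := by
    rw [Iso.inv_comp_eq, ← Category.assoc, Iso.eq_comp_inv]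
    exact he₁ b F
  rw [← reassoc_of% h1, Category.assoc, ← NatTrans.comp_app, ← Functor.map_comp, ← NatTrans.comp_app,
    ← Functor.map_comp, ← adj.homEquiv_naturality_left_symm, ← adj.homEquiv_naturality_right_symm, h]

end Generic

variable {X Y : Scheme.{u}}

theorem isKFlat_shiftN {K : Cx X} (hK : DCoh.IsKFlat K) (n : ℤ) : DCoh.IsKFlat (K⟦n⟧) := fun L hL i =>
  (((HomologicalComplex.homologyFunctor X.Modules (ComplexShape.up ℤ) 0).shiftIso n i (n + i) rfl).app
    ((DCoh.tensorBi (X := X)).map₂CochainComplex.obj L |>.obj K) |> fun s =>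
      (hK L hL (n + i)).of_iso ((HomologicalComplex.homologyFunctor X.Modules (ComplexShape.up ℤ) i).mapIso
        (CochainComplex.mapBifunctorShift₂Iso L K (DCoh.tensorBi (X := X)) n) ≪≫ s))

/-- Tensoring with a shift of the unit is a shift, naturally. -/
theorem nonempty_flipShiftUnit (n : ℤ) {U : Cx X} (e : U ≅ (unitCx X)⟦n⟧) :
    Nonempty ((Tb X).map₂CochainComplex.flip.obj U ⋙ DerivedCategory.Q ≅
      DerivedCategory.Q ⋙ shiftFunctor (DerivedCategory X.Modules) n) := by
  let σ : ∀ K : Cx X, ((Tb X).map₂CochainComplex.obj K).obj U ≅ K⟦n⟧ := fun K =>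
    ((Tb X).map₂CochainComplex.obj K).mapIso e ≪≫
      (((Tb X).map₂CochainComplex.obj K).commShiftIso n).app (unitCx X) ≪≫
        (shiftFunctor (Cx X) n).mapIso (unitNat.app K)
  have hσ : ∀ {K K' : Cx X} (a : K ⟶ K'),
      ((Tb X).map₂CochainComplex.map a).app U ≫ (σ K').hom = (σ K).hom ≫ a⟦n⟧' := by
    intro K K' a
    simp only [σ, Iso.trans_hom, Functor.mapIso_hom, Iso.app_hom, Category.assoc]
    rw [← reassoc_of% (((Tb X).map₂CochainComplex.map a).naturality e.hom),
      ← reassoc_of% (NatTrans.shift_app_comm ((Tb X).map₂CochainComplex.map a) n (unitCx X)),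
      ← Functor.map_comp, ← Functor.map_comp]
    exact congrArg (fun z => _ ≫ _ ≫ z) (congrArg (fun z => z⟦n⟧') (unitNat.hom.naturality a))
  refine ⟨NatIso.ofComponents (fun K => DerivedCategory.Q.mapIso (σ K) ≪≫
    ((DerivedCategory.Q (C := X.Modules)).commShiftIso n).app K) fun {K K'} a => ?_⟩
  simp only [Functor.comp_map, Iso.trans_hom, Functor.mapIso_hom, Iso.app_hom, Category.assoc]
  rw [← DerivedCategory.Q.map_comp_assoc]
  erw [hσ a]
  rw [DerivedCategory.Q.map_comp, Category.assoc]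
  exact congrArg (_ ≫ ·) ((DerivedCategory.Q.commShiftIso n).hom.naturality a)

variable (f : X ⟶ Y) [DCoh.HasRpush f]

theorem pullTensor_app₁ {A A' : Cx Y} (a : A ⟶ A') (F : Cx Y) :
    ((Tb X).map₂CochainComplex.map ((pullC f).map a)).app ((pullC f).obj F) ≫
        (KFlatLib.pullTensorCxIso f A' F).hom =
      (KFlatLib.pullTensorCxIso f A F).hom ≫
        (pullC f).map (((Tb Y).map₂CochainComplex.map a).app F) :=
  pullTensor_natural₁ f a F

theorem proj_natural₁ {A A' : Cx Y} {I I' : Cx X} (ψ : A ⟶ (pushC f).obj I) (ψ' : A' ⟶ (pushC f).obj I')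
    (b : A ⟶ A') (φ : I ⟶ I') (h : b ≫ ψ' = ψ ≫ (pushC f).map φ) (F : Cx Y) :
    ((Tb Y).map₂CochainComplex.map b).app F ≫ proj f ψ' F =
      proj f ψ F ≫ (pushC f).map (((Tb X).map₂CochainComplex.map φ).app ((pullC f).obj F)) :=
  projGen_natural₁ (cxAdj f) (Tb Y).map₂CochainComplex (Tb X).map₂CochainComplex
    (KFlatLib.pullTensorCxIso f) (fun {_ _} a F => pullTensor_app₁ f a F) ψ ψ' b φ h F

/-- The derived projection map is natural in the pair `(A, I)`. -/
theorem beta_natural₁ {A A' : Cx Y} {I I' : Cx X} (ψ : A ⟶ (pushC f).obj I) (ψ' : A' ⟶ (pushC f).obj I')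
    (b : A ⟶ A') (φ : I ⟶ I') (h : b ≫ ψ' = ψ ≫ (pushC f).map φ) (F : Cx Y) :
    DerivedCategory.Q.map (((Tb Y).map₂CochainComplex.map b).app F) ≫ beta f ψ' F =
      beta f ψ F ≫ (DCoh.Rpush f).map
        (DerivedCategory.Q.map (((Tb X).map₂CochainComplex.map φ).app ((pullC f).obj F))) := by
  have hp := proj_natural₁ f ψ ψ' b φ h F
  simp only [beta, Category.assoc]
  rw [← pushQ_natural, ← DerivedCategory.Q.map_comp_assoc, ← DerivedCategory.Q.map_comp_assoc, hp]

theorem bijective_shift_conj {C : Type*} [Category C] [HasShift C ℤ] (n : ℤ) {A B A' B' : C}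
    (e : A' ≅ A⟦n⟧) (e' : B' ≅ B⟦n⟧) :
    Function.Bijective fun g : A ⟶ B => e.hom ≫ g⟦n⟧' ≫ e'.inv :=
  (Iso.homCongr e.symm e'.symm).bijective.comp
    ((Functor.FullyFaithful.ofFullyFaithful (shiftFunctor C n)).homEquiv).bijective

/-- Bijectivity of `g ↦ Rf g ≫ c` is invariant under twisting by a shift of the unit. -/
theorem bijective_twist_iff [QuasiCompact f] [QuasiSeparated f] {I : Cx X} [I.IsKInjective]
    (hI : DCoh.IsQCohD (DerivedCategory.Q.obj I)) {J : Cx Y}
    (c : (KFlatLib.resP Y).obj ((pushC f).obj I) ⟶ J) {U : Cx Y} (hU : DCoh.IsKFlat U)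
    (hUq : DCoh.IsQCohD (DerivedCategory.Q.obj U)) (n : ℤ)
    (x : (Tb Y).map₂CochainComplex.flip.obj U ⋙ DerivedCategory.Q ≅
      DerivedCategory.Q ⋙ shiftFunctor (DerivedCategory Y.Modules) n)
    (v : (Tb X).map₂CochainComplex.flip.obj ((pullC f).obj U) ⋙ DerivedCategory.Q ≅
      DerivedCategory.Q ⋙ shiftFunctor (DerivedCategory X.Modules) n)
    [IsIso (beta f ((KFlatLib.resψ Y).app ((pushC f).obj I)) U)]
    [IsIso (DerivedCategory.Q.map ((KFlatLib.resψ Y).app ((pushC f).obj I)) ≫ pushQ f I)] :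
    (∀ T : DCoh.D X, DCoh.IsQCohD T → Function.Bijective
      fun g : T ⟶ DerivedCategory.Q.obj ((Gen.tL (Tb X) I).obj ((pullC f).obj U)) =>
        (DCoh.Rpush f).map g ≫ inv (beta f ((KFlatLib.resψ Y).app ((pushC f).obj I)) U) ≫
          DerivedCategory.Q.map (((Tb Y).map₂CochainComplex.map c).app U)) ↔
    (∀ T : DCoh.D X, DCoh.IsQCohD T → Function.Bijective
      fun g : T ⟶ DerivedCategory.Q.obj I => (DCoh.Rpush f).map g ≫
        inv (DerivedCategory.Q.map ((KFlatLib.resψ Y).app ((pushC f).obj I)) ≫ pushQ f I) ≫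
          DerivedCategory.Q.map c) := by
  let ψ : ∀ P : Cx X, (KFlatLib.resP Y).obj ((pushC f).obj P) ⟶ (pushC f).obj P := fun P =>
    (KFlatLib.resψ Y).app ((pushC f).obj P)
  let S := inv (beta f (ψ I) U) ≫ DerivedCategory.Q.map (((Tb Y).map₂CochainComplex.map c).app U)
  let W := inv (DerivedCategory.Q.map (ψ I) ≫ pushQ f I) ≫ DerivedCategory.Q.map c
  have key : ∀ P : Cx X, P.IsKInjective → DCoh.IsQCohD (DerivedCategory.Q.obj P) →
      ((Function.Bijective fun g : DerivedCategory.Q.obj ((Gen.tL (Tb X) P).obj ((pullC f).obj U)) ⟶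
          DerivedCategory.Q.obj ((Gen.tL (Tb X) I).obj ((pullC f).obj U)) =>
        (DCoh.Rpush f).map g ≫ S) ↔
      Function.Bijective fun g : DerivedCategory.Q.obj P ⟶ DerivedCategory.Q.obj I =>
        (DCoh.Rpush f).map g ≫ W) := by
    intro P hP hPq
    haveI := hP
    haveI hψ : ∀ R : Cx X, QuasiIso (ψ R) := fun R => KFlatLib.quasiIso_resψ _
    haveI := isIso_beta_of_qcoh f (ψ P) (KFlatLib.good_resP _).1 hPq U hU hUq
    haveI : IsIso (DerivedCategory.Q.map (ψ P) ≫ pushQ f P) := by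
      haveI := isIso_pushQ f P
      infer_instance
    let α := fun g : DerivedCategory.Q.obj P ⟶ DerivedCategory.Q.obj I =>
      (v.app P).hom ≫ g⟦n⟧' ≫ (v.app I).inv
    have hα : Function.Bijective α := bijective_shift_conj n (v.app P) (v.app I)
    let β := fun h : (DCoh.Rpush f).obj (DerivedCategory.Q.obj P) ⟶ DerivedCategory.Q.obj J =>
      inv (beta f (ψ P) U) ≫ (x.app _).hom ≫
        ((DerivedCategory.Q.map (ψ P) ≫ pushQ f P) ≫ h)⟦n⟧' ≫ (x.app J).inv
    have hβ : Function.Bijective β :=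
      (bijective_iso_comp (asIso (beta f (ψ P) U)).symm _).comp
        ((bijective_shift_conj n (x.app _) (x.app J)).comp
          (bijective_iso_comp (asIso (DerivedCategory.Q.map (ψ P) ≫ pushQ f P)) _))
    have hcomm : (fun g => (DCoh.Rpush f).map g ≫ S) ∘ α =
        β ∘ fun g : DerivedCategory.Q.obj P ⟶ DerivedCategory.Q.obj I => (DCoh.Rpush f).map g ≫ W := by
      funext g
      obtain ⟨φ, rfl⟩ := KInjUse.Q_map_surjective P I g
      let b := (KFlatLib.resP Y).map ((pushC f).map φ)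
      have hb : b ≫ ψ I = ψ P ≫ (pushC f).map φ := (KFlatLib.resψ Y).naturality ((pushC f).map φ)
      have h1 : α (DerivedCategory.Q.map φ) =
          DerivedCategory.Q.map (((Tb X).map₂CochainComplex.map φ).app ((pullC f).obj U)) := by
        simp only [α]
        rw [← Category.assoc, Iso.comp_inv_eq]
        exact (v.hom.naturality φ).symm
      have h2 : DerivedCategory.Q.map b ≫ (DerivedCategory.Q.map (ψ I) ≫ pushQ f I) =
          (DerivedCategory.Q.map (ψ P) ≫ pushQ f P) ≫ (DCoh.Rpush f).map (DerivedCategory.Q.map φ) := by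
        rw [Category.assoc, ← pushQ_natural, ← DerivedCategory.Q.map_comp_assoc,
          ← DerivedCategory.Q.map_comp_assoc, hb]
      have h3 : (DerivedCategory.Q.map (ψ P) ≫ pushQ f P) ≫ (DCoh.Rpush f).map (DerivedCategory.Q.map φ) ≫ W =
          DerivedCategory.Q.map b ≫ DerivedCategory.Q.map c := by
        rw [← Category.assoc, ← h2]
        simp only [W, Category.assoc, IsIso.hom_inv_id_assoc]
      have h4 : DerivedCategory.Q.map (((Tb Y).map₂CochainComplex.map (b ≫ c)).app U) =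
          (x.app _).hom ≫ (DerivedCategory.Q.map (b ≫ c))⟦n⟧' ≫ (x.app J).inv := by
        rw [← Category.assoc, Iso.eq_comp_inv]
        exact x.hom.naturality (b ≫ c)
      change (DCoh.Rpush f).map (α (DerivedCategory.Q.map φ)) ≫ S =
        β ((DCoh.Rpush f).map (DerivedCategory.Q.map φ) ≫ W)
      simp only [β]
      rw [h1, h3, ← DerivedCategory.Q.map_comp, ← h4, IsIso.eq_inv_comp, ← Category.assoc,
        ← beta_natural₁ f (ψ P) (ψ I) b φ hb U]
      simp only [S, Category.assoc, IsIso.hom_inv_id_assoc, Functor.map_comp, NatTrans.comp_app]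
    have := congrArg Function.Bijective hcomm
    rw [eq_iff_iff] at this
    exact ⟨fun h => (hβ.of_comp_iff' _).1 (this.1 (h.comp hα)),
      fun h => (Function.Bijective.of_comp_iff _ hα).1 (this.2 (hβ.comp h))⟩
  have htr : ∀ {Z : DCoh.D X} {Z₁ : DCoh.D Y} (R : (DCoh.Rpush f).obj Z ⟶ Z₁) {T T' : DCoh.D X}
      (e : T ≅ T'), (Function.Bijective fun g : T' ⟶ Z => (DCoh.Rpush f).map g ≫ R) →
      Function.Bijective fun g : T ⟶ Z => (DCoh.Rpush f).map g ≫ R := fun {Z Z₁} R {T T'} e h => by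
    have h' := (bijective_iso_comp ((DCoh.Rpush f).mapIso e) Z₁).comp (h.comp (bijective_iso_comp e.symm Z))
    convert h' using 1
    funext g
    simp only [Function.comp_apply, Functor.mapIso_hom, Iso.symm_hom, Functor.map_comp, Category.assoc]
    rw [← Functor.map_comp_assoc, Iso.hom_inv_id, CategoryTheory.Functor.map_id, Category.id_comp]
  constructor
  · intro h T hT
    obtain ⟨P, hP, ⟨eP⟩⟩ := KInjUse.exists_iso_Q_kInjective T
    haveI := hP
    have hPq : DCoh.IsQCohD (DerivedCategory.Q.obj P) := KFlatLib.isQCohD_iso eP hT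
    refine htr W eP ((key P hP hPq).1 (h _ ?_))
    exact KFlatLib.isQCohD_iso (v.app P).symm ((DCoh.IsQCohD (X := X)).le_shift n _ hPq)
  · intro h T hT
    obtain ⟨P, hP, ⟨eP⟩⟩ := KInjUse.exists_iso_Q_kInjective (T⟦-n⟧)
    haveI := hP
    have hPq : DCoh.IsQCohD (DerivedCategory.Q.obj P) :=
      KFlatLib.isQCohD_iso eP ((DCoh.IsQCohD (X := X)).le_shift (-n) _ hT)
    refine htr S (((shiftFunctorCompIsoId (DerivedCategory X.Modules) (-n) n (by omega)).app T).symm ≪≫
      (shiftFunctor (DerivedCategory X.Modules) n).mapIso eP ≪≫ (v.app P).symm) ((key P hP hPq).2 (h _ hPq))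

/-- Bijectivity is invariant under twisting by a shift of the unit. -/
theorem bijective_twist_shiftUnit [QuasiCompact f] [QuasiSeparated f] {I : Cx X} [I.IsKInjective]
    (hI : DCoh.IsQCohD (DerivedCategory.Q.obj I)) {J : Cx Y}
    (c : (KFlatLib.resP Y).obj ((pushC f).obj I) ⟶ J) {U : Cx Y} (hU : DCoh.IsKFlat U)
    (hUq : DCoh.IsQCohD (DerivedCategory.Q.obj U)) (n : ℤ)
    (e : U ≅ (unitCx Y)⟦n⟧) (e' : (pullC f).obj U ≅ (unitCx X)⟦n⟧)
    [IsIso (beta f ((KFlatLib.resψ Y).app ((pushC f).obj I)) U)]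
    [IsIso (DerivedCategory.Q.map ((KFlatLib.resψ Y).app ((pushC f).obj I)) ≫ pushQ f I)] :
    (∀ T : DCoh.D X, DCoh.IsQCohD T → Function.Bijective
      fun g : T ⟶ DerivedCategory.Q.obj ((Gen.tL (Tb X) I).obj ((pullC f).obj U)) =>
        (DCoh.Rpush f).map g ≫ inv (beta f ((KFlatLib.resψ Y).app ((pushC f).obj I)) U) ≫
          DerivedCategory.Q.map (((Tb Y).map₂CochainComplex.map c).app U)) ↔
    (∀ T : DCoh.D X, DCoh.IsQCohD T → Function.Bijective
      fun g : T ⟶ DerivedCategory.Q.obj I => (DCoh.Rpush f).map g ≫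
        inv (DerivedCategory.Q.map ((KFlatLib.resψ Y).app ((pushC f).obj I)) ≫ pushQ f I) ≫
          DerivedCategory.Q.map c) := by
  obtain ⟨x⟩ := nonempty_flipShiftUnit n e
  obtain ⟨v⟩ := nonempty_flipShiftUnit n e'
  exact bijective_twist_iff f hI c hU hUq n x v

end Groth.Agent.Dual3Lib
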