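import Groth.Agent.Dual3Lib.PushHom
import Groth.Agent.KFlatLib.Factor
import Groth.Agent.Dual3Lib.TwistBij

/-!
# The comparison `Lf^*(-) ⊗^L a(O) ⟶ a`
-/

set_option autoImplicit false
set_option linter.style.haveILetI false
set_option backward.isDefEq.respectTransparency false
set_option backward.isDefEq.respectTransparency.types false
set_option maxHeartbeats 1000000

universe u

open CategoryTheory CategoryTheory.Limits AlgebraicGeometry CategoryTheory.Pretriangulated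
open HomologicalComplex
open Groth.Agent.DerLib Groth.Agent.PerfDualLib Groth.Agent.ProjFormLib

attribute [local instance] HasDerivedCategory.standard

namespace Groth.Agent.Dual3Lib

variable {X Y : Scheme.{u}}

/-- A composite of natural isomorphisms, kept opaque. -/
noncomputable def transNat {T U : Cx Y ⥤ Cx Y} (a : T ≅ U) (b : U ≅ 𝟭 (Cx Y)) : T ≅ 𝟭 (Cx Y) := a ≪≫ b

/-- `O ⊗ F ≅ F` on complexes. -/
theorem exists_leftUnit : Nonempty (Gen.tL (Tb Y) (unitCx Y) ≅ 𝟭 (Cx Y)) :=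
  ⟨transNat (tLIso (unitCx Y)) unitNat⟩

theorem quasiIso_m_left {K K' : Cx Y} (m : K ⟶ K') [QuasiIso m] {F : Cx Y} (hF : DCoh.IsKFlat F) :
    QuasiIso (((Tb Y).map₂CochainComplex.map m).app F) := by
  haveI := KFlatLib.quasiIso_tensor_left hF m
  have h := bX_natural m (𝟙 F)
  have h' : ((Tb Y).map₂CochainComplex.map m).app F =
      (bX K F).hom ≫ (Gen.tL (Tb Y) F).map m ≫ (bX K' F).inv := by
    rw [← Category.assoc, Iso.eq_comp_inv]
    simpa [Gen.m2] using h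
  rw [h']
  haveI : QuasiIso ((Gen.tL (Tb Y) F).map m) := ‹_›
  infer_instance

theorem isIso_twist_pull (f : X ⟶ Y) (I : Cx X) {F F' : Cx Y} (hF : DCoh.IsKFlat F) (hF' : DCoh.IsKFlat F')
    (μ : F ⟶ F') [QuasiIso μ] :
    IsIso (DerivedCategory.Q.map ((Gen.tL (Tb X) I).map ((pullC f).map μ))) :=
  (DerivedCategory.isIso_Q_map_iff_quasiIso _ _).2 (quasiIso_of_qisOn_top
    (qisOn_tL_flat I (KFlatLib.isKFlat_pull f hF) (KFlatLib.isKFlat_pull f hF')
      (qisOn_pull f hF hF' (QisOn.of_quasiIso ⊤ μ))))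

variable (f : X ⟶ Y) [CompactSpace X] [QuasiSeparatedSpace X] [CompactSpace Y] [QuasiSeparatedSpace Y]
  [QuasiCompact f] [QuasiSeparated f] [DCoh.HasRpush f]
  (hf : DCoh.RpushPreservesQCoh f) (a : DCoh.DQCoh Y ⥤ DCoh.DQCoh X) (adj : DCoh.RpushQ f hf ⊣ a)
  (O : DCoh.DQCoh Y) (hO : Nonempty (O.obj ≅ DCoh.inD Y (Coh.structureModule Y)))
  [DCoh.HasLpull f] (E : Cx X) (hE : Nonempty (DCoh.toD X E ≅ (a.obj O).obj)) [DCoh.HasLTensorCx E]

include adj hO hE in
/-- The comparison map, invertible at the shifts of the structure sheaf. -/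
theorem exists_theta :
    ∃ θ : (DCoh.IsQCohD (X := Y)).ι ⋙ DCoh.Lpull f ⋙ DCoh.LTensorCx E ⟶ a ⋙ (DCoh.IsQCohD (X := X)).ι,
      ∀ n : ℤ, IsIso (θ.app (O⟦n⟧)) := by
  classical
  obtain ⟨eO⟩ := hO
  obtain ⟨eE⟩ := hE
  obtain ⟨I, hI, ⟨eI⟩⟩ := KInjUse.exists_iso_Q_kInjective (a.obj O).obj
  haveI := hI
  haveI := KFlatLib.hasLTensorCx I
  have hIq : DCoh.IsQCohD (DerivedCategory.Q.obj I) := KFlatLib.isQCohD_iso eI (a.obj O).property
  let A := (KFlatLib.resP Y).obj ((pushC f).obj I)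
  let ψ : A ⟶ (pushC f).obj I := (KFlatLib.resψ Y).app ((pushC f).obj I)
  haveI : QuasiIso ψ := KFlatLib.quasiIso_resψ _
  have hA : DCoh.IsKFlat A := (KFlatLib.good_resP _).1
  have hu : DCoh.IsKFlat (unitCx Y) := KFlatLib.isKFlat_of_isStrictlyPerfect (isStrictlyPerfect_unitCx Y)
  let e₁ : O.obj ≅ DerivedCategory.Q.obj (unitCx Y) :=
    eO ≪≫ (DerivedCategory.singleFunctorIsoCompQ Y.Modules 0).app (Coh.structureModule Y)
  have huq : DCoh.IsQCohD (DerivedCategory.Q.obj (unitCx Y)) := KFlatLib.isQCohD_iso e₁ O.property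
  obtain ⟨J, hJ, ⟨eJ⟩⟩ := KInjUse.exists_iso_Q_kInjective (DerivedCategory.Q.obj (unitCx Y))
  haveI := hJ
  obtain ⟨u₁, hu₁, -⟩ := exists_quasiIso eJ
  haveI := hu₁
  obtain ⟨γX, hγX⟩ := exists_gamma I
  obtain ⟨lu⟩ := exists_leftUnit (Y := Y)
  let G : ∀ (F : Cx Y), DCoh.IsKFlat F →
      ((DCoh.LTensorCx I).obj ((DCoh.Lpull f).obj (DerivedCategory.Q.obj F)) ≅
        DerivedCategory.Q.obj ((Gen.tL (Tb X) I).obj ((pullC f).obj F))) := fun F hF =>
    (DCoh.LTensorCx I).mapIso (KFlatLib.lpullObjIso f F hF) ≪≫ γX _ (KFlatLib.isKFlat_pull f hF)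
  have hG : ∀ (F F' : Cx Y) (hF : DCoh.IsKFlat F) (hF' : DCoh.IsKFlat F') (μ : F ⟶ F'),
      (DCoh.LTensorCx I).map ((DCoh.Lpull f).map (DerivedCategory.Q.map μ)) ≫ (G F' hF').hom =
        (G F hF).hom ≫ DerivedCategory.Q.map ((Gen.tL (Tb X) I).map ((pullC f).map μ)) := by
    intro F F' hF hF' μ
    simp only [G, Iso.trans_hom, Functor.mapIso_hom, Category.assoc]
    rw [← Functor.map_comp_assoc, LpullTildeLib.lpullObjIso_natural f hF hF' μ, Functor.map_comp,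
      Category.assoc]
    exact congrArg (_ ≫ ·) (hγX _ _ (KFlatLib.isKFlat_pull f hF) (KFlatLib.isKFlat_pull f hF') _)
  have hTq : ∀ (F : Cx Y), DCoh.IsKFlat F → DCoh.IsQCohD (DerivedCategory.Q.obj F) →
      DCoh.IsQCohD (DerivedCategory.Q.obj ((Gen.tL (Tb X) I).obj ((pullC f).obj F))) := fun F hF hFq =>
    KFlatLib.isQCohD_iso (G F hF) (KFlatLib.isQCohD_lTensorCx I hIq _ (KFlatLib.isQCohD_lpull f _ hFq))
  -- the unit of the tensor product, evaluated at the model of the structure sheaf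
  let κ : ∀ K : DCoh.DQCoh Y, (DCoh.Rpush f).obj (a.obj K).obj ⟶ K.obj := fun K => (adj.counit.app K).hom
  have hκnat : ∀ {K K' : DCoh.DQCoh Y} (φ : K ⟶ K'),
      (DCoh.Rpush f).map (a.map φ).hom ≫ κ K' = κ K ≫ φ.hom := fun φ =>
    congrArg (fun z => z.hom) (adj.counit.naturality φ)
  have hκ : ∀ (K : DCoh.DQCoh Y) (T : DCoh.D X), DCoh.IsQCohD T →
      Function.Bijective fun g : T ⟶ (a.obj K).obj => (DCoh.Rpush f).map g ≫ κ K := by
    intro K T hT
    have h : (fun g : T ⟶ (a.obj K).obj => (DCoh.Rpush f).map g ≫ κ K) =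
        fun g => ((adj.homEquiv ⟨T, hT⟩ K).symm (ObjectProperty.homMk g)).hom := funext fun g => by
      rw [Adjunction.homEquiv_counit]
      rfl
    rw [h]
    let g₁ : (T ⟶ (a.obj K).obj) ≃ ((⟨T, hT⟩ : DCoh.DQCoh X) ⟶ a.obj K) :=
      ⟨fun g => ObjectProperty.homMk g, fun g => g.hom, fun _ => rfl, fun _ => rfl⟩
    let g₂ : ((DCoh.RpushQ f hf).obj ⟨T, hT⟩ ⟶ K) ≃ ((DCoh.Rpush f).obj T ⟶ K.obj) :=
      ⟨fun g => g.hom, fun g => ObjectProperty.homMk g, fun _ => rfl, fun _ => rfl⟩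
    exact ((g₁.trans (adj.homEquiv ⟨T, hT⟩ K).symm).trans g₂).bijective
  -- the image of `unit` is `a O`
  let eu : (pullC f).obj (unitCx Y) ≅ unitCx X :=
    (singleMapHomologicalComplex (Scheme.Modules.pullback f) (ComplexShape.up ℤ) 0).app
      (Coh.structureModule Y) ≪≫
      (single X.Modules (ComplexShape.up ℤ) 0).mapIso (KFlatLib.pullUnitIso (f := f))
  let Ku : DCoh.DQCoh Y := ⟨DerivedCategory.Q.obj (unitCx Y), huq⟩
  let eOu : O ≅ Ku := ObjectProperty.isoMk _ e₁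
  let η : DerivedCategory.Q.obj ((Gen.tL (Tb X) I).obj ((pullC f).obj (unitCx Y))) ≅ (a.obj Ku).obj :=
    DerivedCategory.Q.mapIso ((Gen.tL (Tb X) I).mapIso eu ≪≫ unitNat.app I) ≪≫ eI.symm ≪≫
      (DCoh.IsQCohD (X := X)).ι.mapIso (a.mapIso eOu)
  let m : ∀ {K K' : Cx Y} (_ : K ⟶ K') (F : Cx Y), Gen.t2 (Tb Y) K F ⟶ Gen.t2 (Tb Y) K' F :=
    fun c F => ((Tb Y).map₂CochainComplex.map c).app F
  have hmu : ∀ F : Cx Y, DCoh.IsKFlat F → IsIso (DerivedCategory.Q.map (m u₁ F)) := fun F hF =>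
    (DerivedCategory.isIso_Q_map_iff_quasiIso _ _).2 (quasiIso_m_left u₁ hF)
  let α : DerivedCategory.Q.obj (Gen.t2 (Tb Y) A (unitCx Y)) ⟶ DerivedCategory.Q.obj (unitCx Y) :=
    beta f ψ (unitCx Y) ≫ (DCoh.Rpush f).map η.hom ≫ κ Ku
  let ρ : ∀ K : Cx Y, Gen.t2 (Tb Y) K (unitCx Y) ≅ K := fun K => unitNat.app K
  have hρ : ∀ {K K' : Cx Y} (c : K ⟶ K'), m c (unitCx Y) ≫ (ρ K').hom = (ρ K).hom ≫ c := fun c =>
    unitNat.hom.naturality c
  haveI := hmu (unitCx Y) hu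
  obtain ⟨c, hc⟩ := KInjUse.Q_map_surjective A J (DerivedCategory.Q.map (ρ A).inv ≫ α ≫
    DerivedCategory.Q.map (lu.inv.app (unitCx Y)) ≫ DerivedCategory.Q.map (m u₁ (unitCx Y)) ≫
      DerivedCategory.Q.map (ρ J).hom)
  let s : ∀ (F : Cx Y), DCoh.IsKFlat F → DCoh.IsQCohD (DerivedCategory.Q.obj F) →
      ((DCoh.Rpush f).obj (DerivedCategory.Q.obj ((Gen.tL (Tb X) I).obj ((pullC f).obj F))) ⟶
        DerivedCategory.Q.obj F) := fun F hF hFq =>
    haveI := isIso_beta_of_qcoh f ψ hA hIq F hF hFq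
    haveI := hmu F hF
    inv (beta f ψ F) ≫ DerivedCategory.Q.map (m c F) ≫ inv (DerivedCategory.Q.map (m u₁ F)) ≫
      DerivedCategory.Q.map (lu.hom.app F)
  have hs : ∀ (F F' : Cx Y) (hF : DCoh.IsKFlat F) (hF' : DCoh.IsKFlat F')
      (hFq : DCoh.IsQCohD (DerivedCategory.Q.obj F)) (hFq' : DCoh.IsQCohD (DerivedCategory.Q.obj F'))
      (μ : F ⟶ F'),
      (DCoh.Rpush f).map (DerivedCategory.Q.map ((Gen.tL (Tb X) I).map ((pullC f).map μ))) ≫ s F' hF' hFq' =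
        s F hF hFq ≫ DerivedCategory.Q.map μ := by
    intro F F' hF hF' hFq hFq' μ
    haveI := isIso_beta_of_qcoh f ψ hA hIq F hF hFq
    haveI := isIso_beta_of_qcoh f ψ hA hIq F' hF' hFq'
    haveI := hmu F hF
    haveI := hmu F' hF'
    simp only [s, Category.assoc]
    rw [IsIso.eq_inv_comp, ← Category.assoc (beta f ψ F), ← beta_natural f ψ μ, Category.assoc,
      IsIso.hom_inv_id_assoc]
    have h1 : DerivedCategory.Q.map ((Gen.tL (Tb Y) A).map μ) ≫ DerivedCategory.Q.map (m c F') =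
        DerivedCategory.Q.map (m c F) ≫ DerivedCategory.Q.map ((Gen.tL (Tb Y) J).map μ) := by
      rw [← DerivedCategory.Q.map_comp, ← DerivedCategory.Q.map_comp]
      exact congrArg DerivedCategory.Q.map (((Tb Y).map₂CochainComplex.map c).naturality μ)
    rw [reassoc_of% h1]
    refine congrArg (_ ≫ ·) ?_
    rw [IsIso.eq_inv_comp]
    have h2 : DerivedCategory.Q.map (m u₁ F) ≫ DerivedCategory.Q.map ((Gen.tL (Tb Y) J).map μ) =
        DerivedCategory.Q.map ((Gen.tL (Tb Y) (unitCx Y)).map μ) ≫ DerivedCategory.Q.map (m u₁ F') := by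
      rw [← DerivedCategory.Q.map_comp, ← DerivedCategory.Q.map_comp]
      exact congrArg DerivedCategory.Q.map (((Tb Y).map₂CochainComplex.map u₁).naturality μ).symm
    rw [reassoc_of% h2, IsIso.hom_inv_id_assoc, ← DerivedCategory.Q.map_comp, ← DerivedCategory.Q.map_comp,
      lu.hom.naturality μ]
    rfl
  have ht : ∀ (F : Cx Y) (hF : DCoh.IsKFlat F) (hFq : DCoh.IsQCohD (DerivedCategory.Q.obj F)),
      ∃ t : DerivedCategory.Q.obj ((Gen.tL (Tb X) I).obj ((pullC f).obj F)) ⟶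
          (a.obj ⟨DerivedCategory.Q.obj F, hFq⟩).obj,
        (DCoh.Rpush f).map t ≫ κ ⟨DerivedCategory.Q.obj F, hFq⟩ = s F hF hFq := fun F hF hFq =>
    (hκ _ _ (hTq F hF hFq)).2 _
  choose t ht' using ht
  have htnat : ∀ (F F' : Cx Y) (hF : DCoh.IsKFlat F) (hF' : DCoh.IsKFlat F')
      (hFq : DCoh.IsQCohD (DerivedCategory.Q.obj F)) (hFq' : DCoh.IsQCohD (DerivedCategory.Q.obj F'))
      (μ : F ⟶ F'),
      DerivedCategory.Q.map ((Gen.tL (Tb X) I).map ((pullC f).map μ)) ≫ t F' hF' hFq' =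
        t F hF hFq ≫ (a.map (ObjectProperty.homMk (DerivedCategory.Q.map μ) :
          (⟨DerivedCategory.Q.obj F, hFq⟩ : DCoh.DQCoh Y) ⟶ ⟨DerivedCategory.Q.obj F', hFq'⟩)).hom := by
    intro F F' hF hF' hFq hFq' μ
    apply (hκ _ _ (hTq F hF hFq)).1
    change (DCoh.Rpush f).map _ ≫ κ _ = (DCoh.Rpush f).map _ ≫ κ _
    simp only [Functor.map_comp, Category.assoc]
    rw [ht', hs F F' hF hF' hFq hFq' μ, hκnat, ← Category.assoc, ht']
    rfl
  -- functorial models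
  choose Jm hJm eJm using fun K : DCoh.DQCoh Y => KInjUse.exists_iso_Q_kInjective K.obj
  let F₀ : DCoh.DQCoh Y → Cx Y := fun K => (KFlatLib.resP Y).obj (Jm K)
  have hF₀ : ∀ K, DCoh.IsKFlat (F₀ K) := fun K => (KFlatLib.good_resP (Jm K)).1
  let j : ∀ K : DCoh.DQCoh Y, DerivedCategory.Q.obj (F₀ K) ≅ K.obj := fun K =>
    haveI : QuasiIso ((KFlatLib.resψ Y).app (Jm K)) := KFlatLib.quasiIso_resψ _
    asIso (DerivedCategory.Q.map ((KFlatLib.resψ Y).app (Jm K))) ≪≫ (eJm K).some.symm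
  have hF₀q : ∀ K, DCoh.IsQCohD (DerivedCategory.Q.obj (F₀ K)) := fun K =>
    KFlatLib.isQCohD_iso (j K).symm K.property
  obtain ⟨r⟩ := ProjFormLib.nonempty_lTensor_congr_iso (M := E) (N := I) (eE ≪≫ eI)
  let θapp : ∀ K : DCoh.DQCoh Y, (DCoh.LTensorCx E).obj ((DCoh.Lpull f).obj K.obj) ⟶ (a.obj K).obj :=
    fun K => r.hom.app _ ≫ (DCoh.LTensorCx I).map ((DCoh.Lpull f).map (j K).inv) ≫ (G _ (hF₀ K)).hom ≫
      t _ (hF₀ K) (hF₀q K) ≫ (a.map (ObjectProperty.homMk (j K).hom :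
        (⟨DerivedCategory.Q.obj (F₀ K), hF₀q K⟩ : DCoh.DQCoh Y) ⟶ K)).hom
  let θ : (DCoh.IsQCohD (X := Y)).ι ⋙ DCoh.Lpull f ⋙ DCoh.LTensorCx E ⟶
      a ⋙ (DCoh.IsQCohD (X := X)).ι :=
    { app := θapp
      naturality := fun K K' φ => by
        obtain ⟨mm, hmm⟩ := KInjUse.Q_map_surjective (Jm K) (Jm K')
          ((eJm K).some.inv ≫ φ.hom ≫ (eJm K').some.hom)
        let μ := (KFlatLib.resP Y).map mm
        have hμ : DerivedCategory.Q.map μ ≫ (j K').hom = (j K).hom ≫ φ.hom := by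
          have hn := congrArg DerivedCategory.Q.map ((KFlatLib.resψ Y).naturality mm)
          rw [Functor.map_comp, Functor.map_comp] at hn
          simp only [j, Iso.trans_hom, Iso.symm_hom, asIso_hom, Category.assoc]
          rw [← Category.assoc, Iso.comp_inv_eq, Category.assoc, Category.assoc]
          exact hn.trans (congrArg (_ ≫ ·) hmm)
        have hμ' : φ.hom ≫ (j K').inv = (j K).inv ≫ DerivedCategory.Q.map μ := by
          rw [Iso.comp_inv_eq, Category.assoc, hμ, Iso.inv_hom_id_assoc]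
        change (DCoh.LTensorCx E).map ((DCoh.Lpull f).map φ.hom) ≫ θapp K' = θapp K ≫ (a.map φ).hom
        simp only [θapp, Category.assoc]
        rw [reassoc_of% (r.hom.naturality ((DCoh.Lpull f).map φ.hom))]
        refine congrArg (_ ≫ ·) ?_
        rw [← Functor.map_comp_assoc, ← Functor.map_comp, hμ', Functor.map_comp, Functor.map_comp,
          Category.assoc, reassoc_of% (hG _ _ (hF₀ K) (hF₀ K') μ),
          reassoc_of% (htnat _ _ (hF₀ K) (hF₀ K') (hF₀q K) (hF₀q K') μ)]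
        refine congrArg (_ ≫ ·) (congrArg (_ ≫ ·) (congrArg (_ ≫ ·) ?_))
        change (a.map _ ≫ a.map _).hom = (a.map _ ≫ a.map φ).hom
        rw [← a.map_comp, ← a.map_comp]
        exact congrArg (fun z => (a.map z).hom) (ObjectProperty.hom_ext _ hμ) }
  refine ⟨θ, ?_⟩
  have htu : t (unitCx Y) hu huq = η.hom := by
    apply (hκ _ _ (hTq _ hu huq)).1
    change (DCoh.Rpush f).map _ ≫ κ _ = (DCoh.Rpush f).map _ ≫ κ _
    rw [ht']
    haveI := isIso_beta_of_qcoh f ψ hA hIq (unitCx Y) hu huq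
    simp only [s]
    rw [IsIso.inv_comp_eq]
    have h1 : DerivedCategory.Q.map (m c (unitCx Y)) =
        DerivedCategory.Q.map (ρ A).hom ≫ DerivedCategory.Q.map c ≫ DerivedCategory.Q.map (ρ J).inv := by
      rw [← DerivedCategory.Q.map_comp, ← DerivedCategory.Q.map_comp]
      refine congrArg DerivedCategory.Q.map ?_
      rw [← Category.assoc, Iso.eq_comp_inv]
      exact hρ c
    rw [h1, hc]
    simp only [Category.assoc, ← DerivedCategory.Q.map_comp_assoc, Iso.hom_inv_id, Category.id_comp,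
      CategoryTheory.Functor.map_id, IsIso.hom_inv_id_assoc]
    rw [Category.comp_id, DerivedCategory.Q.map_comp]
    simp only [Category.assoc, IsIso.hom_inv_id_assoc]
    rw [← DerivedCategory.Q.map_comp, Iso.inv_hom_id_app]
    erw [CategoryTheory.Functor.map_id, Category.comp_id]
  haveI hau : ∀ {K K' : DCoh.DQCoh Y} (φ : K ⟶ K'), IsIso φ.hom → IsIso (a.map φ).hom := fun {K K'} φ hφ => by
    haveI : IsIso ((DCoh.IsQCohD (X := Y)).ι.map φ) := hφ
    haveI : IsIso φ := isIso_of_reflects_iso φ (DCoh.IsQCohD (X := Y)).ι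
    exact inferInstanceAs (IsIso ((DCoh.IsQCohD (X := X)).ι.map (a.map φ)))
  have hto : ∀ (K : DCoh.DQCoh Y) (U : Cx Y) (hU : DCoh.IsKFlat U)
      (hUq : DCoh.IsQCohD (DerivedCategory.Q.obj U)) (_ : K.obj ≅ DerivedCategory.Q.obj U),
      IsIso (t U hU hUq) → IsIso (θ.app K) := by
    intro K U hU hUq eK htU
    haveI := hJm K
    obtain ⟨q₁, hq₁, -⟩ := exists_quasiIso (J := Jm K) (P := U) (eK.symm ≪≫ (eJm K).some)
    haveI := hq₁
    let P₁ := (KFlatLib.resP Y).obj U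
    have hP₁ : DCoh.IsKFlat P₁ := (KFlatLib.good_resP _).1
    let b₁ : P₁ ⟶ U := (KFlatLib.resψ Y).app U
    let b₂ : P₁ ⟶ F₀ K := (KFlatLib.resP Y).map q₁
    haveI hb₁ : QuasiIso b₁ := KFlatLib.quasiIso_resψ _
    haveI : QuasiIso ((KFlatLib.resψ Y).app (Jm K)) := KFlatLib.quasiIso_resψ _
    haveI hb₂ : QuasiIso b₂ := by
      haveI : QuasiIso (b₂ ≫ (KFlatLib.resψ Y).app (Jm K)) := by
        change QuasiIso ((KFlatLib.resP Y).map q₁ ≫ (KFlatLib.resψ Y).app (Jm K))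
        rw [(KFlatLib.resψ Y).naturality q₁]
        change QuasiIso (b₁ ≫ q₁)
        exact quasiIso_comp _ _
      exact quasiIso_of_comp_right b₂ ((KFlatLib.resψ Y).app (Jm K))
    have hP₁q : DCoh.IsQCohD (DerivedCategory.Q.obj P₁) :=
      KFlatLib.isQCohD_iso (asIso (DerivedCategory.Q.map b₁)).symm hUq
    have ht₁ : IsIso (t P₁ hP₁ hP₁q) := by
      have h := htnat _ _ hP₁ hU hP₁q hUq b₁
      haveI := isIso_twist_pull f I hP₁ hU b₁
      haveI := htU
      haveI := hau (ObjectProperty.homMk (DerivedCategory.Q.map b₁) :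
        (⟨DerivedCategory.Q.obj P₁, hP₁q⟩ : DCoh.DQCoh Y) ⟶ ⟨DerivedCategory.Q.obj U, hUq⟩)
          (inferInstanceAs (IsIso (DerivedCategory.Q.map b₁)))
      haveI : IsIso (DerivedCategory.Q.map ((Gen.tL (Tb X) I).map ((pullC f).map b₁)) ≫ t U hU hUq) :=
        inferInstance
      rw [h] at this
      exact IsIso.of_isIso_comp_right (t P₁ hP₁ hP₁q) (a.map (ObjectProperty.homMk (DerivedCategory.Q.map b₁) :
        (⟨DerivedCategory.Q.obj P₁, hP₁q⟩ : DCoh.DQCoh Y) ⟶ ⟨DerivedCategory.Q.obj U, hUq⟩)).hom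
    have ht₀ : IsIso (t (F₀ K) (hF₀ K) (hF₀q K)) := by
      have h := htnat _ _ hP₁ (hF₀ K) hP₁q (hF₀q K) b₂
      haveI := isIso_twist_pull f I hP₁ (hF₀ K) b₂
      haveI := hau (ObjectProperty.homMk (DerivedCategory.Q.map b₂) :
        (⟨DerivedCategory.Q.obj P₁, hP₁q⟩ : DCoh.DQCoh Y) ⟶ ⟨DerivedCategory.Q.obj (F₀ K), hF₀q K⟩)
          (inferInstanceAs (IsIso (DerivedCategory.Q.map b₂)))
      haveI := ht₁
      haveI : IsIso (t P₁ hP₁ hP₁q ≫ (a.map (ObjectProperty.homMk (DerivedCategory.Q.map b₂) :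
        (⟨DerivedCategory.Q.obj P₁, hP₁q⟩ : DCoh.DQCoh Y) ⟶ ⟨DerivedCategory.Q.obj (F₀ K), hF₀q K⟩)).hom) :=
        inferInstance
      rw [← h] at this
      exact IsIso.of_isIso_comp_left (DerivedCategory.Q.map ((Gen.tL (Tb X) I).map ((pullC f).map b₂)))
        (t (F₀ K) (hF₀ K) (hF₀q K))
    haveI := ht₀
    haveI := hau (ObjectProperty.homMk (j K).hom :
        (⟨DerivedCategory.Q.obj (F₀ K), hF₀q K⟩ : DCoh.DQCoh Y) ⟶ K) (inferInstanceAs (IsIso (j K).hom))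
    change IsIso (θapp K)
    infer_instance
  have hstripS : ∀ (U : Cx Y) (hU : DCoh.IsKFlat U) (hUq : DCoh.IsQCohD (DerivedCategory.Q.obj U))
      [IsIso (beta f ψ U)] (T : DCoh.D X),
      (Function.Bijective fun g : T ⟶ DerivedCategory.Q.obj ((Gen.tL (Tb X) I).obj ((pullC f).obj U)) =>
        (DCoh.Rpush f).map g ≫ s U hU hUq) ↔
      Function.Bijective fun g : T ⟶ DerivedCategory.Q.obj ((Gen.tL (Tb X) I).obj ((pullC f).obj U)) =>
        (DCoh.Rpush f).map g ≫ inv (beta f ψ U) ≫ DerivedCategory.Q.map (m c U) := by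
    intro U hU hUq _ T
    haveI := hmu U hU
    let R := asIso (inv (DerivedCategory.Q.map (m u₁ U)) ≫ DerivedCategory.Q.map (lu.hom.app U))
    rw [← Function.Bijective.of_comp_iff' (Iso.homToEquiv R).bijective fun
      g : T ⟶ DerivedCategory.Q.obj ((Gen.tL (Tb X) I).obj ((pullC f).obj U)) =>
        (DCoh.Rpush f).map g ≫ inv (beta f ψ U) ≫ DerivedCategory.Q.map (m c U)]
    refine iff_of_eq (congrArg _ (funext fun g => ?_))
    simp [s, R, Iso.homToEquiv]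
  have hbij : ∀ (U : Cx Y) (hU : DCoh.IsKFlat U) (hUq : DCoh.IsQCohD (DerivedCategory.Q.obj U)),
      (∀ T : DCoh.D X, DCoh.IsQCohD T → Function.Bijective
        fun g : T ⟶ DerivedCategory.Q.obj ((Gen.tL (Tb X) I).obj ((pullC f).obj U)) =>
          (DCoh.Rpush f).map g ≫ s U hU hUq) → IsIso (t U hU hUq) := by
    intro U hU hUq h
    have h2 : ∀ T : DCoh.D X, DCoh.IsQCohD T → Function.Bijective fun g :
        T ⟶ DerivedCategory.Q.obj ((Gen.tL (Tb X) I).obj ((pullC f).obj U)) => g ≫ t U hU hUq := fun T hT => by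
      refine (Function.Bijective.of_comp_iff' (hκ ⟨DerivedCategory.Q.obj U, hUq⟩ T hT) _).1 ?_
      convert h T hT using 1
      funext g
      simp only [Function.comp_apply, Functor.map_comp, Category.assoc, ht']
    exact isIso_of_bijective_comp _ (h2 _ (hTq U hU hUq)) (h2 _ (a.obj _).property)
  haveI : IsIso (DerivedCategory.Q.map ψ ≫ pushQ f I) := by
    haveI := isIso_pushQ f I
    infer_instance
  have hs0 : ∀ T : DCoh.D X, DCoh.IsQCohD T → Function.Bijective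
      fun g : T ⟶ DerivedCategory.Q.obj ((Gen.tL (Tb X) I).obj ((pullC f).obj (unitCx Y))) =>
        (DCoh.Rpush f).map g ≫ s (unitCx Y) hu huq := fun T hT => by
    convert (hκ Ku T hT).comp (Iso.homToEquiv η).bijective using 1
    funext g
    rw [← ht' _ hu huq, htu]
    simp [Iso.homToEquiv, Ku]
  haveI := isIso_beta_of_qcoh f ψ hA hIq (unitCx Y) hu huq
  have hW := (bijective_twist_shiftUnit f hIq c hu huq 0 ((shiftFunctorZero (Cx Y) ℤ).app (unitCx Y)).symm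
    (eu ≪≫ ((shiftFunctorZero (Cx X) ℤ).app (unitCx X)).symm)).1 fun T hT =>
    (hstripS (unitCx Y) hu huq T).1 (hs0 T hT)
  intro n
  let U := (unitCx Y)⟦n⟧
  have hU : DCoh.IsKFlat U := isKFlat_shiftN hu n
  have hUq : DCoh.IsQCohD (DerivedCategory.Q.obj U) :=
    KFlatLib.isQCohD_iso ((DerivedCategory.Q.commShiftIso n).app (unitCx Y)).symm
      ((DCoh.IsQCohD (X := Y)).le_shift n _ huq)
  haveI := isIso_beta_of_qcoh f ψ hA hIq U hU hUq
  refine hto _ U hU hUq (((DCoh.IsQCohD (X := Y)).ι.commShiftIso n).app O ≪≫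
    (shiftFunctor _ n).mapIso e₁ ≪≫ ((DerivedCategory.Q.commShiftIso n).app (unitCx Y)).symm) ?_
  exact hbij U hU hUq fun T hT =>
    (hstripS U hU hUq T).2 ((bijective_twist_shiftUnit f hIq c hU hUq n (Iso.refl U)
      (((pullC f).commShiftIso n).app (unitCx Y) ≪≫ (shiftFunctor (Cx X) n).mapIso eu)).2 hW T hT)

end Groth.Agent.Dual3Lib
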