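import Groth.Agent.Dual3Lib.SerrePairing
import Groth.Agent.KoszOrthLib.Neg
import Groth.Agent.PerfLib.Coherent
import Groth.Prelude.Def_KLin

/-!
# Serre duality for perfect complexes
-/

set_option autoImplicit false
set_option linter.style.haveILetI false
set_option backward.isDefEq.respectTransparency false
set_option backward.isDefEq.respectTransparency.types false
set_option maxHeartbeats 1000000

universe u

open CategoryTheory CategoryTheory.Limits AlgebraicGeometry HomologicalComplex
open Groth.Agent.DerLib Groth.Agent.PerfDualLib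

attribute [local instance] HasDerivedCategory.standard
attribute [local instance 2000] DCoh.additive_tensorBi_obj

noncomputable section

namespace Groth.Agent.Dual3Lib.Serre

variable {X : Scheme.{u}} {k : Type u} [Field k] [X.Over (Spec (CommRingCat.of k))]

/-- The perfect complexes. -/
abbrev Perf (K : Cx X) : Prop := DCoh.IsPerfect (DerivedCategory.Q.obj K)

/-- Data for the duality pairing. -/
structure Data (k : Type u) [Field k] (X : Scheme.{u}) [X.Over (Spec (CommRingCat.of k))] where
  /-- The dualizing complex. -/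
  W₀ : Cx X
  /-- An injective model of the structure sheaf. -/
  U : Cx X
  /-- An injective model of the dualizing complex. -/
  J : Cx X
  hW : DCoh.IsKFlat W₀
  hU : U.IsKInjective
  hJ : J.IsKInjective
  /-- The unit. -/
  q : unitCx X ⟶ U
  hq : QuasiIso q
  /-- The comparison. -/
  j : T2 W₀ U ⟶ J
  hj : QuasiIso ((Gen.gAdj (Tb X) U).homEquiv W₀ J j)
  /-- The trace. -/
  t : (DerivedCategory.Q.obj (unitCx X) ⟶ DerivedCategory.Q.obj J) →ₗ[k] k
  ht : ∀ M : DCoh.D X, DCoh.IsQCohD M → ∀ ψ : (DerivedCategory.Q.obj (unitCx X) ⟶ M) →ₗ[k] k,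
    ∃! φ : M ⟶ DerivedCategory.Q.obj J, ∀ x : DerivedCategory.Q.obj (unitCx X) ⟶ M, t (x ≫ φ) = ψ x

variable (D : Data k X)

attribute [instance] Data.hU Data.hJ Data.hq Data.hj

theorem isPerfect_dd' {K : Cx X} (hK : Perf K) : Perf (dd' D.U K) := by
  let e : DerivedCategory.Q.obj (unitCx X) ≅ DerivedCategory.Q.obj D.U := asIso (DerivedCategory.Q.map D.q)
  refine PerfLib.isPerfect_of_iso (asIso (qq (ψr (dd D.U K)))).symm (isPerfect_of_local fun x => ?_)
  obtain ⟨V, hx, h⟩ := prop_gRes_of_isPerfect (isPerfect_Pr hK) D.U (fun V => DCoh.IsPerfect) triClosed_isPerfect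
    (fun V => (triClosed_isPerfect V).iso ((DCoh.restrictD V.ι).mapIso e) (isPerfect_restrict_unit V)) x
  exact ⟨V, hx, h⟩

theorem isPerfect_T2_right {L B : Cx X} (hB : DCoh.IsKFlat B) (hBp : Perf B) (hL : Perf L) :
    Perf (T2 L B) := by
  haveI := KFlatLib.hasLTensorCx B
  exact PerfLib.isPerfect_of_iso ((flatCnt' B hB).app L) (KFlatLib.isPerfect_lTensor B hB hBp _ hL)

/-- `theta` as a linear map. -/
def thetaL (K L : Cx X) : (DerivedCategory.Q.obj (unitCx X) ⟶ DerivedCategory.Q.obj (T2 L (dd' D.U K)))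
    →ₗ[k] (DerivedCategory.Q.obj K ⟶ DerivedCategory.Q.obj L) where
  toFun s := theta D.q K s
  map_add' s s' := by simp only [theta, tD_add, Preadditive.add_comp, Preadditive.comp_add]
  map_smul' r s := by simp only [theta, tD_smul, Linear.smul_comp, Linear.comp_smul, RingHom.id_apply]

/-- `beta` as a linear map. -/
def betaL (K L : Cx X) : (DerivedCategory.Q.obj L ⟶ DerivedCategory.Q.obj (T2 D.W₀ (Pr K))) →ₗ[k]
    (DerivedCategory.Q.obj (T2 L (dd' D.U K)) ⟶ DerivedCategory.Q.obj D.J) where
  toFun g := beta D.j K g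
  map_add' g g' := by simp only [beta, lam, tD_add, Preadditive.add_comp]
  map_smul' r g := by simp only [beta, lam, tD_smul, Linear.smul_comp, RingHom.id_apply]

/-- The pairing. -/
def pair (K L : Cx X) : (DerivedCategory.Q.obj (unitCx X) ⟶ DerivedCategory.Q.obj (T2 L (dd' D.U K))) →ₗ[k]
    Module.Dual k (DerivedCategory.Q.obj L ⟶ DerivedCategory.Q.obj (T2 D.W₀ (Pr K))) :=
  LinearMap.mk₂ k (fun s h => D.t (s ≫ betaL D K L h))
    (fun s s' h => by rw [Preadditive.add_comp, map_add])
    (fun c s h => by rw [Linear.smul_comp, map_smul])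
    (fun s h h' => by rw [map_add, Preadditive.comp_add, map_add])
    (fun c s h => by rw [map_smul, Linear.comp_smul, map_smul])

theorem bijective_thetaL {K : Cx X} (hK : Perf K) (L : Cx X) : Function.Bijective (thetaL D K L) :=
  bijective_theta D.q hK L

/-- `theta` as a linear equivalence. -/
def thetaE {K : Cx X} (hK : Perf K) (L : Cx X) :=
  LinearEquiv.ofBijective (thetaL D K L) (bijective_thetaL D hK L)

variable [IsProper (X ↘ Spec (CommRingCat.of k))]

theorem finite_hom {K L : DCoh.D X} (hK : DCoh.IsPerfect K) (hL : DCoh.IsPerfect L) :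
    Module.Finite k (K ⟶ L) := by
  let f := X ↘ Spec (CommRingCat.of k)
  haveI : IsLocallyNoetherian X := LocallyOfFiniteType.isLocallyNoetherian f
  haveI : CompactSpace X := QuasiCompact.compactSpace_of_compactSpace f
  haveI : IsNoetherian X := {}
  obtain ⟨cK, -, b, -, hb⟩ := PerfLib.isCohD_and_bounded_of_isPerfect hK
  obtain ⟨cL, a, -, ha, -⟩ := PerfLib.isCohD_and_bounded_of_isPerfect hL
  haveI := hb
  haveI := ha
  exact KiehlLib.finite_hom_of_proper K L cK b cL a

theorem bijective_pair {K L : Cx X} (hK : Perf K) (hL : Perf L) : Function.Bijective (pair D K L) := by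
  let V := DerivedCategory.Q.obj (unitCx X) ⟶ DerivedCategory.Q.obj (T2 L (dd' D.U K))
  haveI : Module.Finite k (DerivedCategory.Q.obj K ⟶ DerivedCategory.Q.obj L) := finite_hom hK hL
  haveI : Module.Finite k V := Module.Finite.equiv (thetaE D hK L).symm
  have hM : DCoh.IsQCohD (DerivedCategory.Q.obj (T2 L (dd' D.U K))) :=
    KoszOrthLib.isQCohD_of_isPerfect (isPerfect_T2_right (kFlat_Pr _) (isPerfect_dd' D hK) hL)
  have hflip : Function.Bijective (pair D K L).flip := by
    refine ⟨fun h h' hh => (bijective_beta D.j D.hW hK L).1 ?_, fun ψ => ?_⟩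
    · exact (D.ht _ hM ((pair D K L).flip h)).unique (fun x => rfl)
        (fun x => congr($hh x).symm)
    · obtain ⟨φ, hφ, -⟩ := D.ht _ hM ψ
      obtain ⟨h, hh⟩ := (bijective_beta D.j D.hW hK L).2 φ
      exact ⟨h, LinearMap.ext fun x => (congrArg (fun z => D.t (x ≫ z)) hh).trans (hφ x)⟩
  let e := LinearEquiv.ofBijective _ hflip
  have h : (pair D K L : V → _) = ((Module.evalEquiv k V).trans e.dualMap : V → _) := funext fun s =>
    LinearMap.ext fun h => rfl
  rw [h]
  exact ((Module.evalEquiv k V).trans e.dualMap).bijective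

/-- The duality isomorphism. -/
def duality {K L : Cx X} (hK : Perf K) (hL : Perf L) :
    (DerivedCategory.Q.obj K ⟶ DerivedCategory.Q.obj L) ≃ₗ[k]
      Module.Dual k (DerivedCategory.Q.obj L ⟶ DerivedCategory.Q.obj (T2 D.W₀ (Pr K))) :=
  (thetaE D hK L).symm.trans (LinearEquiv.ofBijective _ (bijective_pair D hK hL))

theorem duality_theta {K L : Cx X} (hK : Perf K) (hL : Perf L)
    (s : DerivedCategory.Q.obj (unitCx X) ⟶ DerivedCategory.Q.obj (T2 L (dd' D.U K)))
    (h : DerivedCategory.Q.obj L ⟶ DerivedCategory.Q.obj (T2 D.W₀ (Pr K))) :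
    duality D hK hL (theta D.q K s) h = D.t (s ≫ beta D.j K h) := by
  rw [show theta D.q K s = thetaE D hK L s from rfl, duality, LinearEquiv.trans_apply, LinearEquiv.symm_apply_apply]
  rfl

theorem duality_comp {K L L' : Cx X} (hK : Perf K) (hL : Perf L) (hL' : Perf L')
    (f : DerivedCategory.Q.obj K ⟶ DerivedCategory.Q.obj L) (g : DerivedCategory.Q.obj L ⟶ DerivedCategory.Q.obj L')
    (h : DerivedCategory.Q.obj L' ⟶ DerivedCategory.Q.obj (T2 D.W₀ (Pr K))) :
    duality D hK hL' (f ≫ g) h = duality D hK hL f (g ≫ h) := by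
  obtain ⟨s, rfl⟩ := (bijective_theta D.q hK L).2 f
  rw [← theta_comp, duality_theta, duality_theta, beta_comp, Category.assoc]

theorem duality_precomp {K K' L : Cx X} (hK : Perf K) (hK' : Perf K') (hL : Perf L) (e : K' ⟶ K)
    (f : DerivedCategory.Q.obj K ⟶ DerivedCategory.Q.obj L)
    (h : DerivedCategory.Q.obj L ⟶ DerivedCategory.Q.obj (T2 D.W₀ (Pr K'))) :
    duality D hK' hL (qq e ≫ f) h = duality D hK hL f (h ≫ qq (mm (𝟙 D.W₀) (Pm e))) := by
  obtain ⟨s, rfl⟩ := (bijective_theta D.q hK L).2 f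
  rw [← theta_dinatural, duality_theta, duality_theta, beta_dinatural, Category.assoc]

end Groth.Agent.Dual3Lib.Serre
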