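import Groth.Agent.Dual3Lib.SerreTen

/-!
# Evaluation pairings of perfect complexes
-/

set_option autoImplicit false
set_option linter.style.haveILetI false
set_option backward.isDefEq.respectTransparency false
set_option backward.isDefEq.respectTransparency.types false
set_option maxHeartbeats 1000000

universe u

open CategoryTheory CategoryTheory.Limits AlgebraicGeometry HomologicalComplex
open Groth.Agent.DerLib Groth.Agent.PerfDualLib

attribute [local instance] HasDerivedCategory.standard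
attribute [local instance 2000] DCoh.additive_tensorBi_obj

noncomputable section

namespace Groth.Agent.Dual3Lib.Serre

variable {X : Scheme.{u}}

/-- The K-flat resolution. -/
abbrev Pr (K : Cx X) : Cx X := (KFlatLib.resP X).obj K

/-- The K-flat resolution on maps. -/
abbrev Pm {K K' : Cx X} (e : K ⟶ K') : Pr K ⟶ Pr K' := (KFlatLib.resP X).map e

/-- The resolution map. -/
abbrev ψr (K : Cx X) : Pr K ⟶ K := (KFlatLib.resψ X).app K

theorem kFlat_Pr (K : Cx X) : DCoh.IsKFlat (Pr K) := (KFlatLib.good_resP K).1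

instance quasiIso_ψr (K : Cx X) : QuasiIso (ψr K) := KFlatLib.quasiIso_resψ K

theorem ψr_natural {K K' : Cx X} (e : K ⟶ K') : Pm e ≫ ψr K' = ψr K ≫ e :=
  (KFlatLib.resψ X).naturality e

theorem isPerfect_Pr {K : Cx X} (hK : DCoh.IsPerfect (DerivedCategory.Q.obj K)) :
    DCoh.IsPerfect (DerivedCategory.Q.obj (Pr K)) :=
  PerfLib.isPerfect_of_iso (asIso (qq (ψr K))).symm hK

variable (U : Cx X)

/-- The dual complex. -/
abbrev dd (K : Cx X) : Cx X := iG (Pr K) U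

/-- The resolved dual. -/
abbrev dd' (K : Cx X) : Cx X := Pr (dd U K)

/-- The resolved transpose. -/
abbrev dm {K K' : Cx X} (e : K' ⟶ K) : dd' U K ⟶ dd' U K' := Pm (gm (Pm e) U)

/-- `O ⊗ A ≅ A`. -/
def unitL (A : Cx X) : T2 (unitCx X) A ≅ A := bX (unitCx X) A ≪≫ unitNat.app A

theorem unitL_natural {A B : Cx X} (f : A ⟶ B) :
    mm (𝟙 (unitCx X)) f ≫ (unitL B).hom = (unitL A).hom ≫ f := by
  simp only [unitL, Iso.trans_hom, Category.assoc]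
  rw [reassoc_of% (bX_natural (𝟙 (unitCx X)) f)]
  exact congrArg (_ ≫ ·) (unitNat.hom.naturality f)

/-- `K ≅ O ⊗ P` in the derived category. -/
def kap (K : Cx X) : DerivedCategory.Q.obj K ⟶ DerivedCategory.Q.obj (T2 (unitCx X) (Pr K)) :=
  inv (qq (ψr K)) ≫ qq (unitL (Pr K)).inv

instance isIso_kap (K : Cx X) : IsIso (kap K) := by
  unfold kap
  infer_instance

theorem kap_natural {K K' : Cx X} (e : K ⟶ K') :
    qq e ≫ kap K' = kap K ≫ qq (mm (𝟙 (unitCx X)) (Pm e)) := by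
  have h : Pm e ≫ (unitL (Pr K')).inv = (unitL (Pr K)).inv ≫ mm (𝟙 (unitCx X)) (Pm e) := by
    rw [Iso.comp_inv_eq, Category.assoc, unitL_natural, Iso.inv_hom_id_assoc]
  simp only [kap, Category.assoc, ← qq_comp, ← h]
  rw [qq_comp, ← Category.assoc, ← Category.assoc]
  refine congrArg (· ≫ _) ?_
  rw [IsIso.comp_inv_eq, Category.assoc, IsIso.eq_inv_comp, ← qq_comp, ← qq_comp, ψr_natural]

variable {U} (q : unitCx X ⟶ U)

/-- The middle of the evaluation. -/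
def mid [QuasiIso q] (K N : Cx X) :
    DerivedCategory.Q.obj (T2 (T2 (Pr N) (dd' U K)) (Pr K)) ⟶ DerivedCategory.Q.obj N :=
  haveI := quasiIso_mm_right (kFlat_Pr N) q
  qq ((Gen.assoc (aX X) (Pr N) (dd' U K) (Pr K)).hom ≫
      mm (𝟙 (Pr N)) (mm (ψr (dd U K)) (𝟙 (Pr K)) ≫ Gen.ev (Tb X) (Pr K) U)) ≫
    inv (qq (mm (𝟙 (Pr N)) q)) ≫ qq (unitNat.hom.app (Pr N)) ≫ qq (ψr N)

theorem quasiIso_res₂ (K N : Cx X) : QuasiIso (mm (mm (ψr N) (𝟙 (dd' U K))) (𝟙 (Pr K))) := by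
  haveI := quasiIso_mm_left (kFlat_Pr (dd U K)) (ψr N)
  exact quasiIso_mm_left (kFlat_Pr K) _

/-- The evaluation `(N ⊗ D) ⊗ K ⟶ N`. -/
def evK [QuasiIso q] (K N : Cx X) :
    DerivedCategory.Q.obj (T2 (T2 N (dd' U K)) (Pr K)) ⟶ DerivedCategory.Q.obj N :=
  haveI := quasiIso_res₂ (U := U) K N
  inv (qq (mm (mm (ψr N) (𝟙 (dd' U K))) (𝟙 (Pr K)))) ≫ mid q K N

theorem res_evK [QuasiIso q] (K N : Cx X) :
    qq (mm (mm (ψr N) (𝟙 (dd' U K))) (𝟙 (Pr K))) ≫ evK q K N = mid q K N := by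
  haveI := quasiIso_res₂ (U := U) K N
  simp only [evK, IsIso.hom_inv_id_assoc]

theorem mid_natural [QuasiIso q] (K : Cx X) {N N' : Cx X} (σ : N ⟶ N') :
    qq (mm (mm (Pm σ) (𝟙 (dd' U K))) (𝟙 (Pr K))) ≫ mid q K N' = mid q K N ≫ qq σ := by
  haveI := quasiIso_mm_right (kFlat_Pr N) q
  haveI := quasiIso_mm_right (kFlat_Pr N') q
  have h1 := Gen.assoc_natural (Tb X) (aX X) (Pm σ) (𝟙 (dd' U K)) (𝟙 (Pr K))
  rw [show mapBifunctorMap (𝟙 (dd' U K)) (𝟙 (Pr K)) (Tb X) (ComplexShape.up ℤ) =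
    𝟙 (T2 (dd' U K) (Pr K)) from Gen.m2_id _ _] at h1
  have h2 : inv (qq (mm (𝟙 (Pr N)) q)) ≫ qq (unitNat.hom.app (Pr N)) ≫ qq (ψr N) ≫ qq σ =
      qq (mm (Pm σ) (𝟙 U)) ≫ inv (qq (mm (𝟙 (Pr N')) q)) ≫ qq (unitNat.hom.app (Pr N')) ≫ qq (ψr N') := by
    rw [← cancel_epi (qq (mm (𝟙 (Pr N)) q)), IsIso.hom_inv_id_assoc, ← Category.assoc (qq (mm (𝟙 _) q)),
      ← qq_comp (mm (𝟙 (Pr N)) q) (mm (Pm σ) (𝟙 U)), ← mm_interchange, qq_comp (mm (Pm σ) (𝟙 (unitCx X))), Category.assoc, IsIso.hom_inv_id_assoc, ← qq_comp (ψr N),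
      ← qq_comp, ← qq_comp, ← qq_comp, ← ψr_natural]
    exact congrArg qq (unitNat.hom.naturality_assoc (Pm σ) (ψr N')).symm
  simp only [mid, Category.assoc]
  rw [h2, ← Category.assoc, ← Category.assoc (qq _) (qq (mm (Pm σ) (𝟙 U)))]
  simp only [← qq_comp]
  refine congrArg (· ≫ _) (congrArg qq ?_)
  rw [Category.assoc, ← mm_interchange]
  exact (Category.assoc _ _ _).symm.trans ((congrArg (· ≫ _) h1).trans (Category.assoc _ _ _))

theorem evK_natural_chain [QuasiIso q] (K : Cx X) {N N' : Cx X} (σ : N ⟶ N') :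
    qq (mm (mm σ (𝟙 (dd' U K))) (𝟙 (Pr K))) ≫ evK q K N' = evK q K N ≫ qq σ := by
  haveI := quasiIso_res₂ (U := U) K N
  rw [← cancel_epi (qq (mm (mm (ψr N) (𝟙 (dd' U K))) (𝟙 (Pr K)))), ← Category.assoc, ← qq_comp,
    mm_comp_left, mm_comp_left, ← ψr_natural, ← mm_comp_left, ← mm_comp_left, qq_comp, Category.assoc,
    res_evK, ← Category.assoc _ (evK q K N), res_evK, mid_natural]

theorem evK_natural [QuasiIso q] (K : Cx X) {N N' : Cx X}
    (g : DerivedCategory.Q.obj N ⟶ DerivedCategory.Q.obj N') :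
    tD (Pr K) (kFlat_Pr K) (tD (dd' U K) (kFlat_Pr _) g) ≫ evK q K N' = evK q K N ≫ g :=
  natural_of_chain (F := fun A => DerivedCategory.Q.obj (T2 (T2 A (dd' U K)) (Pr K)))
    (G := fun A => DerivedCategory.Q.obj A)
    (fun g => tD (Pr K) (kFlat_Pr K) (tD (dd' U K) (kFlat_Pr _) g)) (fun g => g)
    (fun g g' => by rw [tD_comp, tD_comp]) (fun A => by rw [tD_id, tD_id]) (fun g g' => rfl)
    (evK q K) (fun σ => by rw [tD_qq, tD_qq]; exact evK_natural_chain q K σ) g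

/-- `Hom(O, N ⊗ K^∨) ⟶ Hom(K, N)`. -/
def theta [QuasiIso q] (K : Cx X) {N : Cx X}
    (t : DerivedCategory.Q.obj (unitCx X) ⟶ DerivedCategory.Q.obj (T2 N (dd' U K))) :
    DerivedCategory.Q.obj K ⟶ DerivedCategory.Q.obj N :=
  kap K ≫ tD (Pr K) (kFlat_Pr K) t ≫ evK q K N

theorem theta_comp [QuasiIso q] (K : Cx X) {N N' : Cx X}
    (t : DerivedCategory.Q.obj (unitCx X) ⟶ DerivedCategory.Q.obj (T2 N (dd' U K)))
    (g : DerivedCategory.Q.obj N ⟶ DerivedCategory.Q.obj N') :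
    theta q K (t ≫ tD (dd' U K) (kFlat_Pr _) g) = theta q K t ≫ g := by
  simp only [theta, tD_comp, Category.assoc, evK_natural]

omit q in
theorem inner_dinatural {K K' : Cx X} (e : K' ⟶ K) :
    mm (𝟙 (dd' U K)) (Pm e) ≫ mm (ψr (dd U K)) (𝟙 (Pr K)) ≫ Gen.ev (Tb X) (Pr K) U =
      mm (dm U e) (𝟙 (Pr K')) ≫ mm (ψr (dd U K')) (𝟙 (Pr K')) ≫ Gen.ev (Tb X) (Pr K') U := by
  have h1 : mm (gm (Pm e) U) (𝟙 (Pr K')) ≫ Gen.ev (Tb X) (Pr K') U =
      mm (𝟙 (dd U K)) (Pm e) ≫ Gen.ev (Tb X) (Pr K) U := Gen.ev_natural (T := Tb X) (Pm e) U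
  rw [← Category.assoc (mm (dm U e) _), mm_comp_left, ψr_natural, ← mm_comp_left, Category.assoc, h1,
    ← Category.assoc, ← mm_interchange, Category.assoc]

theorem mid_dinatural [QuasiIso q] {K K' : Cx X} (e : K' ⟶ K) (N : Cx X) :
    qq (mm (𝟙 (T2 (Pr N) (dd' U K))) (Pm e)) ≫ mid q K N =
      qq (mm (mm (𝟙 (Pr N)) (dm U e)) (𝟙 (Pr K'))) ≫ mid q K' N := by
  simp only [mid, ← Category.assoc, ← qq_comp]
  refine congrArg (· ≫ _) (congrArg (· ≫ _) (congrArg qq ?_))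
  have hA : mm (𝟙 (T2 (Pr N) (dd' U K))) (Pm e) ≫ (Gen.assoc (aX X) (Pr N) (dd' U K) (Pr K)).hom =
      (Gen.assoc (aX X) (Pr N) (dd' U K) (Pr K')).hom ≫ mm (𝟙 (Pr N)) (mm (𝟙 (dd' U K)) (Pm e)) := by
    have h := Gen.assoc_natural (Tb X) (aX X) (𝟙 (Pr N)) (𝟙 (dd' U K)) (Pm e)
    rw [show mapBifunctorMap (𝟙 (Pr N)) (𝟙 (dd' U K)) (Tb X) (ComplexShape.up ℤ) =
      𝟙 (T2 (Pr N) (dd' U K)) from Gen.m2_id _ _] at h
    exact h
  have hB : mm (mm (𝟙 (Pr N)) (dm U e)) (𝟙 (Pr K')) ≫ (Gen.assoc (aX X) (Pr N) (dd' U K') (Pr K')).hom =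
      (Gen.assoc (aX X) (Pr N) (dd' U K) (Pr K')).hom ≫ mm (𝟙 (Pr N)) (mm (dm U e) (𝟙 (Pr K'))) :=
    Gen.assoc_natural (Tb X) (aX X) (𝟙 (Pr N)) (dm U e) (𝟙 (Pr K'))
  refine (congrArg (· ≫ _) hA).trans (Eq.trans ?_ (congrArg (· ≫ _) hB).symm)
  refine (Category.assoc _ _ _).trans (Eq.trans ?_ (Category.assoc _ _ _).symm)
  refine congrArg (_ ≫ ·) ?_
  rw [mm_comp_right, mm_comp_right]
  exact congrArg (mm (𝟙 (Pr N))) (inner_dinatural e)

theorem evK_dinatural [QuasiIso q] {K K' : Cx X} (e : K' ⟶ K) (N : Cx X) :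
    qq (mm (𝟙 (T2 N (dd' U K))) (Pm e)) ≫ evK q K N =
      qq (mm (mm (𝟙 N) (dm U e)) (𝟙 (Pr K'))) ≫ evK q K' N := by
  haveI : QuasiIso (mm (mm (ψr N) (𝟙 (dd' U K))) (𝟙 (Pr K'))) := by
    haveI := quasiIso_mm_left (kFlat_Pr (dd U K)) (ψr N)
    exact quasiIso_mm_left (kFlat_Pr K') _
  rw [← cancel_epi (qq (mm (mm (ψr N) (𝟙 (dd' U K))) (𝟙 (Pr K')))), ← Category.assoc, ← qq_comp,
    mm_interchange, qq_comp, Category.assoc, res_evK, ← Category.assoc _ (qq _) (evK q K' N), ← qq_comp,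
    mm_comp_left, mm_interchange, ← mm_comp_left, qq_comp, Category.assoc, res_evK, mid_dinatural]

theorem theta_dinatural [QuasiIso q] {K K' : Cx X} (e : K' ⟶ K) {N : Cx X}
    (t : DerivedCategory.Q.obj (unitCx X) ⟶ DerivedCategory.Q.obj (T2 N (dd' U K))) :
    theta q K' (t ≫ qq (mm (𝟙 N) (dm U e))) = qq e ≫ theta q K t := by
  simp only [theta, tD_comp, tD_qq, Category.assoc, ← evK_dinatural]
  rw [reassoc_of% (kap_natural e)]
  refine congrArg (kap K' ≫ ·) ?_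
  rw [← Category.assoc, ← Category.assoc]
  exact congrArg (· ≫ _) (tD_interchange (Pr K') (kFlat_Pr K') (kFlat_Pr K) (Pm e) t)

theorem bijective_theta [U.IsKInjective] [QuasiIso q] {K : Cx X}
    (hK : DCoh.IsPerfect (DerivedCategory.Q.obj K)) (N : Cx X) :
    Function.Bijective (fun t : DerivedCategory.Q.obj (unitCx X) ⟶
      DerivedCategory.Q.obj (T2 N (dd' U K)) => theta q K t) := by
  obtain ⟨I, hI, ⟨eI⟩⟩ := KInjUse.exists_iso_Q_kInjective (DerivedCategory.Q.obj N)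
  haveI := hI
  haveI := quasiIso_mm_right (kFlat_Pr N) q
  obtain ⟨f₀, hf₀⟩ := KInjUse.Q_map_surjective (T2 (Pr N) U) I
    (inv (qq (mm (𝟙 (Pr N)) q)) ≫ qq (unitNat.hom.app (Pr N)) ≫ qq (ψr N) ≫ eI.hom)
  haveI : QuasiIso f₀ := (DerivedCategory.isIso_Q_map_iff_quasiIso _ f₀).1 (by
    rw [hf₀]
    haveI : IsIso (qq (unitNat.hom.app (Pr N))) :=
      inferInstanceAs (IsIso (DerivedCategory.Q.map (unitNat.app (Pr N)).hom))
    infer_instance)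
  haveI := quasiIso_eval₁ (kFlat_Pr N) f₀ (isPerfect_Pr hK)
  haveI : QuasiIso (mm (𝟙 (Pr N)) (ψr (dd U K))) := quasiIso_mm_right (kFlat_Pr N) _
  let φ : T2 (Pr N) (dd' U K) ⟶ iG (Pr K) I :=
    mm (𝟙 (Pr N)) (ψr (dd U K)) ≫ Gen.eval₁ (aX X) f₀ (Pr K)
  haveI : QuasiIso φ := quasiIso_comp _ _
  have hφ : Gen.adjunct φ = ((Gen.assoc (aX X) (Pr N) (dd' U K) (Pr K)).hom ≫
      mm (𝟙 (Pr N)) (mm (ψr (dd U K)) (𝟙 (Pr K)) ≫ Gen.ev (Tb X) (Pr K) U)) ≫ f₀ := by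
    have h := Gen.assoc_natural (Tb X) (aX X) (𝟙 (Pr N)) (ψr (dd U K)) (𝟙 (Pr K))
    simp only [φ, Gen.eval₁, Gen.adjunct_comp]
    simp only [Gen.adjunct, Equiv.symm_apply_apply]
    refine ((Category.assoc _ _ _).symm.trans (congrArg (· ≫ _) h)).trans ((Category.assoc _ _ _).trans ?_)
    rw [Category.assoc]
    refine congrArg (_ ≫ ·) ?_
    rw [← Category.assoc]
    exact congrArg (· ≫ f₀) (Gen.tL_map_comp _ _)
  have hmid : mid q K N ≫ eI.hom = qq (Gen.adjunct φ) := by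
    rw [hφ, qq_comp, mid]
    simp only [Category.assoc]
    exact congrArg (_ ≫ ·) hf₀.symm
  haveI : QuasiIso (mm (ψr N) (𝟙 (dd' U K))) := quasiIso_mm_left (kFlat_Pr _) _
  have key : ∀ t, theta q K t ≫ eI.hom =
      kap K ≫ lam (Pr K) (kFlat_Pr K) φ (t ≫ inv (qq (mm (ψr N) (𝟙 (dd' U K))))) := fun t => by
    simp only [theta, lam, Category.assoc]
    refine congrArg (kap K ≫ ·) ?_
    rw [← hmid, ← res_evK]
    conv_lhs => rw [show t = (t ≫ inv (qq (mm (ψr N) (𝟙 (dd' U K))))) ≫ qq (mm (ψr N) (𝟙 (dd' U K))) by simp,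
      tD_comp, tD_qq]
    simp only [Category.assoc]
  refine (Function.Bijective.of_comp_iff'
    (f := fun g : DerivedCategory.Q.obj K ⟶ DerivedCategory.Q.obj N => g ≫ eI.hom)
    ⟨fun a b hab => (cancel_mono eI.hom).1 hab, fun v => ⟨v ≫ eI.inv, by simp⟩⟩ _).1 ?_
  rw [show ((fun g : DerivedCategory.Q.obj K ⟶ DerivedCategory.Q.obj N => g ≫ eI.hom) ∘
    fun t => theta q K t) = _ from funext key]
  have hk : Function.Bijective fun x : DerivedCategory.Q.obj (T2 (unitCx X) (Pr K)) ⟶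
      DerivedCategory.Q.obj I => kap K ≫ x :=
    ⟨fun a b hab => (cancel_epi (kap K)).1 hab, fun v => ⟨inv (kap K) ≫ v, by simp⟩⟩
  exact hk.comp ((bijective_lam (Pr K) (kFlat_Pr K) φ (unitCx X)).comp
      ⟨fun a b hab => (cancel_mono _).1 hab, fun v => ⟨v ≫ qq (mm (ψr N) (𝟙 (dd' U K))), by simp⟩⟩)

variable {W₀ J : Cx X} (j : T2 W₀ U ⟶ J)

/-- `W ⊗ K ⟶ Hom(K^∨, J)`. -/
def bMap (K : Cx X) : T2 W₀ (Pr K) ⟶ iG (dd' U K) J :=
  Gen.eval₂ (aX X) bX j (Pr K) ≫ gm (ψr (dd U K)) J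

theorem bMap_natural {K K' : Cx X} (e : K' ⟶ K) :
    mm (𝟙 W₀) (Pm e) ≫ bMap j K = bMap j K' ≫ gm (dm U e) J := by
  simp only [bMap, Category.assoc]
  erw [reassoc_of% (Gen.eval₂_natural (aX X) bX (fun f g => bX_natural f g) j (Pm e))]
  refine congrArg (_ ≫ ·) ?_
  erw [Gen.Gmap_comp_app, Gen.Gmap_comp_app, ψr_natural]

theorem quasiIso_bMap [U.IsKInjective] [J.IsKInjective] (hW : DCoh.IsKFlat W₀)
    [QuasiIso ((Gen.gAdj (Tb X) U).homEquiv W₀ J j)]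
    {K : Cx X} (hK : DCoh.IsPerfect (DerivedCategory.Q.obj K)) : QuasiIso (bMap j K) := by
  have h : Gen.adjunct ((Gen.gAdj (Tb X) U).homEquiv W₀ J j) = j := Equiv.symm_apply_apply _ j
  have h2 := quasiIso_eval₂ hW ((Gen.gAdj (Tb X) U).homEquiv W₀ J j) (isPerfect_Pr hK)
  rw [h] at h2
  haveI := h2
  haveI := quasiIso_gm (ψr (dd U K)) J
  exact quasiIso_comp _ _

/-- `Hom(N, W ⊗ K) ⟶ Hom(N ⊗ K^∨, J)`. -/
def beta (K : Cx X) {N : Cx X} (g : DerivedCategory.Q.obj N ⟶ DerivedCategory.Q.obj (T2 W₀ (Pr K))) :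
    DerivedCategory.Q.obj (T2 N (dd' U K)) ⟶ DerivedCategory.Q.obj J :=
  lam (dd' U K) (kFlat_Pr _) (bMap j K) g

theorem beta_comp (K : Cx X) {N N' : Cx X} (g₀ : DerivedCategory.Q.obj N' ⟶ DerivedCategory.Q.obj N)
    (g : DerivedCategory.Q.obj N ⟶ DerivedCategory.Q.obj (T2 W₀ (Pr K))) :
    beta j K (g₀ ≫ g) = tD (dd' U K) (kFlat_Pr _) g₀ ≫ beta j K g := by
  simp only [beta, lam, tD_comp, Category.assoc]

theorem beta_dinatural {K K' : Cx X} (e : K' ⟶ K) {N : Cx X}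
    (g : DerivedCategory.Q.obj N ⟶ DerivedCategory.Q.obj (T2 W₀ (Pr K'))) :
    beta j K (g ≫ qq (mm (𝟙 W₀) (Pm e))) = qq (mm (𝟙 N) (dm U e)) ≫ beta j K' g := by
  simp only [beta, lam, tD_comp, tD_qq, Category.assoc, ← qq_comp]
  rw [← reassoc_of% (tD_interchange (dd' U K) (kFlat_Pr _) (kFlat_Pr _) (dm U e) g), ← qq_comp]
  refine congrArg (fun t => tD (dd' U K) (kFlat_Pr _) g ≫ qq t) ?_
  exact (Gen.adjunct_comp _ _).symm.trans ((congrArg Gen.adjunct (bMap_natural j e)).trans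
    (Gen.adjunct_comp_Gmap _ _))

theorem bijective_beta [U.IsKInjective] [J.IsKInjective] (hW : DCoh.IsKFlat W₀)
    [QuasiIso ((Gen.gAdj (Tb X) U).homEquiv W₀ J j)]
    {K : Cx X} (hK : DCoh.IsPerfect (DerivedCategory.Q.obj K)) (N : Cx X) :
    Function.Bijective (fun g : DerivedCategory.Q.obj N ⟶ DerivedCategory.Q.obj (T2 W₀ (Pr K)) =>
      beta j K g) :=
  haveI := quasiIso_bMap j hW hK
  bijective_lam (dd' U K) (kFlat_Pr _) (bMap j K) N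

end Groth.Agent.Dual3Lib.Serre
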