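import Groth.Agent.Dual3Lib.DualNat
import Groth.Agent.KiehlLib.ExtFin

/-!
# Tensoring morphisms of the derived category with a K-flat complex
-/

set_option autoImplicit false
set_option linter.style.haveILetI false
set_option backward.isDefEq.respectTransparency false
set_option backward.isDefEq.respectTransparency.types false
set_option maxHeartbeats 1000000

universe u

open CategoryTheory CategoryTheory.Limits AlgebraicGeometry HomologicalComplex
open Groth.Agent.DerLib Groth.Agent.PerfDualLib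

attribute [local instance] HasDerivedCategory.standard
attribute [local instance 2000] DCoh.additive_tensorBi_obj

noncomputable section

namespace Groth.Agent.Dual3Lib.Serre

variable {X : Scheme.{u}}

/-- The tensor product of complexes. -/
abbrev T2 (A B : Cx X) : Cx X := Gen.t2 (Tb X) A B

/-- The tensor product of maps of complexes. -/
abbrev mm {A A' B B' : Cx X} (f : A ⟶ A') (g : B ⟶ B') : T2 A B ⟶ T2 A' B' := Gen.m2 (T := Tb X) f g

/-- Localization of maps. -/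
abbrev qq {A B : Cx X} (f : A ⟶ B) : DerivedCategory.Q.obj A ⟶ DerivedCategory.Q.obj B :=
  DerivedCategory.Q.map f

theorem qq_comp {A B C : Cx X} (f : A ⟶ B) (g : B ⟶ C) : qq (f ≫ g) = qq f ≫ qq g :=
  Functor.map_comp _ f g

theorem mm_comp_right {A B B' B'' : Cx X} (g : B ⟶ B') (g' : B' ⟶ B'') :
    mm (𝟙 A) g ≫ mm (𝟙 A) g' = mm (𝟙 A) (g ≫ g') :=
  Gen.tL_map_comp g g'

theorem mm_comp_left {A A' A'' B : Cx X} (f : A ⟶ A') (f' : A' ⟶ A'') :
    mm f (𝟙 B) ≫ mm f' (𝟙 B) = mm (f ≫ f') (𝟙 B) :=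
  ((Gen.tR (Tb X) B).map_comp f f').symm

theorem mm_interchange {A A' B B' : Cx X} (f : A ⟶ A') (g : B ⟶ B') :
    mm f (𝟙 B) ≫ mm (𝟙 A') g = mm (𝟙 A) g ≫ mm f (𝟙 B') :=
  ((DCoh.tensorCx (X := X)).map f).naturality g |>.symm

theorem quasiIso_mm_left {D : Cx X} (hD : DCoh.IsKFlat D) {A B : Cx X} (f : A ⟶ B) [QuasiIso f] :
    QuasiIso (mm f (𝟙 D)) :=
  KFlatLib.quasiIso_bimap₁ (DCoh.tensorBi (X := X)) D hD f

theorem quasiIso_mm_right {N : Cx X} (hN : DCoh.IsKFlat N) {A B : Cx X} (f : A ⟶ B) [QuasiIso f] :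
    QuasiIso (mm (𝟙 N) f) :=
  quasiIso_tL_of_kFlat hN f

variable (D : Cx X) (hD : DCoh.IsKFlat D)

/-- `- ⊗ D` on morphisms of the derived category, for a K-flat `D`. -/
def tD {A B : Cx X} (g : DerivedCategory.Q.obj A ⟶ DerivedCategory.Q.obj B) :
    DerivedCategory.Q.obj (T2 A D) ⟶ DerivedCategory.Q.obj (T2 B D) :=
  haveI := KFlatLib.hasLTensorCx D
  (flatCnt' D hD).inv.app A ≫ (DCoh.LTensorCx D).map g ≫ (flatCnt' D hD).hom.app B

theorem tD_qq {A B : Cx X} (f : A ⟶ B) : tD D hD (qq f) = qq (mm f (𝟙 D)) := by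
  haveI := KFlatLib.hasLTensorCx D
  show (flatCnt' D hD).inv.app A ≫ (DerivedCategory.Q ⋙ DCoh.LTensorCx D).map f ≫ _ = _
  rw [(flatCnt' D hD).hom.naturality f, Iso.inv_hom_id_app_assoc]
  rfl

theorem tD_comp {A B C : Cx X} (g : DerivedCategory.Q.obj A ⟶ DerivedCategory.Q.obj B)
    (g' : DerivedCategory.Q.obj B ⟶ DerivedCategory.Q.obj C) :
    tD D hD (g ≫ g') = tD D hD g ≫ tD D hD g' := by
  haveI := KFlatLib.hasLTensorCx D
  simp only [tD, Functor.map_comp, Category.assoc]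
  erw [Iso.hom_inv_id_app_assoc]

theorem tD_id (A : Cx X) : tD D hD (𝟙 (DerivedCategory.Q.obj A)) = 𝟙 _ := by
  rw [← DerivedCategory.Q.map_id A, show DerivedCategory.Q.map (𝟙 A) = qq (𝟙 A) from rfl, tD_qq]
  show DerivedCategory.Q.map _ = _
  rw [show mm (𝟙 A) (𝟙 D) = 𝟙 (T2 A D) from Gen.m2_id A D, CategoryTheory.Functor.map_id]

/-- A family of maps natural for maps of complexes is natural in the derived category. -/
theorem natural_of_chain {F G : Cx X → DCoh.D X}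
    (Fm : ∀ {A B : Cx X}, (DerivedCategory.Q.obj A ⟶ DerivedCategory.Q.obj B) → (F A ⟶ F B))
    (Gm : ∀ {A B : Cx X}, (DerivedCategory.Q.obj A ⟶ DerivedCategory.Q.obj B) → (G A ⟶ G B))
    (hF : ∀ {A B C : Cx X} (g : DerivedCategory.Q.obj A ⟶ DerivedCategory.Q.obj B)
      (g' : DerivedCategory.Q.obj B ⟶ DerivedCategory.Q.obj C), Fm (g ≫ g') = Fm g ≫ Fm g')
    (hFid : ∀ A, Fm (𝟙 (DerivedCategory.Q.obj A)) = 𝟙 _)
    (hG : ∀ {A B C : Cx X} (g : DerivedCategory.Q.obj A ⟶ DerivedCategory.Q.obj B)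
      (g' : DerivedCategory.Q.obj B ⟶ DerivedCategory.Q.obj C), Gm (g ≫ g') = Gm g ≫ Gm g')
    (α : ∀ A, F A ⟶ G A) (h : ∀ {A B : Cx X} (σ : A ⟶ B), Fm (qq σ) ≫ α B = α A ≫ Gm (qq σ))
    {A B : Cx X} (g : DerivedCategory.Q.obj A ⟶ DerivedCategory.Q.obj B) :
    Fm g ≫ α B = α A ≫ Gm g := by
  obtain ⟨Z, s, hs, φ, hg⟩ := DerivedCategory.right_fac g
  have h1 : qq s ≫ g = qq φ := by rw [hg]; exact IsIso.hom_inv_id_assoc _ _
  haveI : IsSplitEpi (Fm (qq s)) :=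
    IsSplitEpi.mk' ⟨Fm (inv (qq s)), by rw [← hF, IsIso.inv_hom_id, hFid]⟩
  rw [← cancel_epi (Fm (qq s))]
  calc Fm (qq s) ≫ Fm g ≫ α B = Fm (qq φ) ≫ α B := by rw [← Category.assoc, ← hF, h1]
    _ = α Z ≫ Gm (qq φ) := h φ
    _ = α Z ≫ Gm (qq s) ≫ Gm g := by rw [← hG, h1]
    _ = Fm (qq s) ≫ α A ≫ Gm g := by rw [← Category.assoc, ← h s, Category.assoc]

theorem tD_interchange {D' : Cx X} (hD' : DCoh.IsKFlat D') (δ : D ⟶ D') {A B : Cx X}
    (g : DerivedCategory.Q.obj A ⟶ DerivedCategory.Q.obj B) :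
    tD D hD g ≫ qq (mm (𝟙 B) δ) = qq (mm (𝟙 A) δ) ≫ tD D' hD' g :=
  natural_of_chain (fun g => tD D hD g) (fun g => tD D' hD' g) (fun g g' => tD_comp D hD g g')
    (fun A => tD_id D hD A) (fun g g' => tD_comp D' hD' g g') (fun A => qq (mm (𝟙 A) δ))
    (fun σ => by rw [tD_qq, tD_qq, ← qq_comp, ← qq_comp, mm_interchange]) g

/-- The adjunct in the derived category. -/
def lam {M J : Cx X} (φ : M ⟶ iG D J) {N : Cx X} (g : DerivedCategory.Q.obj N ⟶ DerivedCategory.Q.obj M) :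
    DerivedCategory.Q.obj (T2 N D) ⟶ DerivedCategory.Q.obj J :=
  tD D hD g ≫ qq (Gen.adjunct φ)

theorem bijective_lam_id (J : Cx X) [J.IsKInjective] (N : Cx X) :
    Function.Bijective fun g : DerivedCategory.Q.obj N ⟶ DerivedCategory.Q.obj (iG D J) =>
      lam D hD (𝟙 (iG D J)) g := by
  haveI := isKInjective_iG hD J
  have key : ∀ φ : N ⟶ iG D J, lam D hD (𝟙 (iG D J)) (qq φ) = qq (Gen.adjunct φ) := fun φ => by
    rw [lam, tD_qq, ← qq_comp]
    refine congrArg qq ?_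
    refine Eq.trans ?_ (congrArg Gen.adjunct (Category.comp_id φ))
    exact (Gen.adjunct_comp φ (𝟙 (iG D J))).symm
  refine ⟨fun g g' h => ?_, fun u => ?_⟩
  · obtain ⟨φ, rfl⟩ := KInjUse.Q_map_surjective N (iG D J) g
    obtain ⟨φ', rfl⟩ := KInjUse.Q_map_surjective N (iG D J) g'
    have h' : DerivedCategory.Q.map (Gen.adjunct φ) = DerivedCategory.Q.map (Gen.adjunct φ') :=
      ((key φ).symm.trans h).trans (key φ')
    have hadd : Gen.adjunct (φ - φ') = Gen.adjunct φ - Gen.adjunct φ' := by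
      haveI : (Gen.tR (Tb X) D).Additive := KFlatLib.additive_bimap₁ (Tb X) D
      simp only [Gen.adjunct, Adjunction.homEquiv_counit, Functor.map_sub, Preadditive.sub_comp]
    have h0 : DerivedCategory.Q.map (Gen.adjunct (φ - φ')) = 0 := by
      rw [hadd, Functor.map_sub, sub_eq_zero]
      exact h'
    obtain ⟨H⟩ := Gen.nonempty_null_of_adjunct (φ - φ')
      (HomotopyCategory.homotopyOfEq _ 0 ((KInjUse.quotient_eq_zero_of_Q h0).trans
        ((HomotopyCategory.quotient _ _).map_zero _ _).symm))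
    rw [← sub_eq_zero, ← Functor.map_sub]
    exact KInjUse.Q_map_zero_of_quotient ((HomotopyCategory.eq_of_homotopy _ 0 H).trans
      ((HomotopyCategory.quotient _ _).map_zero _ _))
  · obtain ⟨ψ, rfl⟩ := KInjUse.Q_map_surjective (T2 N D) J u
    exact ⟨qq ((Gen.gAdj (Tb X) D).homEquiv N J ψ), (key _).trans
      (congrArg qq (Equiv.symm_apply_apply _ ψ))⟩

theorem bijective_lam {M J : Cx X} [J.IsKInjective] (φ : M ⟶ iG D J) [QuasiIso φ] (N : Cx X) :
    Function.Bijective fun g : DerivedCategory.Q.obj N ⟶ DerivedCategory.Q.obj M => lam D hD φ g := by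
  have h : (fun g : DerivedCategory.Q.obj N ⟶ DerivedCategory.Q.obj M => lam D hD φ g) =
      (fun g => lam D hD (𝟙 (iG D J)) g) ∘ (fun g => g ≫ qq φ) := funext fun g => by
    show tD D hD g ≫ qq (Gen.adjunct φ) = tD D hD (g ≫ qq φ) ≫ qq (Gen.adjunct (𝟙 _))
    rw [tD_comp, Category.assoc, tD_qq, ← qq_comp]
    refine congrArg (fun t => tD D hD g ≫ qq t) ?_
    refine (congrArg Gen.adjunct (Category.comp_id φ).symm).trans ?_
    exact Gen.adjunct_comp φ (𝟙 (iG D J))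
  rw [h]
  refine (bijective_lam_id D hD J N).comp ?_
  exact ⟨fun a b hab => (cancel_mono (qq φ)).1 hab, fun v => ⟨v ≫ inv (qq φ), by simp⟩⟩

theorem tD_smul {A : Type u} [CommRing A] [X.Over (Spec (CommRingCat.of A))] (r : A) {N M : Cx X}
    (g : DerivedCategory.Q.obj N ⟶ DerivedCategory.Q.obj M) : tD D hD (r • g) = r • tD D hD g := by
  have h1 : r • g = qq (r • 𝟙 N) ≫ g := by
    rw [qq, Functor.map_smul, CategoryTheory.Functor.map_id, Linear.smul_comp, Category.id_comp]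
  rw [h1, tD_comp, tD_qq]
  show DerivedCategory.Q.map ((Gen.tR (Tb X) D).map (r • 𝟙 N)) ≫ _ = _
  rw [KiehlLib.tR_map_smul_id, Functor.map_smul, CategoryTheory.Functor.map_id, Linear.smul_comp,
    Category.id_comp]

theorem mm_add_left {A B : Cx X} (f f' : A ⟶ B) :
    mm (f + f') (𝟙 D) = mm f (𝟙 D) + mm f' (𝟙 D) := by
  haveI : (Gen.tR (Tb X) D).Additive := KFlatLib.additive_bimap₁ (Tb X) D
  exact (Gen.tR (Tb X) D).map_add

theorem qq_add {A B : Cx X} (f f' : A ⟶ B) : qq (f + f') = qq f + qq f' :=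
  Functor.map_add _

theorem tD_add {N M : Cx X} (g g' : DerivedCategory.Q.obj N ⟶ DerivedCategory.Q.obj M) :
    tD D hD (g + g') = tD D hD g + tD D hD g' := by
  let i₁ : M ⟶ M ⊞ M := biprod.inl
  let i₂ : M ⟶ M ⊞ M := biprod.inr
  let p₁ : M ⊞ M ⟶ M := biprod.fst
  let p₂ : M ⊞ M ⟶ M := biprod.snd
  have e11 : qq i₁ ≫ qq p₁ = 𝟙 _ := by
    rw [← qq_comp, biprod.inl_fst]; exact DerivedCategory.Q.map_id M
  have e22 : qq i₂ ≫ qq p₂ = 𝟙 _ := by
    rw [← qq_comp, biprod.inr_snd]; exact DerivedCategory.Q.map_id M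
  have e12 : qq i₁ ≫ qq p₂ = 0 := by
    rw [← qq_comp, biprod.inl_snd]; exact Functor.map_zero _ _ _
  have e21 : qq i₂ ≫ qq p₁ = 0 := by
    rw [← qq_comp, biprod.inr_fst]; exact Functor.map_zero _ _ _
  let h := g ≫ qq i₁ + g' ≫ qq i₂
  have h1 : h ≫ qq p₁ = g := by
    simp only [h, Preadditive.add_comp, Category.assoc, e11, e21, Category.comp_id, comp_zero,
      add_zero]
  have h2 : h ≫ qq p₂ = g' := by
    simp only [h, Preadditive.add_comp, Category.assoc, e12, e22, Category.comp_id, comp_zero,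
      zero_add]
  have hid : qq (mm p₁ (𝟙 D)) ≫ qq (mm i₁ (𝟙 D)) + qq (mm p₂ (𝟙 D)) ≫ qq (mm i₂ (𝟙 D)) =
      𝟙 (DerivedCategory.Q.obj (T2 (M ⊞ M) D)) := by
    rw [← qq_comp, ← qq_comp, mm_comp_left, mm_comp_left, ← qq_add, ← mm_add_left, biprod.total]
    rw [show mm (𝟙 (M ⊞ M)) (𝟙 D) = 𝟙 (T2 (M ⊞ M) D) from Gen.m2_id (M ⊞ M) D]
    exact DerivedCategory.Q.map_id _
  have key : tD D hD h =
      tD D hD g ≫ qq (mm i₁ (𝟙 D)) + tD D hD g' ≫ qq (mm i₂ (𝟙 D)) := by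
    conv_lhs => rw [← Category.comp_id (tD D hD h), ← hid]
    rw [Preadditive.comp_add, ← Category.assoc, ← Category.assoc, ← tD_qq D hD p₁, ← tD_qq D hD p₂,
      ← tD_comp, ← tD_comp, h1, h2]
  have hs : g + g' = h ≫ qq (p₁ + p₂) := by rw [qq_add, Preadditive.comp_add, h1, h2]
  rw [hs, tD_comp, tD_qq, mm_add_left, qq_add, key]
  simp only [Preadditive.add_comp, Preadditive.comp_add, Category.assoc, ← qq_comp, mm_comp_left,
    biprod.inl_fst, biprod.inl_snd, biprod.inr_fst, biprod.inr_snd, i₁, i₂, p₁, p₂]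
  haveI : (Gen.tR (Tb X) D).Additive := KFlatLib.additive_bimap₁ (Tb X) D
  have e0 : qq (mm (0 : M ⟶ M) (𝟙 D)) = 0 := by
    show DerivedCategory.Q.map ((Gen.tR (Tb X) D).map (0 : M ⟶ M)) = 0
    rw [Functor.map_zero, Functor.map_zero]
  have e1 : qq (mm (𝟙 M) (𝟙 D)) = 𝟙 _ := by rw [← tD_qq D hD]; exact (congrArg _ (DerivedCategory.Q.map_id M)).trans (tD_id D hD M)
  simp only [e0, e1, comp_zero, add_zero, zero_add, Category.comp_id]

end Groth.Agent.Dual3Lib.Serre
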