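import Mathlib.LinearAlgebra.Dual.Lemmas
import Mathlib.CategoryTheory.Linear.Basic
import Mathlib.CategoryTheory.Linear.LinearFunctor
import Mathlib.CategoryTheory.Triangulated.Yoneda
import Mathlib.CategoryTheory.Triangulated.TriangleShift

/-!
# Serre functors are triangulated
-/

set_option autoImplicit false
set_option linter.style.haveILetI false
set_option backward.isDefEq.respectTransparency false
set_option backward.isDefEq.respectTransparency.types false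

universe w v u

open CategoryTheory CategoryTheory.Limits CategoryTheory.Pretriangulated

noncomputable section

namespace Groth.Agent.Dual3Lib.SerreTri

variable {k : Type w} [Field k] {T : Type u} [Category.{v} T] [Preadditive T] [Linear k T]

/-- A natural perfect pairing `Hom(X, Y) × Hom(Y, S X) → k`. -/
structure Pairing (k : Type w) [Field k] (T : Type u) [Category.{v} T] [Preadditive T] [Linear k T] where
  /-- the functor -/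
  S : T ⥤ T
  /-- the pairing -/
  c : ∀ X Y : T, (X ⟶ Y) ≃ₗ[k] Module.Dual k (Y ⟶ S.obj X)
  hc₁ : ∀ (X Y Y' : T) (f : X ⟶ Y) (g : Y ⟶ Y') (s : Y' ⟶ S.obj X), c X Y' (f ≫ g) s = c X Y f (g ≫ s)
  hc₂ : ∀ (X' X Y : T) (a : X' ⟶ X) (f : X ⟶ Y) (s : Y ⟶ S.obj X'),
    c X' Y (a ≫ f) s = c X Y f (s ≫ S.map a)

variable (P : Pairing k T) [∀ X Y : T, Module.Finite k (X ⟶ Y)]

/-- The other adjoint of the pairing. -/
def Pairing.dual (X Y : T) : (Y ⟶ P.S.obj X) ≃ₗ[k] Module.Dual k (X ⟶ Y) :=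
  (Module.evalEquiv k (Y ⟶ P.S.obj X)).trans (P.c X Y).dualMap

theorem Pairing.dual_apply (X Y : T) (s : Y ⟶ P.S.obj X) (f : X ⟶ Y) : P.dual X Y s f = P.c X Y f s :=
  rfl

theorem Pairing.ext {X Y : T} {s s' : Y ⟶ P.S.obj X} (h : ∀ f, P.c X Y f s = P.c X Y f s') : s = s' :=
  (P.dual X Y).injective (LinearMap.ext h)

theorem Pairing.exists_rep {X Y : T} (φ : Module.Dual k (X ⟶ Y)) :
    ∃ s : Y ⟶ P.S.obj X, ∀ f, P.c X Y f s = φ f :=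
  ⟨(P.dual X Y).symm φ, fun f => LinearMap.congr_fun ((P.dual X Y).apply_symm_apply φ) f⟩

/-- Exactness is inherited by the dual sequence. -/
theorem Pairing.exists_lift {X Y Z W : T} (a : X ⟶ Y) (b : Y ⟶ Z)
    (hex : ∀ n : Y ⟶ W, a ≫ n = 0 → ∃ m : Z ⟶ W, n = b ≫ m)
    (t : W ⟶ P.S.obj Y) (ht : t ≫ P.S.map b = 0) : ∃ r : W ⟶ P.S.obj X, r ≫ P.S.map a = t := by
  let ψ : Module.Dual k (Y ⟶ W) := P.dual Y W t
  have hψ : ψ ∈ (LinearMap.ker (Linear.leftComp k W a)).dualAnnihilator := by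
    rw [Submodule.mem_dualAnnihilator]
    intro n hn
    obtain ⟨m, rfl⟩ := hex n hn
    show P.c Y W (b ≫ m) t = 0
    rw [P.hc₂, ht, map_zero]
  rw [← LinearMap.range_dualMap_eq_dualAnnihilator_ker] at hψ
  obtain ⟨χ, hχ⟩ := hψ
  obtain ⟨r, hr⟩ := P.exists_rep χ
  refine ⟨r, P.ext fun n => ?_⟩
  rw [← P.hc₂, hr]
  exact LinearMap.congr_fun hχ n

variable [HasShift T ℤ] [∀ n : ℤ, (shiftFunctor T n).Additive]
  [∀ n : ℤ, (shiftFunctor T n).Linear k]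

/-- The shift on Hom spaces. -/
def shEquiv (A B : T) : (A ⟶ B) ≃ₗ[k] (A⟦(1 : ℤ)⟧ ⟶ B⟦(1 : ℤ)⟧) :=
  LinearEquiv.ofBijective ((shiftFunctor T (1 : ℤ)).mapLinearMap k)
    ⟨fun _ _ h => (shiftFunctor T (1 : ℤ)).map_injective h, (shiftFunctor T (1 : ℤ)).map_surjective⟩

theorem shEquiv_symm_map (A B : T) (z : A ⟶ B) :
    (shEquiv (k := k) A B).symm (z⟦(1 : ℤ)⟧') = z :=
  (shEquiv (k := k) A B).symm_apply_apply z

theorem exists_comparison (X : T) : ∃ m : (P.S.obj X)⟦(1 : ℤ)⟧ ⟶ P.S.obj (X⟦(1 : ℤ)⟧),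
    ∀ z : X ⟶ P.S.obj X, P.c _ _ (z⟦(1 : ℤ)⟧') m = - P.c X _ z (𝟙 _) := by
  obtain ⟨m, hm⟩ := P.exists_rep (X := X⟦(1 : ℤ)⟧) (Y := (P.S.obj X)⟦(1 : ℤ)⟧)
    (-((P.dual X (P.S.obj X) (𝟙 _)).comp (shEquiv (k := k) X (P.S.obj X)).symm.toLinearMap))
  refine ⟨m, fun z => (hm _).trans ?_⟩
  simp [shEquiv_symm_map, Pairing.dual_apply]

variable {P} {X : T} {m : (P.S.obj X)⟦(1 : ℤ)⟧ ⟶ P.S.obj (X⟦(1 : ℤ)⟧)}
  (hm : ∀ z : X ⟶ P.S.obj X, P.c _ _ (z⟦(1 : ℤ)⟧') m = - P.c X _ z (𝟙 _))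

include hm

theorem comparison_pairing {Y : T} (n : X ⟶ Y) (r : Y ⟶ P.S.obj X) :
    P.c _ _ (n⟦(1 : ℤ)⟧') (r⟦(1 : ℤ)⟧' ≫ m) = - P.c X _ n r := by
  rw [← P.hc₁, ← Functor.map_comp, hm, P.hc₁, Category.comp_id]

theorem isIso_comparison : IsIso m := by
  have hinj : ∀ {Y : T} (r : Y ⟶ P.S.obj X), r⟦(1 : ℤ)⟧' ≫ m = 0 → r = 0 := fun {Y} r h =>
    P.ext fun n => by
      have := comparison_pairing hm n r
      rw [h, map_zero] at this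
      rw [map_zero, neg_eq_zero.1 this.symm]
  have hsurj : ∀ {Y : T} (s : Y⟦(1 : ℤ)⟧ ⟶ P.S.obj (X⟦(1 : ℤ)⟧)),
      ∃ r : Y ⟶ P.S.obj X, r⟦(1 : ℤ)⟧' ≫ m = s := fun {Y} s => by
    obtain ⟨r, hr⟩ := P.exists_rep (X := X) (Y := Y)
      (-((P.dual _ _ s).comp (shEquiv (k := k) X Y).toLinearMap))
    refine ⟨r, P.ext fun n' => ?_⟩
    obtain ⟨n, rfl⟩ := (shiftFunctor T (1 : ℤ)).map_surjective n'
    rw [comparison_pairing hm, hr]
    simp only [LinearMap.neg_apply, neg_neg, LinearMap.comp_apply, LinearEquiv.coe_coe, Pairing.dual_apply]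
    rfl
  let j : ((P.S.obj (X⟦(1 : ℤ)⟧))⟦(-1 : ℤ)⟧)⟦(1 : ℤ)⟧ ≅ P.S.obj (X⟦(1 : ℤ)⟧) :=
    (shiftFunctorCompIsoId T (-1 : ℤ) 1 (by omega)).app _
  obtain ⟨r, hr⟩ := hsurj j.hom
  refine ⟨j.inv ≫ r⟦(1 : ℤ)⟧', ?_, by rw [Category.assoc, hr, j.inv_hom_id]⟩
  obtain ⟨q, hq⟩ := (shiftFunctor T (1 : ℤ)).map_surjective (m ≫ j.inv ≫ r⟦(1 : ℤ)⟧' - 𝟙 _)
  have hq0 : q = 0 := hinj q (by
    rw [hq, Preadditive.sub_comp, Category.id_comp, Category.assoc, Category.assoc, hr,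
      j.inv_hom_id, Category.comp_id, sub_self])
  rw [hq0, Functor.map_zero] at hq
  exact sub_eq_zero.1 hq.symm

omit hm

theorem comparison_natural {X' X : T} (a : X' ⟶ X)
    {m' : (P.S.obj X')⟦(1 : ℤ)⟧ ⟶ P.S.obj (X'⟦(1 : ℤ)⟧)}
    (hm' : ∀ z : X' ⟶ P.S.obj X', P.c _ _ (z⟦(1 : ℤ)⟧') m' = - P.c X' _ z (𝟙 _))
    {m : (P.S.obj X)⟦(1 : ℤ)⟧ ⟶ P.S.obj (X⟦(1 : ℤ)⟧)}
    (hm : ∀ z : X ⟶ P.S.obj X, P.c _ _ (z⟦(1 : ℤ)⟧') m = - P.c X _ z (𝟙 _)) :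
    m' ≫ P.S.map (a⟦(1 : ℤ)⟧') = (P.S.map a)⟦(1 : ℤ)⟧' ≫ m := by
  refine P.ext fun n' => ?_
  obtain ⟨n, rfl⟩ := (shiftFunctor T (1 : ℤ)).map_surjective n'
  rw [← P.hc₂, ← Functor.map_comp, hm', comparison_pairing hm, P.hc₂, Category.id_comp]

variable (P)

theorem distinguished_map [HasZeroObject T] [Pretriangulated T] [P.S.Additive] {A B C : T}
    (f : A ⟶ B) (g : B ⟶ C) (h : C ⟶ A⟦(1 : ℤ)⟧) (hT : Triangle.mk f g h ∈ distTriang T)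
    {mA : (P.S.obj A)⟦(1 : ℤ)⟧ ⟶ P.S.obj (A⟦(1 : ℤ)⟧)} [IsIso mA]
    (hmA : ∀ z : A ⟶ P.S.obj A, P.c _ _ (z⟦(1 : ℤ)⟧') mA = - P.c A _ z (𝟙 _))
    {mB : (P.S.obj B)⟦(1 : ℤ)⟧ ⟶ P.S.obj (B⟦(1 : ℤ)⟧)} [IsIso mB]
    (hmB : ∀ z : B ⟶ P.S.obj B, P.c _ _ (z⟦(1 : ℤ)⟧') mB = - P.c B _ z (𝟙 _)) :
    Triangle.mk (P.S.map f) (P.S.map g) (P.S.map h ≫ inv mA) ∈ distTriang T := by
  obtain ⟨W, w, δ, hW⟩ := distinguished_cocone_triangle (P.S.map f)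
  have hfw : P.S.map f ≫ w = 0 := comp_distTriang_mor_zero₁₂ _ hW
  have hdf : δ ≫ (P.S.map f)⟦(1 : ℤ)⟧' = 0 := comp_distTriang_mor_zero₃₁ _ hW
  have hgh : g ≫ h = 0 := comp_distTriang_mor_zero₂₃ _ hT
  have hhf : h ≫ f⟦(1 : ℤ)⟧' = 0 := comp_distTriang_mor_zero₃₁ _ hT
  -- the defining functional
  let L : (C ⟶ P.S.obj B) × (A⟦(1 : ℤ)⟧ ⟶ W) →ₗ[k] (C ⟶ W) :=
    (Linear.rightComp k C w).coprod (Linear.leftComp k W h)
  let R : Module.Dual k ((C ⟶ P.S.obj B) × (A⟦(1 : ℤ)⟧ ⟶ W)) :=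
    (P.dual _ _ (P.S.map g)).coprod (P.dual _ _ (δ ≫ mA))
  have hR : R ∈ (LinearMap.ker L).dualAnnihilator := by
    rw [Submodule.mem_dualAnnihilator]
    rintro ⟨u, x⟩ hu
    have hu' : u ≫ w + h ≫ x = 0 := hu
    show P.c _ _ u (P.S.map g) + P.c _ _ x (δ ≫ mA) = 0
    obtain ⟨p, hp⟩ : ∃ p : B ⟶ P.S.obj A, g ≫ u = p ≫ P.S.map f :=
      Triangle.coyoneda_exact₂ _ hW (g ≫ u) (by
        show (g ≫ u) ≫ w = 0
        rw [Category.assoc, eq_neg_of_add_eq_zero_left hu', Preadditive.comp_neg, ← Category.assoc g,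
          hgh, zero_comp, neg_zero])
    obtain ⟨x₀, hx₀, hx₀'⟩ : ∃ x₀ : A⟦(1 : ℤ)⟧ ⟶ W, h ≫ x₀ = u ≫ w ∧
        -(f⟦(1 : ℤ)⟧') ≫ p⟦(1 : ℤ)⟧' = x₀ ≫ δ :=
      (by
        obtain ⟨c, h1, h2⟩ := complete_distinguished_triangle_morphism _ _ (rot_of_distTriang _ hT) hW p u hp
        refine ⟨c, h1, ?_⟩
        simpa [Triangle.rotate] using h2)
    have hx1 : h ≫ (x₀ + x) = 0 := by
      rw [Preadditive.comp_add, hx₀, hu']
    obtain ⟨q, hq⟩ : ∃ q : B⟦(1 : ℤ)⟧ ⟶ W, x₀ + x = -(f⟦(1 : ℤ)⟧') ≫ q :=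
      (by
        obtain ⟨q, hq⟩ := Triangle.yoneda_exact₃ _ (rot_of_distTriang _ hT) (x₀ + x) hx1
        refine ⟨q, ?_⟩
        simpa [Triangle.rotate] using hq)
    obtain ⟨r, hr⟩ := (shiftFunctor T (1 : ℤ)).map_surjective (q ≫ δ)
    have hxd : x ≫ δ = (f ≫ p - f ≫ r)⟦(1 : ℤ)⟧' := by
      rw [eq_sub_of_add_eq' hq, Preadditive.sub_comp, ← hx₀']
      simp only [Preadditive.neg_comp, Category.assoc, ← hr, Functor.map_sub, Functor.map_comp]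
      abel
    have hrf : r ≫ P.S.map f = 0 := (shiftFunctor T (1 : ℤ)).map_injective (by
      rw [Functor.map_comp, hr, Category.assoc, Functor.map_zero, hdf, comp_zero])
    have hr0 : P.c A _ (f ≫ r) (𝟙 _) = 0 := by
      have h' := P.hc₁ _ _ _ r (P.S.map f) (𝟙 (P.S.obj B))
      rw [hrf, map_zero, LinearMap.zero_apply, Category.comp_id] at h'
      rw [P.hc₂, Category.id_comp, ← h']
    rw [← P.hc₁ _ _ _ x δ mA, hxd, hmA, map_sub, LinearMap.sub_apply, hr0, sub_zero]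
    have e3 := P.hc₂ _ _ _ g u (𝟙 (P.S.obj B))
    have e4 := P.hc₁ _ _ _ p (P.S.map f) (𝟙 (P.S.obj B))
    have e5 := P.hc₂ _ _ _ f p (𝟙 (P.S.obj A))
    rw [Category.id_comp] at e3 e5
    rw [Category.comp_id] at e4
    rw [← e3, hp, e4, e5]
    abel
  rw [← LinearMap.range_dualMap_eq_dualAnnihilator_ker] at hR
  obtain ⟨Φ, hΦ⟩ := hR
  obtain ⟨α, hα⟩ := P.exists_rep Φ
  have hα₁ : w ≫ α = P.S.map g := P.ext fun u => by
    have h1 : Φ (u ≫ w + h ≫ 0) = P.c _ _ u (P.S.map g) + P.c _ _ 0 (δ ≫ mA) :=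
      LinearMap.congr_fun hΦ (u, 0)
    rw [comp_zero, add_zero, map_zero, LinearMap.zero_apply, add_zero] at h1
    rw [← P.hc₁, hα, h1]
  have hα₂ : α ≫ P.S.map h = δ ≫ mA := P.ext fun x => by
    have h1 : Φ (0 ≫ w + h ≫ x) = P.c _ _ 0 (P.S.map g) + P.c _ _ x (δ ≫ mA) :=
      LinearMap.congr_fun hΦ (0, x)
    rw [zero_comp, zero_add, map_zero, LinearMap.zero_apply, zero_add] at h1
    rw [← P.hc₂, hα, h1]
  have hinj : ∀ {Z : T} (s : Z ⟶ W), s ≫ α = 0 → s = 0 := fun {Z} s hs => by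
    have hsd : s ≫ δ = 0 := by
      rw [← cancel_mono mA, Category.assoc, ← hα₂, ← Category.assoc, hs, zero_comp, zero_comp]
    obtain ⟨t, ht⟩ : ∃ t : Z ⟶ P.S.obj B, s = t ≫ w := Triangle.coyoneda_exact₃ _ hW s hsd
    obtain ⟨r, hr⟩ := P.exists_lift f g (fun n hn => Triangle.yoneda_exact₂ _ hT n hn) t (by
      rw [← hα₁, ← Category.assoc, ← ht, hs])
    rw [ht, ← hr, Category.assoc, hfw, comp_zero]
  have hsurj : ∀ {Z : T} (s : Z ⟶ P.S.obj C), ∃ s' : Z ⟶ W, s' ≫ α = s := fun {Z} s => by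
    have hn : inv mA ≫ (P.S.map f)⟦(1 : ℤ)⟧' = P.S.map (f⟦(1 : ℤ)⟧') ≫ inv mB := by
      rw [IsIso.inv_comp_eq, ← Category.assoc, comparison_natural f hmA hmB, Category.assoc,
        IsIso.hom_inv_id, Category.comp_id]
    obtain ⟨b, hb⟩ : ∃ b : Z ⟶ W, s ≫ P.S.map h ≫ inv mA = b ≫ δ :=
      Triangle.coyoneda_exact₁ _ hW (s ≫ P.S.map h ≫ inv mA) (by
        show (s ≫ P.S.map h ≫ inv mA) ≫ (P.S.map f)⟦(1 : ℤ)⟧' = 0
        rw [Category.assoc, Category.assoc, hn, ← Category.assoc (P.S.map h), ← Functor.map_comp, hhf,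
          Functor.map_zero, zero_comp, comp_zero])
    have hsb : (s - b ≫ α) ≫ P.S.map h = 0 := by
      have hb' : s ≫ P.S.map h = b ≫ δ ≫ mA := by
        rw [← Category.assoc, ← hb]
        simp
      rw [Preadditive.sub_comp, Category.assoc, hα₂, hb', sub_self]
    obtain ⟨t, ht⟩ := P.exists_lift g h (fun n hn => Triangle.yoneda_exact₃ _ hT n hn) _ hsb
    refine ⟨b + t ≫ w, ?_⟩
    rw [Preadditive.add_comp, Category.assoc, hα₁, ht, add_sub_cancel]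
  obtain ⟨β, hβ⟩ := hsurj (𝟙 _)
  haveI : IsIso α := ⟨β, sub_eq_zero.1 (hinj _ (by
    rw [Preadditive.sub_comp, Category.assoc, hβ, Category.comp_id, Category.id_comp, sub_self])), hβ⟩
  refine isomorphic_distinguished _ hW _ (Triangle.isoMk _ _ (Iso.refl _) (Iso.refl _) (asIso α).symm
    ?_ ?_ ?_)
  · show P.S.map f ≫ 𝟙 _ = 𝟙 _ ≫ P.S.map f
    simp
  · show P.S.map g ≫ inv α = 𝟙 _ ≫ w
    rw [← hα₁, Category.assoc, IsIso.hom_inv_id, Category.comp_id, Category.id_comp]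
  · show (P.S.map h ≫ inv mA) ≫ (𝟙 (P.S.obj A))⟦(1 : ℤ)⟧' = inv α ≫ δ
    rw [CategoryTheory.Functor.map_id, Category.comp_id, IsIso.eq_inv_comp, ← Category.assoc, hα₂,
      Category.assoc, IsIso.hom_inv_id, Category.comp_id]

theorem exists_triangulated [HasZeroObject T] [Pretriangulated T] [P.S.Additive] :
    ∃ e : shiftFunctor T (1 : ℤ) ⋙ P.S ≅ P.S ⋙ shiftFunctor T (1 : ℤ),
      ∀ T' ∈ distTriang T,
        Triangle.mk (P.S.map T'.mor₁) (P.S.map T'.mor₂) (P.S.map T'.mor₃ ≫ e.hom.app T'.obj₁) ∈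
          distTriang T := by
  choose m hm using exists_comparison P
  haveI := fun X => isIso_comparison (hm X)
  let e : shiftFunctor T (1 : ℤ) ⋙ P.S ≅ P.S ⋙ shiftFunctor T (1 : ℤ) :=
    (NatIso.ofComponents (fun X => asIso (m X))
      (fun {X' X} a => (comparison_natural a (hm X') (hm X)).symm)).symm
  exact ⟨e, fun T' hT => distinguished_map P T'.mor₁ T'.mor₂ T'.mor₃ hT (hm _) (hm _)⟩

end Groth.Agent.Dual3Lib.SerreTri
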