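import Groth.Agent.KoszOrthLib.TowerKill
import Groth.Agent.KoszOrthLib.Compact

/-!
# Maps into complexes vanishing on a quasi-compact open
-/

set_option autoImplicit false
set_option linter.style.haveILetI false
set_option backward.isDefEq.respectTransparency false
set_option backward.isDefEq.respectTransparency.types false
set_option maxHeartbeats 1000000

universe u

open CategoryTheory CategoryTheory.Limits AlgebraicGeometry CategoryTheory.Pretriangulated
open scoped ZeroObject
open Groth.Agent.KoszOrthLib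

attribute [local instance] HasDerivedCategory.standard

namespace Groth.Agent.Dual3Lib

variable {X : Scheme.{u}} (V : X.Opens)

/-- The restriction to `V` vanishes. -/
def vanP : ObjectProperty (DCoh.D X) := fun K => IsZero ((DCoh.restrictD V.ι).obj K)

instance : (vanP V).IsClosedUnderIsomorphisms :=
  ⟨fun e h => h.of_iso ((DCoh.restrictD V.ι).mapIso e).symm⟩

instance : (vanP V).IsTriangulated where
  exists_zero := ⟨0, isZero_zero _, (DCoh.restrictD V.ι).map_isZero (isZero_zero _)⟩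
  isStableUnderShiftBy n := ⟨fun K (h : IsZero _) =>
    ((shiftFunctor _ n).map_isZero h).of_iso (((DCoh.restrictD V.ι).commShiftIso n).app K)⟩
  ext₂' T hT h₁ h₃ := ObjectProperty.le_isoClosure _ _
    ((((DCoh.restrictD V.ι).mapTriangle.obj T).isZero₂_iff ((DCoh.restrictD V.ι).map_distinguished _ hT)).2
      ⟨(h₁ : IsZero _).eq_of_src _ _, (h₃ : IsZero _).eq_of_tgt _ _⟩)

theorem support_subset_of_vanP {K : DCoh.D X} (h : vanP V K) (i : ℤ) :
    CohB1.support (DCoh.HD K i) ⊆ (V : Set X)ᶜ :=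
  fun x hx hxV => (DCohRestrLib.isZero_restrictD_iff V K).1 h i x hxV hx

theorem vanP_of_support {K : DCoh.D X} (h : ∀ i : ℤ, CohB1.support (DCoh.HD K i) ⊆ (V : Set X)ᶜ) :
    vanP V K := isZero_restrictD_of_support V h fun _ hx hx' => hx' hx

/-- Perfect complexes vanishing on `V`. -/
def perfVanP : ObjectProperty (DCoh.D X) := perfP X ⊓ vanP V

instance : (perfVanP V).IsClosedUnderIsomorphisms :=
  ⟨fun e h => ⟨(perfP X).prop_of_iso e h.1, (vanP V).prop_of_iso e h.2⟩⟩

instance : (perfVanP V).IsTriangulated :=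
  inferInstanceAs (perfP X ⊓ vanP V).IsTriangulated

variable [CompactSpace X] [QuasiSeparatedSpace X]

/-- A map from a perfect object into an object vanishing on `V` is killed by a map of perfect
objects which is an isomorphism on `V`. -/
theorem exists_kill (hV : IsCompact (V : Set X)) {K E : DCoh.D X} (hK : DCoh.IsPerfect K)
    (hE : DCoh.IsQCohD E) (hEV : IsZero ((DCoh.restrictD V.ι).obj E)) (ξ : K ⟶ E) :
    ∃ (K' : DCoh.D X) (w : K' ⟶ K), DCoh.IsPerfect K' ∧ IsIso ((DCoh.restrictD V.ι).map w) ∧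
      w ≫ ξ = 0 := by
  haveI := hasCoproducts_D X
  haveI : LocallySmall.{u} (DCoh.D X) := Groth.Agent.DerLib.SmallDerived.locallySmall.{u + 1} X.Modules
  have hT : IsClosed ((V : Set X)ᶜ) := V.isOpen.isClosed_compl
  have hTr : IsRetrocompact ((V : Set X)ᶜ)ᶜ := by
    rw [compl_compl]
    exact fun O hOc hOo => hV.inter_of_isOpen hOc V.isOpen hOo
  obtain ⟨G, hG, hGT, hgen⟩ := hasGen_of_qcqs X _ hT hTr
  obtain ⟨K', w, hw, -, hkill⟩ := exists_trW_kill (P := QS ((V : Set X)ᶜ))
    (fun ι M hM => QS.sum hT M hM)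
    (fun L n hL => ⟨KFlatLib.isQCohD_shift hL.1 n, support_shift_subset hL.2 n⟩)
    (fun S hS h₁ h₂ => ⟨KFlatLib.isQCohD₂ (rot_of_distTriang _ hS) h₂.1 (KFlatLib.isQCohD_shift h₁.1 1),
      support_obj₃_subset S hS hT h₁.2 h₂.2⟩)
    (G := G) ⟨isQCohD_of_isPerfect hG, hGT⟩ (fun ι M hM => finFac_of_isQCohD hG M fun i => (hM i).1)
    (fun n L _ => inferInstance) (fun L hL h => hgen L hL.1 hL.2 h) (perfVanP V) ⟨hG, vanP_of_support V hGT⟩
    (C := K) (fun ι M hM => finFac_of_isQCohD hK M fun i => (hM i).1)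
    (L₀ := E) ⟨hE, support_subset_of_vanP V hEV⟩ ξ
  obtain ⟨Z, g, h, hdist, hZ⟩ := hw
  refine ⟨K', w, PerfLib.isPerfect_obj₁ _ hdist hK hZ.1, ?_, hkill⟩
  exact (((DCoh.restrictD V.ι).mapTriangle.obj _).isZero₃_iff_isIso₁
    ((DCoh.restrictD V.ι).map_distinguished _ hdist)).1 hZ.2

end Groth.Agent.Dual3Lib
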