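import Groth.Agent.Dual3Lib.TopTrace
import Groth.Agent.KoszOrthLib.DQCoh

/-!
# The trace on top cohomology, shifted
-/

set_option autoImplicit false
set_option linter.style.haveILetI false
set_option backward.isDefEq.respectTransparency false
set_option backward.isDefEq.respectTransparency.types false
set_option maxHeartbeats 1000000
set_option synthInstance.maxHeartbeats 200000

universe u

open CategoryTheory CategoryTheory.Limits AlgebraicGeometry DerivedCategory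

attribute [local instance] HasDerivedCategory.standard

noncomputable section

namespace Groth.Agent.Dual3Lib

theorem hMap_comp {X : Scheme.{u}} {M N P : X.Modules} (φ : M ⟶ N) (ψ : N ⟶ P) (n : ℕ) (x : Coh.HH X M n) :
    Sheaf.H.map ((SheafOfModules.toSheaf X.ringCatSheaf).map (φ ≫ ψ)) n x =
      Sheaf.H.map ((SheafOfModules.toSheaf X.ringCatSheaf).map ψ) n
        (Sheaf.H.map ((SheafOfModules.toSheaf X.ringCatSheaf).map φ) n x) := by
  erw [Functor.map_comp, Sheaf.H.map_comp_apply]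

theorem hMap_smul {A : Type u} [CommRing A] {X : Scheme.{u}} [X.Over (Spec (CommRingCat.of A))]
    {M N : X.Modules} (φ : M ⟶ N) (n : ℕ) (r : A) (x : Coh.HH X M n) :
    Sheaf.H.map ((SheafOfModules.toSheaf X.ringCatSheaf).map φ) n (r • x) =
      r • Sheaf.H.map ((SheafOfModules.toSheaf X.ringCatSheaf).map φ) n x := by
  let b := Coh.toGlobal (X ↘ Spec (CommRingCat.of A)) r
  show Sheaf.H.map _ n (Sheaf.H.map ((SheafOfModules.toSheaf X.ringCatSheaf).map (sMod M b)) n x) =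
    Sheaf.H.map ((SheafOfModules.toSheaf X.ringCatSheaf).map (sMod N b)) n (Sheaf.H.map _ n x)
  rw [← hMap_comp, ← hMap_comp, sMod_natural]

/-- The `A`-linear map on cohomology induced by a module map. -/
def hMapL {A : Type u} [CommRing A] {X : Scheme.{u}} [X.Over (Spec (CommRingCat.of A))]
    {M N : X.Modules} (φ : M ⟶ N) (n : ℕ) : Coh.HH X M n →ₗ[A] Coh.HH X N n where
  toFun := Sheaf.H.map ((SheafOfModules.toSheaf X.ringCatSheaf).map φ) n
  map_add' := map_add _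
  map_smul' r x := hMap_smul φ n r x

variable {A : Type u} [CommRing A] [PreservesFiniteLimits (tilde.functor (CommRingCat.of A))]
  {X : Scheme.{u}} [X.Over (Spec (CommRingCat.of A))]
  [QuasiCompact (X ↘ Spec (CommRingCat.of A))] [QuasiSeparated (X ↘ Spec (CommRingCat.of A))]
  [DCoh.HasRpush (X ↘ Spec (CommRingCat.of A))]
  (hf : DCoh.RpushPreservesQCoh (X ↘ Spec (CommRingCat.of A)))
  (a : DCoh.DQCoh (Spec (CommRingCat.of A)) ⥤ DCoh.DQCoh X)
  (adj : DCoh.RpushQ (X ↘ Spec (CommRingCat.of A)) hf ⊣ a)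

include adj in
/-- For `W` in degrees `≥ m` and `a W` in degrees `≥ c = m - n`, `H^c(a W)` represents
`F ↦ Hom(H^n(X, F), H^m(W))`. -/
theorem exists_trace (n : ℕ) (m c : ℤ) (hc : c = m - n) (W : DCoh.DQCoh (Spec (CommRingCat.of A)))
    {ω : DerivedCategory (ModuleCat.{u} A)} (eW : W.obj ≅ (DCoh.tildeD (CommRingCat.of A)).obj ω) [ω.IsGE m]
    (hge : (a.obj W).obj.IsGE c) :
    ∃ t : Coh.HH X (DCoh.HD (a.obj W).obj c) n →ₗ[A] (homologyFunctor (ModuleCat.{u} A) m).obj ω,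
      ∀ F : X.Modules, Coh.IsQCoh F → (∀ j : ℕ, n < j → Subsingleton (Coh.HH X F j)) →
        ∀ ψ : Coh.HH X F n →ₗ[A] (homologyFunctor (ModuleCat.{u} A) m).obj ω,
          ∃! φ : F ⟶ DCoh.HD (a.obj W).obj c, ∀ x : Coh.HH X F n,
            ψ x = t (Sheaf.H.map ((SheafOfModules.toSheaf X.ringCatSheaf).map φ) n x) := by
  obtain ⟨_, _⟩ := QRlimLib.exists_isTriangulated_rpush (X ↘ Spec (CommRingCat.of A))
  haveI : (DCoh.RpushQ (X ↘ Spec (CommRingCat.of A)) hf).IsTriangulated :=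
    ObjectProperty.isTriangulated_lift _ ((DCoh.IsQCohD (X := X)).ι ⋙ DCoh.Rpush (X ↘ Spec (CommRingCat.of A))) _
  letI := adj.rightAdjointCommShift ℤ
  let W' := W⟦m⟧
  let eW' : W'.obj ≅ (DCoh.tildeD (CommRingCat.of A)).obj (ω⟦m⟧) :=
    ((DCoh.IsQCohD (X := Spec (CommRingCat.of A))).ι.commShiftIso m).app W ≪≫ (shiftFunctor _ m).mapIso eW ≪≫
      (((DCoh.tildeD (CommRingCat.of A)).commShiftIso m).app ω).symm
  haveI : (ω⟦m⟧).IsGE 0 := TStructure.t.isGE_shift ω m m 0 (by omega)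
  let s : (a.obj W').obj ≅ (a.obj W).obj⟦m⟧ :=
    (DCoh.IsQCohD (X := X)).ι.mapIso ((a.commShiftIso m).app W) ≪≫
      ((DCoh.IsQCohD (X := X)).ι.commShiftIso m).app _
  haveI := hge
  haveI : ((a.obj W).obj⟦m⟧).IsGE (-(n : ℤ)) := TStructure.t.isGE_shift _ c m (-(n : ℤ)) (by omega)
  have hge' : (a.obj W').obj.IsGE (-(n : ℤ)) := TStructure.t.isGE_of_iso s.symm _
  obtain ⟨t, ht⟩ := exists_trace_zero hf a adj n W' eW' hge'
  let α : DCoh.HD (a.obj W').obj (-(n : ℤ)) ≅ DCoh.HD (a.obj W).obj c :=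
    (homologyFunctor X.Modules (-(n : ℤ))).mapIso s ≪≫
      ((homologyFunctor X.Modules 0).shiftIso m (-(n : ℤ)) c (by omega)).app _
  let β : (homologyFunctor (ModuleCat.{u} A) 0).obj (ω⟦m⟧) ≃ₗ[A] (homologyFunctor (ModuleCat.{u} A) m).obj ω :=
    (((homologyFunctor (ModuleCat.{u} A) 0).shiftIso m 0 m (by omega)).app ω).toLinearEquiv
  refine ⟨β.toLinearMap.comp (t.comp (hMapL α.inv n)), fun F hF hv ψ => ?_⟩
  obtain ⟨φ, hφ, huniq⟩ := ht F hF hv (β.symm.toLinearMap.comp ψ)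
  have key : ∀ (φ' : F ⟶ DCoh.HD (a.obj W).obj c) (x : Coh.HH X F n),
      ψ x = (β.toLinearMap.comp (t.comp (hMapL α.inv n)))
          (Sheaf.H.map ((SheafOfModules.toSheaf X.ringCatSheaf).map φ') n x) ↔
        β.symm (ψ x) = t (Sheaf.H.map ((SheafOfModules.toSheaf X.ringCatSheaf).map (φ' ≫ α.inv)) n x) :=
    fun φ' x => by
      rw [hMap_comp]
      exact β.symm_apply_eq.symm
  refine ⟨φ ≫ α.hom, fun x => (key _ x).2 (by rw [Category.assoc, Iso.hom_inv_id, Category.comp_id]; exact hφ x),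
    fun φ' hφ' => ?_⟩
  rw [← huniq (φ' ≫ α.inv) fun x => (key φ' x).1 (hφ' x), Category.assoc, Iso.inv_hom_id, Category.comp_id]

end Groth.Agent.Dual3Lib
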