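import Groth.Agent.Dual3Lib.Supported
import Groth.Agent.Dual3Lib.ProjNat
import Groth.Agent.Dual3Lib.Detect
import Groth.Agent.DCohRestrLib.RHomRestr

/-!
# The right adjoint of `Rf_*` preserves supports
-/

set_option autoImplicit false
set_option linter.style.haveILetI false
set_option backward.isDefEq.respectTransparency false
set_option backward.isDefEq.respectTransparency.types false
set_option maxHeartbeats 1000000

universe u

open CategoryTheory CategoryTheory.Limits AlgebraicGeometry CategoryTheory.Pretriangulated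
open HomologicalComplex
open Groth.Agent.DerLib Groth.Agent.PerfDualLib Groth.Agent.ProjFormLib

attribute [local instance] HasDerivedCategory.standard

namespace Groth.Agent.Dual3Lib

variable {X Y : Scheme.{u}}

theorem isZero_rightAdjoint_obj {C D : Type*} [Category C] [Category D] [HasZeroMorphisms C]
    [HasZeroMorphisms D] {L : C ⥤ D} {R : D ⥤ C} (adj : L ⊣ R) {Z : D} (h : IsZero Z) :
    IsZero (R.obj Z) := by
  rw [IsZero.iff_id_eq_zero]
  exact (adj.homEquiv _ _).symm.injective (h.eq_of_tgt _ _)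

theorem qisOn_of_isIso_restrictD (U : X.Opens) {C D : Cx X} (μ : C ⟶ D)
    (h : IsIso ((DCoh.restrictD U.ι).map (DerivedCategory.Q.map μ))) : QisOn U μ := by
  refine qisOn_of_acyOn_cone fun x hx n => ?_
  have hT := (DCoh.restrictD U.ι).map_distinguished _
    (DerivedCategory.mappingCone_triangle_distinguished μ)
  have hz := (Pretriangulated.Triangle.isZero₃_iff_isIso₁ _ hT).2 h
  have h1 := (DCohRestrLib.isZero_restrictD_iff U _).1 hz n x hx
  haveI : Subsingleton ((DerSch.stalkFunctor X x).obj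
      ((DerivedCategory.Q ⋙ DerivedCategory.homologyFunctor X.Modules n).obj
        (CochainComplex.mappingCone μ))) := not_not.1 h1
  exact IsZero.of_iso (ModuleCat.isZero_of_subsingleton _)
    ((KFlatLib.stalkHomologyIso _ x n) ≪≫ (DerSch.stalkFunctor X x).mapIso
      ((DerivedCategory.homologyFunctorFactors X.Modules n).app _).symm)

/-- `(Q A) ⊗^L` against K-flat complexes, naturally. -/
theorem exists_gamma (A : Cx Y) [DCoh.HasLTensorCx A] :
    ∃ γ : ∀ F : Cx Y, DCoh.IsKFlat F →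
      ((DCoh.LTensorCx A).obj (DerivedCategory.Q.obj F) ≅ DerivedCategory.Q.obj (Gen.t2 (Tb Y) A F)),
      ∀ (F F' : Cx Y) (hF : DCoh.IsKFlat F) (hF' : DCoh.IsKFlat F') (μ : F ⟶ F'),
        (DCoh.LTensorCx A).map (DerivedCategory.Q.map μ) ≫ (γ F' hF').hom =
          (γ F hF).hom ≫ DerivedCategory.Q.map ((Gen.tL (Tb Y) A).map μ) := by
  refine ⟨fun F hF => @asIso _ _ _ _ ((TensorAssocLib.cnt A).app F)
    (TensorAssocLib.isIso_cnt_of_kFlat A F hF) ≪≫ DerivedCategory.Q.mapIso (bX F A),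
    fun F F' hF hF' μ => ?_⟩
  have h1 := (TensorAssocLib.cnt A).naturality μ
  simp only [Iso.trans_hom, asIso_hom, Functor.mapIso_hom]
  refine (Category.assoc _ _ _).symm.trans ((congrArg (· ≫ _) h1).trans ?_)
  refine (Category.assoc _ _ _).trans ((congrArg (_ ≫ ·) ?_).trans (Category.assoc _ _ _).symm)
  exact (DerivedCategory.Q.map_comp _ _).symm.trans
    ((congrArg DerivedCategory.Q.map (bX_natural μ (𝟙 A))).trans (DerivedCategory.Q.map_comp _ _))

/-- Twisting by the pull-back of a model of the structure sheaf. -/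
theorem exists_eta (f : X ⟶ Y) (I : Cx X) (F₀ : Cx Y) (hF₀ : DCoh.IsKFlat F₀)
    (e₀ : DerivedCategory.Q.obj F₀ ≅ DerivedCategory.Q.obj (unitCx Y)) :
    Nonempty (DerivedCategory.Q.obj ((Gen.tL (Tb X) I).obj ((pullC f).obj F₀)) ≅
      DerivedCategory.Q.obj I) := by
  obtain ⟨J, hJ, ⟨eJ⟩⟩ := KInjUse.exists_iso_Q_kInjective (DerivedCategory.Q.obj (unitCx Y))
  obtain ⟨q₀, hq₀, -⟩ := exists_quasiIso (e₀ ≪≫ eJ)
  obtain ⟨q₁, hq₁, -⟩ := exists_quasiIso eJ
  have hu := KFlatLib.isKFlat_of_isStrictlyPerfect (isStrictlyPerfect_unitCx Y)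
  let P := (KFlatLib.resP Y).obj J
  have hP : DCoh.IsKFlat P := (KFlatLib.good_resP J).1
  have key : ∀ {F : Cx Y} (_ : DCoh.IsKFlat F) (q : F ⟶ J) [QuasiIso q],
      Nonempty (DerivedCategory.Q.obj ((Gen.tL (Tb X) I).obj ((pullC f).obj F)) ≅
        DerivedCategory.Q.obj ((Gen.tL (Tb X) I).obj ((pullC f).obj P))) := fun {F} hF q _ => by
    let F' := (KFlatLib.resP Y).obj F
    have hF' : DCoh.IsKFlat F' := (KFlatLib.good_resP F).1
    let a : F' ⟶ F := (KFlatLib.resψ Y).app F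
    let b : F' ⟶ P := (KFlatLib.resP Y).map q
    haveI : QuasiIso ((KFlatLib.resψ Y).app F) := KFlatLib.quasiIso_resψ _
    haveI : QuasiIso ((KFlatLib.resψ Y).app J) := KFlatLib.quasiIso_resψ _
    haveI : QuasiIso b := by
      haveI : QuasiIso ((KFlatLib.resP Y).map q ≫ (KFlatLib.resψ Y).app J) := by
        rw [(KFlatLib.resψ Y).naturality q]
        change QuasiIso ((KFlatLib.resψ Y).app F ≫ q)
        exact quasiIso_comp _ _
      exact quasiIso_of_comp_right ((KFlatLib.resP Y).map q) ((KFlatLib.resψ Y).app J)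
    have hq : ∀ {A B : Cx Y} (_ : DCoh.IsKFlat A) (_ : DCoh.IsKFlat B) (c : A ⟶ B) [QuasiIso c],
        IsIso (DerivedCategory.Q.map ((Gen.tL (Tb X) I).map ((pullC f).map c))) :=
      fun {A B} hA hB c _ =>
        (DerivedCategory.isIso_Q_map_iff_quasiIso _ _).2 (quasiIso_of_qisOn_top
          (qisOn_tL_flat I (KFlatLib.isKFlat_pull f hA) (KFlatLib.isKFlat_pull f hB)
            (qisOn_pull f hA hB (QisOn.of_quasiIso ⊤ c))))
    haveI := hq hF' hF a
    haveI := hq hF' hP b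
    exact ⟨(asIso (DerivedCategory.Q.map ((Gen.tL (Tb X) I).map ((pullC f).map a)))).symm ≪≫
      asIso (DerivedCategory.Q.map ((Gen.tL (Tb X) I).map ((pullC f).map b)))⟩
  obtain ⟨c₀⟩ := key hF₀ q₀
  obtain ⟨c₁⟩ := key hu q₁
  let eu : (pullC f).obj (unitCx Y) ≅ unitCx X :=
    (singleMapHomologicalComplex (Scheme.Modules.pullback f) (ComplexShape.up ℤ) 0).app
      (Coh.structureModule Y) ≪≫
      (single X.Modules (ComplexShape.up ℤ) 0).mapIso (KFlatLib.pullUnitIso (f := f))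
  exact ⟨c₀ ≪≫ c₁.symm ≪≫ DerivedCategory.Q.mapIso
    ((Gen.tL (Tb X) I).mapIso eu ≪≫ unitNat.app I)⟩

variable [CompactSpace X] [QuasiSeparatedSpace X] [CompactSpace Y] [QuasiSeparatedSpace Y]
  (f : X ⟶ Y) [QuasiCompact f] [QuasiSeparated f] [DCoh.HasRpush f]
  (hf : DCoh.RpushPreservesQCoh f) (a : DCoh.DQCoh Y ⥤ DCoh.DQCoh X) (adj : DCoh.RpushQ f hf ⊣ a)
  (Q : DCoh.DQCoh Y)

/-- `RHom` out of direct images of perfect complexes into `Q` has quasi-coherent cohomology. -/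
def RHomQCoh : Prop :=
  ∀ (A : Cx Y) [DCoh.HasLTensorCx A] [DCoh.HasRSheafHom A] (G : DCoh.D X), DCoh.IsPerfect G →
    Nonempty (DerivedCategory.Q.obj A ≅ (DCoh.Rpush f).obj G) →
      DCoh.IsQCohD ((DCoh.RSheafHom A).obj Q.obj)

include adj in
/-- Maps from perfect objects into `a Q` are killed over the preimage of the open where `Q`
vanishes. -/
theorem exists_kill_rightAdjoint (hRH : RHomQCoh f Q) (V : Y.Opens) (hV : IsCompact (V : Set Y))
    (hQV : IsZero ((DCoh.restrictD V.ι).obj Q.obj)) {G : DCoh.D X} (hG : DCoh.IsPerfect G)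
    (h : G ⟶ (a.obj Q).obj) :
    ∃ (G' : DCoh.D X) (w : G' ⟶ G), IsIso ((DCoh.restrictD (f ⁻¹ᵁ V).ι).map w) ∧ w ≫ h = 0 := by
  obtain ⟨I, hI, ⟨eI⟩⟩ := KInjUse.exists_iso_Q_kInjective G
  let A := (KFlatLib.resP Y).obj ((pushC f).obj I)
  let ψ : A ⟶ (pushC f).obj I := (KFlatLib.resψ Y).app ((pushC f).obj I)
  haveI hψ : QuasiIso ψ := KFlatLib.quasiIso_resψ _
  have hA : DCoh.IsKFlat A := (KFlatLib.good_resP _).1
  haveI := KFlatLib.hasLTensorCx A
  haveI := BidualSchLib.hasRSheafHom A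
  haveI := isIso_pushQ f I
  let C := (DCoh.RSheafHom A).obj Q.obj
  have hC : DCoh.IsQCohD C := hRH A G hG ⟨asIso (DerivedCategory.Q.map ψ) ≪≫ asIso (pushQ f I) ≪≫
    (DCoh.Rpush f).mapIso eI.symm⟩
  have hCV : IsZero ((DCoh.restrictD V.ι).obj C) := by
    haveI := PerfCompLib.preservesFiniteLimits_extZero V
    haveI := KFlatLib.hasLTensorCx ((DCohRestrLib.resCx V).obj A)
    haveI := BidualSchLib.hasRSheafHom ((DCohRestrLib.resCx V).obj A)
    obtain ⟨e⟩ := DCohRestrLib.nonempty_restrict_RSheafHom V A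
    exact (isZero_rightAdjoint_obj (DCoh.RSheafHomAdj _) hQV).of_iso (e.app Q.obj)
  obtain ⟨γ, hγ⟩ := exists_gamma A
  have hu := KFlatLib.isKFlat_of_isStrictlyPerfect (isStrictlyPerfect_unitCx Y)
  obtain ⟨J, hJ, ⟨eJ⟩⟩ := KInjUse.exists_iso_Q_kInjective (DerivedCategory.Q.obj (unitCx Y))
  let F₀ := (KFlatLib.resP Y).obj J
  have hF₀ : DCoh.IsKFlat F₀ := (KFlatLib.good_resP J).1
  haveI := KFlatLib.quasiIso_resψ (X := Y) J
  let j₀ : DerivedCategory.Q.obj F₀ ≅ DerivedCategory.Q.obj J :=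
    asIso (DerivedCategory.Q.map ((KFlatLib.resψ Y).app J))
  let e₀ : DerivedCategory.Q.obj F₀ ≅ DerivedCategory.Q.obj (unitCx Y) := j₀ ≪≫ eJ.symm
  have hp₀ : DCoh.IsPerfect (DerivedCategory.Q.obj F₀) :=
    PerfLib.isPerfect_of_iso e₀.symm (PerfBaseLib.isPerfect_unitCx Y)
  obtain ⟨η⟩ := exists_eta f I F₀ hF₀ e₀
  let T₀ := DerivedCategory.Q.obj ((Gen.tL (Tb X) I).obj ((pullC f).obj F₀))
  let η' : T₀ ≅ G := η ≪≫ eI.symm
  let T₀' : DCoh.DQCoh X :=
    ⟨T₀, KFlatLib.isQCohD_iso η'.symm (KoszOrthLib.isQCohD_of_isPerfect hG)⟩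
  let h₀ : T₀' ⟶ a.obj Q := ObjectProperty.homMk (η'.hom ≫ h)
  let α : (DCoh.Rpush f).obj T₀ ⟶ Q.obj := ((adj.homEquiv _ _).symm h₀).hom
  let α' : (DCoh.LTensorCx A).obj (DerivedCategory.Q.obj F₀) ⟶ Q.obj :=
    (γ F₀ hF₀).hom ≫ beta f ψ F₀ ≫ α
  let s := (DCoh.RSheafHomAdj A).homEquiv _ _ α'
  obtain ⟨K', w, hK', hwV, hws⟩ := exists_kill V hV hp₀ hC hCV s
  let K := DerivedCategory.Q.objPreimage K'
  let eK := DerivedCategory.Q.objObjPreimageIso K'
  obtain ⟨m, hm⟩ := KInjUse.Q_map_surjective K J (eK.hom ≫ w ≫ j₀.hom)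
  let F₁ := (KFlatLib.resP Y).obj K
  have hF₁ : DCoh.IsKFlat F₁ := (KFlatLib.good_resP K).1
  haveI := KFlatLib.quasiIso_resψ (X := Y) K
  let j₁ : DerivedCategory.Q.obj F₁ ≅ DerivedCategory.Q.obj K :=
    asIso (DerivedCategory.Q.map ((KFlatLib.resψ Y).app K))
  let μ : F₁ ⟶ F₀ := (KFlatLib.resP Y).map m
  have hμ : DerivedCategory.Q.map μ = (j₁ ≪≫ eK).hom ≫ w := by
    rw [← cancel_mono j₀.hom]
    have hnat := congrArg DerivedCategory.Q.map ((KFlatLib.resψ Y).naturality m)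
    rw [Functor.map_comp, Functor.map_comp] at hnat
    simp only [Iso.trans_hom, Category.assoc]
    exact hnat.trans (congrArg (j₁.hom ≫ ·) hm)
  have hp₁ : DCoh.IsPerfect (DerivedCategory.Q.obj F₁) := PerfLib.isPerfect_of_iso (j₁ ≪≫ eK).symm hK'
  have hμV : QisOn V μ := qisOn_of_isIso_restrictD V μ (by
    haveI := hwV
    rw [hμ, Functor.map_comp]
    infer_instance)
  let tμ := DerivedCategory.Q.map ((Gen.tL (Tb X) I).map ((pullC f).map μ))
  refine ⟨_, tμ ≫ η'.hom, ?_, ?_⟩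
  · haveI := isIso_restrictD_of_qisOn (f ⁻¹ᵁ V) (qisOn_tL_flat I (KFlatLib.isKFlat_pull f hF₁)
      (KFlatLib.isKFlat_pull f hF₀) (qisOn_pull f hF₁ hF₀ hμV))
    rw [Functor.map_comp]
    infer_instance
  · have hT₁ : DCoh.IsQCohD (DerivedCategory.Q.obj ((Gen.tL (Tb X) I).obj ((pullC f).obj F₁))) := by
      haveI := KFlatLib.hasLTensorCx ((pullC f).obj F₁)
      haveI := KFlatLib.hasLpull f
      haveI := TensorAssocLib.isIso_cnt ((pullC f).obj F₁) (KFlatLib.isKFlat_pull f hF₁) I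
      refine KFlatLib.isQCohD_iso (asIso ((TensorAssocLib.cnt ((pullC f).obj F₁)).app I))
        (KFlatLib.isQCohD_lTensorCx _ ?_ _
          (KFlatLib.isQCohD_iso eI (KoszOrthLib.isQCohD_of_isPerfect hG)))
      exact KFlatLib.isQCohD_iso (KFlatLib.lpullObjIso f F₁ hF₁)
        (KFlatLib.isQCohD_lpull f _ (KoszOrthLib.isQCohD_of_isPerfect hp₁))
    haveI := isIso_beta_of_isPerfect f ψ hA F₁ hF₁ hp₁
    have hzero : (DCoh.LTensorCx A).map (DerivedCategory.Q.map μ) ≫ α' = 0 := by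
      haveI : (DCoh.LTensorCx A).IsLeftAdjoint := (DCoh.RSheafHomAdj A).isLeftAdjoint
      have hs : α' = ((DCoh.RSheafHomAdj A).homEquiv _ _).symm s := (Equiv.symm_apply_apply _ _).symm
      rw [hs, ← (DCoh.RSheafHomAdj A).homEquiv_naturality_left_symm, hμ, Category.assoc, hws,
        comp_zero, Adjunction.homEquiv_counit, Functor.map_zero, zero_comp]
    have hα : (DCoh.Rpush f).map tμ ≫ α = 0 := by
      rw [← cancel_epi (beta f ψ F₁), ← cancel_epi (γ F₁ hF₁).hom, comp_zero, comp_zero]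
      refine Eq.trans ?_ hzero
      simp only [α', ← Category.assoc]
      refine congrArg (· ≫ α) ?_
      rw [Category.assoc, Category.assoc, ← beta_natural f ψ μ]
      exact ((reassoc_of% hγ F₁ F₀ hF₁ hF₀ μ) _).symm
    let T₁' : DCoh.DQCoh X := ⟨_, hT₁⟩
    let t' : T₁' ⟶ T₀' := ObjectProperty.homMk tμ
    have h1 : t' ≫ h₀ = 0 := by
      apply (adj.homEquiv _ _).symm.injective
      rw [adj.homEquiv_naturality_left_symm]
      obtain ⟨_, _⟩ := QRlimLib.exists_isTriangulated_rpush f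
      refine ObjectProperty.hom_ext _ (hα.trans ?_)
      have hz : (adj.homEquiv T₁' Q).symm 0 = 0 := by
        haveI : (DCoh.RpushQ f hf).Additive := ⟨fun {U W p q} => (DCoh.IsQCohD (X := Y)).ι.map_injective
          ((ObjectProperty.ι DCoh.IsQCohD ⋙ DCoh.Rpush f).map_add (f := p) (g := q))⟩
        exact (adj.homAddEquiv T₁' Q).symm.map_zero
      rw [hz]
      rfl
    exact (Category.assoc _ _ _).trans (congrArg (fun t : T₁' ⟶ a.obj Q => t.hom) h1)

include adj in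
/-- The right adjoint of `Rf_*` preserves vanishing over a quasi-compact open. -/
theorem isZero_restrictD_rightAdjoint (hRH : RHomQCoh f Q) (V : Y.Opens) (hV : IsCompact (V : Set Y))
    (hQV : IsZero ((DCoh.restrictD V.ι).obj Q.obj)) :
    IsZero ((DCoh.restrictD (f ⁻¹ᵁ V).ι).obj (a.obj Q).obj) := by
  let W := f ⁻¹ᵁ V
  let R := DCoh.restrictD W.ι
  let E := (a.obj Q).obj
  have hW : IsCompact (W : Set X) := f.isCompact_preimage hV
  haveI : CompactSpace (W : Scheme.{u}) := isCompact_iff_compactSpace.mp hW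
  haveI : QuasiCompact W.ι := quasiCompact_of_compactSpace _
  haveI := DCohRestrLib.hasRpush W.ι
  let adjW := KoszOrthLib.restrictRpushAdj W.ι
  let C := (DCoh.Rpush W.ι).obj (R.obj E)
  have hE : DCoh.IsQCohD E := (a.obj Q).property
  have hCq : DCoh.IsQCohD C := QRlimLib.isQCohD_rpush W.ι (KoszOrthLib.isQCohD_restrictD W.ι hE)
  obtain ⟨L, ι, d, hL⟩ := distinguished_cocone_triangle₁ (adjW.unit.app E)
  have hLW : vanP W L := by
    haveI := KoszOrthLib.isIso_restrictD_unit W.ι adjW E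
    exact ((R.mapTriangle.obj (Triangle.mk ι (adjW.unit.app E) d)).isZero₁_iff_isIso₂
      (R.map_distinguished _ hL)).2 ‹_›
  have hLq : DCoh.IsQCohD L := KFlatLib.isQCohD₂ (inv_rot_of_distTriang _ hL)
    (KFlatLib.isQCohD_shift hCq (-1)) hE
  have key : ∀ (P : DCoh.D X), DCoh.IsPerfect P → ∀ φ : P ⟶ C, φ = 0 := by
    intro P hP φ
    obtain ⟨P', w₁, hP', hw₁, hk₁⟩ := exists_kill W hW hP (KFlatLib.isQCohD_shift hLq 1)
      ((vanP W).le_shift (1 : ℤ) _ hLW) (φ ≫ d)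
    obtain ⟨g, hg⟩ := Triangle.coyoneda_exact₃ _ hL (w₁ ≫ φ) ((Category.assoc _ _ _).trans hk₁)
    change w₁ ≫ φ = g ≫ adjW.unit.app E at hg
    obtain ⟨P'', w₂, hw₂, hk₂⟩ := exists_kill_rightAdjoint f hf a adj Q hRH V hV hQV hP' g
    have h0 : (w₂ ≫ w₁) ≫ φ = 0 := by
      rw [Category.assoc, hg, ← Category.assoc, hk₂, zero_comp]
    apply (adjW.homEquiv _ _).symm.injective
    haveI := hw₁
    haveI := hw₂
    haveI : IsIso (R.map (w₂ ≫ w₁)) := by
      rw [R.map_comp]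
      infer_instance
    rw [← cancel_epi (R.map (w₂ ≫ w₁)), ← adjW.homEquiv_naturality_left_symm,
      ← adjW.homEquiv_naturality_left_symm, h0, comp_zero]
  have hC : IsZero C := by
    obtain ⟨G, hG, -, hgen⟩ := KoszOrthLib.hasGen_of_qcqs X Set.univ isClosed_univ
      (by simp [IsRetrocompact])
    exact hgen C hCq (fun _ => Set.subset_univ _) fun n φ => key _ (PerfLib.isPerfect_shift hG n) φ
  haveI := KoszOrthLib.isIso_restrictD_unit W.ι adjW E
  exact (R.map_isZero hC).of_iso (asIso (R.map (adjW.unit.app E)))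

end Groth.Agent.Dual3Lib
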